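import Cfsg.Agent.As.J
import Cfsg.Agent.Be.L2

/-! Basics for ZD (notes/zd1.md, part 0): involutions centralising `X / O(X)`; the class `Z`. -/

set_option autoImplicit false

namespace Cfsg.Agent.As

open Subgroup MulAction Cfsg.Agent.H1 Cfsg.Agent.L Cfsg.Agent.FT Cfsg.Agent.FT.B1
open Cfsg.Agent.Be (invs sq_of_two inv_of_two two_of_sq ne_one_of_two odd_orderOf_of_mem odd_core
  le_core_of_odd conj_smul_smul two_conj)
open Cfsg.Agent.Be.P1 (orb conj_st conj_st2 le_st_smul swap_norm)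
open scoped Pointwise commutatorElement

section Gen
variable {G : Type*} [Group G] [Finite G] {X U P : Subgroup G} {t x k : G} {p : ℕ}

/-- the involution `t` normalises `X` and centralises `X / O(X)` -/
structure Iso (X : Subgroup G) (t : G) : Prop where
  tt : t * t = 1
  norm : t ∈ 𝐍(X)
  comm : ∀ x ∈ X, x * t * x⁻¹ * t ∈ core {2}ᶜ X

theorem iso_of_isolated (ht : orderOf t = 2) (hn : t ∈ 𝐍(X))
    (h : ∀ x ∈ X, Commute t (x * t * x⁻¹) → x * t * x⁻¹ = t) : Iso X t := by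
  have tt := sq_of_two ht
  have it := inv_of_two ht
  refine ⟨tt, hn, fun x hx => ?_⟩
  have m : t ∈ X ⊔ zpowers t := mem_sup_right (mem_zpowers t)
  have := H6.zstar (z := (⟨t, m⟩ : (X ⊔ zpowers t : Subgroup G))) ⟨by rw [← Subgroup.orderOf_coe, ht],
    fun g hg => Subtype.ext (by
      obtain ⟨y, hy, z, hz, e⟩ := ((NormalIn.self_norm X).mem_sup (zpowers_le.2 hn)).1
        (sup_le_sup_left le_rfl X g.2)
      have e2 : (g : G) * t * (g : G)⁻¹ = y * t * y⁻¹ := by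
        rw [← e]; rcases Be.zpowers_cases tt hz with rfl | rfl <;> simp [mul_assoc]
      have := hg.map (X ⊔ zpowers t).subtype
      simp only [coe_subtype, coe_mul, coe_inv] at this ⊢
      rw [e2] at this ⊢
      exact h y hy this)⟩ ⟨x, mem_sup_left hx⟩
  have h2 : (t * x * t⁻¹ * x⁻¹)⁻¹ ∈ core {2}ᶜ (X ⊔ zpowers t) :=
    inv_mem (by rw [Be.core_two_eq]; exact mem_map_of_mem _ this)
  have e : (t * x * t⁻¹ * x⁻¹)⁻¹ = x * t * x⁻¹ * t := by simp [it, mul_assoc]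
  rw [e] at h2
  refine core_inf_le le_sup_left ⟨h2, ?_⟩
  simpa [it, mul_assoc] using mul_mem hx (conj_mem_of_mem_normalizer hn (inv_mem hx))

theorem iso_of_odd (hX : Odd #|X|) (tt : t * t = 1) (hn : t ∈ 𝐍(X)) : Iso X t :=
  ⟨tt, hn, fun _ hx => le_core_of_odd (NormalIn.refl X) hX (Be.P1.comm_mem_invs tt hn hx).1⟩

namespace Iso

omit [Finite G] in
theorem normO (h : Iso X t) : t ∈ 𝐍(core {2}ᶜ X) := norm_le_norm_core _ _ h.norm

theorem mono (h : Iso X t) (hU : U ≤ X) (hn : t ∈ 𝐍(U)) : Iso U t :=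
  ⟨h.tt, hn, fun x hx => core_inf_le hU ⟨h.comm x (hU hx), (Be.P1.comm_mem_invs h.tt hn hx).1⟩⟩

omit [Finite G] in
theorem mem_core (h : Iso X t) (hk : k ∈ X) (ho : Odd (orderOf k)) (hi : t * k * t = k⁻¹) :
    k ∈ core {2}ᶜ X := by
  obtain ⟨m, hm⟩ := Be.P1.exists_comm_of_inv h.tt ho hi
  exact hm ▸ h.comm _ (X.pow_mem hk m)

theorem dec (h : Iso X t) (hx : x ∈ X) : ∃ k ∈ invs (core {2}ᶜ X) t,
    k ∈ zpowers (x * t * x⁻¹ * t) ∧ k * t * k⁻¹ = x * t * x⁻¹ ∧ k⁻¹ * x ∈ X ⊓ 𝐂[t] := by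
  have hy := h.comm x hx
  have it : t⁻¹ = t := inv_eq_of_mul_eq_one_right h.tt
  obtain ⟨m, hm⟩ := Sz.exists_sqrt_of_odd (odd_orderOf_of_mem (odd_core X) hy)
  have h2 := Be.P1.pow_inverted h.tt (Be.P1.inv_comm_inv h.tt x) m
  have hk := pow_mem hy m
  have hz := npow_mem_zpowers (x * t * x⁻¹ * t) m
  generalize (x * t * x⁻¹ * t) ^ m = k at hm h2 hk hz
  have e : k * t * k⁻¹ = x * t * x⁻¹ := by
    rw [← h2, ← mul_assoc, ← mul_assoc, mul_assoc k t t, h.tt, mul_one, hm, mul_assoc, h.tt, mul_one]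
  refine ⟨k, ⟨hk, h2⟩, hz, e, X.mul_mem (X.inv_mem (core_le _ _ hk)) hx, mem_cent1.2 ?_⟩
  calc k⁻¹ * x * t = k⁻¹ * (x * t * x⁻¹) * x := by group
    _ = t * (k⁻¹ * x) := by rw [← e]; group

theorem card (h : Iso X t) : #|X| = (invs (core {2}ᶜ X) t).ncard * #|X ⊓ 𝐂[t]| :=
  Be.card_eq_of_factor (fun _ h => core_le _ _ h.1) inf_le_left
    (fun _ hd => let ⟨k, h1, _, _, h2⟩ := h.dec hd; ⟨k, h1, h2⟩)
    fun _ hk _ hk' e => Be.invs_eq_of_cent (odd_core X) h.tt hk hk' e.2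

theorem norm_of_le (h : Iso X t) (h1 : core {2}ᶜ X ≤ U) (hU : U ≤ X) : t ∈ 𝐍(U) :=
  mem_norm_of_conj_le fun y hy => by
    obtain ⟨x, hx, rfl⟩ := mem_conj'.1 hy
    have := U.mul_mem (U.inv_mem (h1 (h.comm x (hU hx)))) hx
    simpa [mul_assoc, inv_eq_of_mul_eq_one_right h.tt] using this

theorem norm_sup (h : Iso X t) (hU : U ≤ X) : t ∈ 𝐍(core {2}ᶜ X ⊔ U) :=
  h.norm_of_le le_sup_left (sup_le (core_le _ _) hU)

theorem exists_sylow (h : Iso X t) (hp : p.Prime) (hp2 : p ≠ 2) (hUX : U ≤ X) (hU : IsPGroup p U)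
    (htU : t ∈ 𝐍(U)) : ∃ P, IsSylowIn p P X ∧ U ≤ P ∧ t ∈ 𝐍(P) := by
  haveI := Fact.mk hp
  obtain ⟨Q, hQ, hUQ⟩ := exists_isSylowIn_ge hU hUX
  obtain ⟨P, hP, h1, h2⟩ := Be.exists_inv_sylow hp (Be.P1.odd_sup (odd_core X)
    (Be.PL.odd_pgroup hp hp2 hQ.isPGroup) (hQ.le.trans (core_normal _ X).norm)) h.tt
    (h.norm_sup hQ.le) (hUQ.trans le_sup_right) hU htU
  exact ⟨P, hQ.of_card_le hP.isPGroup (hP.le.trans (sup_le (core_le _ _) hQ.le))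
    (hP.card_le hQ.isPGroup le_sup_right), h1, h2⟩

theorem invs_eq (h : Iso X t) (hP : P ≤ X) (ho : Odd #|P|) : invs P t = invs (P ⊓ core {2}ᶜ X) t :=
  Set.ext fun _ => ⟨fun hk => ⟨⟨hk.1, h.mem_core (hP hk.1) (odd_orderOf_of_mem ho hk.1) hk.2⟩, hk.2⟩,
    fun hk => ⟨hk.1.1, hk.2⟩⟩

/-- (n3) -/
theorem ncard_sylow (h : Iso X t) (hp : p.Prime) (hp2 : p ≠ 2) (hP : IsSylowIn p P X)
    (htP : t ∈ 𝐍(P)) : (invs P t).ncard = p ^ ((invs (core {2}ᶜ X) t).ncard).factorization p := by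
  rw [h.invs_eq hP.le (Be.PL.odd_pgroup hp hp2 hP.isPGroup)]
  exact Be.ncard_invs_sylow hp (odd_core X) h.tt h.normO (sylow_inf_normal' hp hP (core_normal _ X))
    (Be.PL.mem_norm_inf htP h.normO)

/-- a Sylow subgroup is normalised by a conjugate of `t` -/
theorem exists_norm (h : Iso X t) (hp : p.Prime) (hp2 : p ≠ 2) (hP : IsSylowIn p P X) :
    ∃ x ∈ X, x * t * x⁻¹ ∈ 𝐍(P) := by
  obtain ⟨Q, hQ, -, h1⟩ := h.exists_sylow hp hp2 bot_le IsPGroup.of_bot (by rw [norm_bot]; trivial)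
  obtain ⟨x, hx, rfl⟩ := sylow_exists_conj_eq hp hQ hP
  exact ⟨x, hx, by rw [← conj_norm]; exact conj_mem_conj x h1⟩

end Iso

end Gen

end Cfsg.Agent.As
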