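import Cfsg.Agent.As.A0

/-! Basics for ZD (notes/zd1.md, part 0): the action. -/

set_option autoImplicit false

namespace Cfsg.Agent.As

open Subgroup MulAction Cfsg.Agent.H1 Cfsg.Agent.L Cfsg.Agent.FT Cfsg.Agent.FT.B1
open Cfsg.Agent.Be (invs sq_of_two inv_of_two two_of_sq ne_one_of_two odd_orderOf_of_mem odd_core
  le_core_of_odd conj_smul_smul two_conj)
open Cfsg.Agent.Be.P1 (orb conj_st conj_st2 le_st_smul swap_norm not_le_of_ne)
open scoped Pointwise commutatorElement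

variable {G Ω : Type} [Group G] [MulAction G Ω] {Z : Set G}
variable {a b s t g k k' y d u x : G} {α β γ δ φ μ : Ω} {N X U P : Subgroup G} {p : ℕ}

local notation "St" => stabilizer G

/-- the elements of `Z` fixing `α` -/
def II (Z : Set G) (α : Ω) : Set G := {a | a ∈ Z ∧ a • α = α}

theorem FourZ.mono (h : FourZ Z N) (hK : N ≤ X) : FourZ Z X := by
  obtain ⟨a, ha, b, hb, h⟩ := h
  exact ⟨a, hK ha, b, hK hb, h⟩

section Hyp
variable [c : Hyp Ω Z]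

include c in
theorem ztwo (ha : a ∈ Z) : orderOf a = 2 := c.two a ha

include c in
theorem zconj (ha : a ∈ Z) (g : G) : g * a * g⁻¹ ∈ Z := c.conj a ha g

include c in
theorem zsq (ha : a ∈ Z) : a * a = 1 := by
  have := pow_orderOf_eq_one a; rwa [c.two a ha, pow_two] at this

include c in
theorem zinv (ha : a ∈ Z) : a⁻¹ = a := inv_eq_of_mul_eq_one_right (zsq (Ω := Ω) ha)

theorem fix_unique (ha : a ∈ Z) (h1 : a • α = α) (h2 : a • β = β) : α = β :=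
  (c.fix1 a ha).unique h1 h2

theorem exists_fix (Ω : Type) [MulAction G Ω] [c : Hyp Ω Z] (ha : a ∈ Z) : ∃ α : Ω, a • α = α :=
  (c.fix1 a ha).exists

theorem zsmul (ha : a ∈ Z) (α : Ω) : a • a • α = α := by rw [smul_smul, zsq (Ω := Ω) ha, one_smul]

theorem fix_of_conj (ha : a ∈ Z) (h : a • α = α) (h' : (g * a * g⁻¹) • α = α) : g • α = α :=
  fix_unique (c.conj a ha g) (conj_smul_smul h g) h'

theorem fix_of_comm (ha : a ∈ Z) (h : a • α = α) (h' : g * a = a * g) : g • α = α :=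
  fix_of_conj ha h (by rw [h', mul_inv_cancel_right, h])

theorem cent1_le_stab (ha : a ∈ Z) (h : a • α = α) : 𝐂[a] ≤ St α :=
  fun _ hg => fix_of_comm ha h (mem_cent1.1 hg)

theorem smul_ne (ha : a ∈ Z) (h1 : a • δ = δ) (h : φ ≠ δ) : a • φ ≠ φ :=
  fun e => h (fix_unique ha e h1)

theorem FourZ.conj (h : FourZ Z N) (Ω : Type) [MulAction G Ω] [c : Hyp Ω Z] (g : G) :
    FourZ Z (g ⋆ N) := by
  obtain ⟨a, ha, b, hb, a2, b2, hne, hc⟩ := h
  exact ⟨_, conj_mem_conj g ha, _, conj_mem_conj g hb, c.conj a a2 g, c.conj b b2 g,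
    fun e => hne (by simpa using e), hc.conj g⟩

theorem FourZ.smul (h : FourZ Z (N ⊓ St δ)) (hg : g ∈ N) : FourZ Z (N ⊓ St (g • δ)) := by
  have := h.conj Ω g
  rwa [conj_inf, conj_of_mem hg, conj_st] at this

variable [Finite G]

/-- a product of two distinct commuting elements of `Z` fixes only one point -/
theorem fix_mul (ha : a ∈ Z) (hb : b ∈ Z) (hne : a ≠ b) (hc : Commute a b) (h : a • α = α)
    (h' : (a * b) • β = β) : β = α := by
  by_contra e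
  have := Sz.eq_one_of_odd_of_sq (c.odd a ha b hb α β h h' e) (by
    rw [mul_assoc, ← mul_assoc b, ← hc.eq, mul_assoc, zsq (Ω := Ω) hb, mul_one, zsq (Ω := Ω) ha])
  exact hne (by rw [eq_inv_of_mul_eq_one_left this, zinv (Ω := Ω) hb])

theorem odd_mul (ha : a ∈ Z) (hb : b ∈ Z) (h1 : a • α = α) (h2 : b • α ≠ α) :
    Odd (orderOf (a * b)) := by
  by_contra h
  obtain ⟨w, -, w2, wa, wb, d, -, e⟩ := H6.exists_central_involution_of_even (zsq (Ω := Ω) ha)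
    (zsq (Ω := Ω) hb) (Nat.not_odd_iff_even.1 h)
  have hz : w * a ∈ Z := by rcases e with e | e <;> rw [← e] <;> apply c.conj <;> assumption
  obtain ⟨β, hβ⟩ := exists_fix Ω hb
  have := fix_mul ha hz (fun e => ne_one_of_two w2 (by simpa using e.symm))
    (wa.symm.mul_right (Commute.refl a)) h1 (β := β) (by
      rw [wa.eq, ← mul_assoc, zsq (Ω := Ω) ha, one_mul]; exact fix_of_comm hb hβ wb.eq)
  exact h2 (this ▸ hβ)

/-- two elements of `Z` swapping the same points have a product of odd order -/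
theorem odd_swap (ha : a ∈ Z) (hb : b ∈ Z) (hne : α ≠ β) (h1 : a • α = β) (h2 : b • α = β) :
    Odd (orderOf (a * b)) := by
  obtain ⟨γ, hγ⟩ := exists_fix Ω ha
  exact c.odd a ha b hb γ α hγ (by rw [mul_smul, h2, ← h1, zsmul ha]) fun e =>
    hne (by rw [← h1, e, hγ])

/-- (inv) -/
theorem eq_one_of_inv (ht : t ∈ Z) (hy : t * y * t = y⁻¹) (ho : Odd (orderOf y)) (hb : b ∈ Z)
    (h : b • α = α) (hc : y * b = b * y) (htα : t • α ≠ α) : y = 1 := by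
  refine H6.eq_one_of_inverted_by_odd (odd_mul hb ht h htα) ho ?_
  calc b * t * y * (b * t)⁻¹ = b * (t * y * t⁻¹) * b⁻¹ := by group
    _ = _ := by rw [zinv (Ω := Ω) ht, hy, mul_inv_eq_iff_eq_mul, eq_inv_mul_iff_mul_eq, ← mul_assoc,
      hc, mul_inv_cancel_right]

/-- elements of `Z` at different points are swapped by an element of `Z` in the dihedral group -/
theorem exists_conj_swap (ha : a ∈ Z) (hb : b ∈ Z) (h1 : a • α = α) (h2 : b • β = β)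
    (h : α ≠ β) : ∃ v ∈ Z, v * a * v = b ∧ v • α = β ∧ v • β = α ∧
      ∀ N : Subgroup G, a ∈ N → b ∈ N → v ∈ N := by
  have ho := odd_mul ha hb h1 fun e => h (fix_unique hb e h2)
  have aa := zsq (Ω := Ω) ha
  obtain ⟨v, vv, e, hv⟩ := H6.exists_involution_conj_of_odd aa (zsq (Ω := Ω) hb) ho
  have e1 : v • α = β := fix_unique hb (e ▸ conj_smul_smul h1 v) h2
  obtain ⟨d, -, hd⟩ := H6.exists_conj_of_odd aa vv (by
    rw [← orderOf_inv, mul_inv_rev, zinv (Ω := Ω) ha, inv_eq_of_mul_eq_one_right vv]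
    exact ho.of_dvd_nat (orderOf_dvd_of_mem_zpowers hv))
  refine ⟨v, hd ▸ c.conj a ha d, by rw [← e, inv_eq_of_mul_eq_one_right vv], e1,
    by rw [← e1, smul_smul, vv, one_smul], fun N haN hbN => ?_⟩
  exact (N.mul_mem_cancel_right haN).1 (zpowers_le.2 (N.mul_mem haN hbN) hv)

/-- two points of the orbit `δ^N` are swapped by an element of `Z ∩ N` -/
theorem exists_swap (ha : a ∈ Z) (h : a • δ = δ) (haN : a ∈ N) (hα : α ∈ orb N δ)
    (hβ : β ∈ orb N δ) (hne : α ≠ β) : ∃ t ∈ N, t ∈ Z ∧ t • α = β ∧ t • β = α := by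
  obtain ⟨m, hm, rfl⟩ := hα
  obtain ⟨n, hn, rfl⟩ := hβ
  obtain ⟨v, h1, -, h2, h3, h4⟩ := exists_conj_swap (c.conj a ha m) (c.conj a ha n)
    (conj_smul_smul h m) (conj_smul_smul h n) hne
  exact ⟨v, h4 N (N.mul_mem (N.mul_mem hm haN) (N.inv_mem hm))
    (N.mul_mem (N.mul_mem hn haN) (N.inv_mem hn)), h1, h2, h3⟩

/-- the fixed point of an element of `Z ∩ N` lies in the orbit -/
theorem mem_orb_of_II (ha : a ∈ Z) (h : a • δ = δ) (haN : a ∈ N) (hb : b ∈ Z)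
    (h' : b • α = α) (hbN : b ∈ N) : α ∈ orb N δ := by
  by_cases e : δ = α
  · exact e ▸ Be.P1.self_mem_orb _ δ
  obtain ⟨v, -, -, h2, -, h4⟩ := exists_conj_swap ha hb h h' e
  exact ⟨v, h4 N haN hbN, h2⟩

/-- the elements of `Z ∩ N` are conjugate in `N` -/
theorem exists_conj_in (ha : a ∈ Z) (h : a • δ = δ) (haN : a ∈ N) (hN : ¬ N ≤ St δ) (hb : b ∈ Z)
    (hbN : b ∈ N) : ∃ n ∈ N, n * a * n⁻¹ = b := by
  have key : ∀ {a b : G} {α : Ω}, a ∈ Z → a • α = α → a ∈ N → b ∈ Z → b ∈ N → b • α ≠ α →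
      ∃ n ∈ N, n * a * n⁻¹ = b := fun ha h haN hb hbN hne => by
    obtain ⟨β, hβ⟩ := exists_fix Ω hb
    obtain ⟨v, v1, v2, -, -, v3⟩ := exists_conj_swap ha hb h hβ fun e => hne (e ▸ hβ)
    exact ⟨v, v3 N haN hbN, by rw [zinv (Ω := Ω) v1, v2]⟩
  by_cases e : b • δ = δ
  · obtain ⟨g, hg, hg'⟩ := SetLike.not_le_iff_exists.1 hN
    obtain ⟨n, hn, e'⟩ := key (c.conj a ha g) (conj_smul_smul h g)
      (N.mul_mem (N.mul_mem hg haN) (N.inv_mem hg)) hb hbN fun e' => hg' (fix_unique hb e' e)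
    exact ⟨n * g, N.mul_mem hn hg, by rw [← e']; group⟩
  · exact key ha h haN hb hbN e

theorem iso_swap (ht : t ∈ Z) (h1 : t • α = β) (hne : α ≠ β) (hX : X ≤ St α ⊓ St β)
    (hn : t ∈ 𝐍(X)) : Iso X t :=
  iso_of_isolated (c.two t ht) hn fun x hx hc => by
    by_contra e
    obtain ⟨γ, hγ⟩ := exists_fix Ω ht
    have := fix_mul ht (c.conj t ht x) (Ne.symm e) hc hγ (β := α) (by
      rw [mul_smul, mul_smul, mul_smul, show x⁻¹ • α = α from (hX (X.inv_mem hx)).1, h1,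
        show x • β = β from (hX hx).2, ← h1, zsmul ht])
    exact hne (by rw [← h1, this, hγ])

theorem iso_stab2 (ht : t ∈ Z) (h1 : t • α = β) (hne : α ≠ β) : Iso (St α ⊓ St β) t :=
  iso_swap ht h1 hne le_rfl (swap_norm h1 (h1 ▸ zsmul ht α))

/-- rank one -/
theorem iso_of_not_four (ha : a ∈ Z) (h : a • δ = δ) (haN : a ∈ N) (h4 : ¬ FourZ Z (N ⊓ St δ)) :
    Iso N a :=
  iso_of_isolated (c.two a ha) (le_normalizer haN) fun x hx hc => by_contra fun e =>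
    h4 ⟨a, ⟨haN, h⟩, _, ⟨N.mul_mem (N.mul_mem hx haN) (N.inv_mem hx), fix_of_comm ha h hc.eq.symm⟩,
      ha, c.conj a ha x, Ne.symm e, hc⟩

/-- (NZ) -/
theorem le_stab_of_notMem (ha : a ∈ Z) (hb : b ∈ Z) (hc : Commute a b) (h : a • δ = δ)
    (na : a ∈ 𝐍(X)) (nb : b ∈ 𝐍(X)) (hX : b * a ∉ X) : X ≤ St δ := by
  intro x hx
  by_contra hxH
  have aa := zsq (Ω := Ω) ha
  have ho := odd_mul hb (c.conj a ha x) (fix_of_comm ha h hc.eq.symm) fun e => hxH (fix_of_conj ha h e)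
  have nba : b * a ∈ 𝐍(X) := mul_mem nb na
  have key : ∀ n : ℕ, (b * (x * a * x⁻¹)) ^ n * ((b * a) ^ n)⁻¹ ∈ X := fun n => by
    induction n with
    | zero => simp [X.one_mem]
    | succ n ih =>
      have e : (b * (x * a * x⁻¹)) ^ (n + 1) * ((b * a) ^ (n + 1))⁻¹ =
          (b * (x * (a * x⁻¹ * a⁻¹)) * b⁻¹) * ((b * a) * ((b * (x * a * x⁻¹)) ^ n *
            ((b * a) ^ n)⁻¹) * (b * a)⁻¹) := by
        rw [pow_succ', pow_succ' (b * a)]
        generalize (b * (x * a * x⁻¹)) ^ n = u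
        generalize (b * a) ^ n = v
        group
      rw [e]
      exact X.mul_mem (conj_mem_of_mem_normalizer nb (X.mul_mem hx
        (conj_mem_of_mem_normalizer na (X.inv_mem hx)))) (conj_mem_of_mem_normalizer nba ih)
  have hba : b * a * (b * a) = 1 := by
    rw [mul_assoc, ← mul_assoc a, hc.eq, mul_assoc, aa, mul_one, zsq (Ω := Ω) hb]
  obtain ⟨m, hm⟩ := ho
  have h1 := key (2 * m + 1)
  rw [← hm, pow_orderOf_eq_one, hm, pow_succ, pow_mul, pow_two, hba, one_pow, one_mul, one_mul,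
    X.inv_mem_iff] at h1
  exact hX h1

/-- an odd subgroup normalised by a four-group fixes its point -/
theorem le_stab_of_four (hX : Odd #|X|) (h4 : FourZ Z (𝐍(X) ⊓ St δ)) : X ≤ St δ := by
  obtain ⟨a, ha, b, hb, h1, h2, hne, hc⟩ := h4
  refine le_stab_of_notMem h1 h2 hc ha.2 ha.1 hb.1 fun h => hne ?_
  have := Sz.eq_one_of_odd_of_sq (odd_orderOf_of_mem hX h) (by
    rw [mul_assoc, ← mul_assoc a, hc.eq, mul_assoc, zsq (Ω := Ω) h1, mul_one, zsq (Ω := Ω) h2])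
  rw [eq_inv_of_mul_eq_one_right this, zinv (Ω := Ω) h2]

/-- (NZ) under `Clo` -/
theorem le_stab_of_disj [Clo Z] (hX : ∀ z ∈ Z, z ∉ X) (h4 : FourZ Z (𝐍(X) ⊓ St δ)) : X ≤ St δ := by
  obtain ⟨a, ha, b, hb, h1, h2, hne, hc⟩ := h4
  exact le_stab_of_notMem h1 h2 hc ha.2 ha.1 hb.1 (hX _ (Clo.mul b h2 a h1 hne.symm hc.symm))

theorem core_le_stab (h4 : FourZ Z (N ⊓ St δ)) : core {2}ᶜ N ≤ St δ :=
  le_stab_of_four (odd_core N) (h4.mono (inf_le_inf_right _ (core_normal _ N).norm))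

/-- `K(t)` is transitive on `Z_α` -/
theorem exists_invs_conj (ht : t ∈ Z) (h1 : t • α = β) (hne : α ≠ β) (hs : s ∈ Z) (h : s • α = α)
    (hb : b ∈ Z) (h' : b • α = α) : ∃ k ∈ invs (core {2}ᶜ (St α ⊓ St β)) t, k * s * k⁻¹ = b ∧
      ∀ N : Subgroup G, t ∈ N → s ∈ N → b ∈ N → k ∈ N := by
  have h2 : t • β = α := h1 ▸ zsmul ht α
  obtain ⟨v, v2, e, e1, e2, hv⟩ := exists_conj_swap hs (c.conj b hb t) h
    (h1 ▸ conj_smul_smul h' t) hne
  have it := zinv (Ω := Ω) ht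
  have iv := zinv (Ω := Ω) v2
  have tt := zsq (Ω := Ω) ht
  have hi : t * (t * v) * t = (t * v)⁻¹ := by rw [← mul_assoc, tt, one_mul, mul_inv_rev, it, iv]
  refine ⟨t * v, ⟨(iso_stab2 ht h1 hne).mem_core ⟨show (t * v) • α = α by rw [mul_smul, e1, h2],
    show (t * v) • β = β by rw [mul_smul, e2, h1]⟩ (odd_swap ht v2 hne h1 e1) hi, hi⟩, ?_,
    fun N htN hsN hbN => N.mul_mem htN (hv N hsN (N.mul_mem (N.mul_mem htN hbN) (N.inv_mem htN)))⟩
  calc t * v * s * (t * v)⁻¹ = t * (v * s * v⁻¹) * t⁻¹ := by group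
    _ = b := by rw [iv, e, it]; simp [mul_assoc, ← mul_assoc t t, tt]

omit [Finite G] in
include c in
theorem mul_inv_mem (ht : t ∈ Z) (hk : t * k * t = k⁻¹) (ho : Odd (orderOf k)) : t * k ∈ Z := by
  obtain ⟨m, hm⟩ := Be.P1.exists_comm_of_inv (zsq (Ω := Ω) ht) ho hk
  have := c.conj _ (c.conj t ht (k ^ m)) t
  rwa [zinv (Ω := Ω) ht, mul_assoc, hm] at this

/-- `K(t)` is regular on `Z_α` -/
theorem invs_inj (ht : t ∈ Z) (htα : t • α ≠ α) (hs : s ∈ Z) (h : s • α = α)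
    (hk : t * k * t = k⁻¹) (hk' : t * k' * t = k'⁻¹) (o : Odd (orderOf k)) (o' : Odd (orderOf k'))
    (hα : k' • α = α) (e : k'⁻¹ * k ∈ 𝐂[s]) : k = k' := by
  have tt := zsq (Ω := Ω) ht
  have h3 : k'⁻¹ * k = t * k' * (t * k) := by rw [← mul_assoc, hk']
  have h4 : k • α = α := by
    have : (k'⁻¹ * k) • α = α := cent1_le_stab hs h e
    rwa [mul_smul, inv_smul_eq_iff, hα] at this
  have := eq_one_of_inv (y := k'⁻¹ * k) (mul_inv_mem (Ω := Ω) ht hk' o') (by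
    calc t * k' * (k'⁻¹ * k) * (t * k') = t * k * t * k' := by group
      _ = (k'⁻¹ * k)⁻¹ := by rw [hk]; group)
    (h3 ▸ odd_swap (mul_inv_mem (Ω := Ω) ht hk' o') (mul_inv_mem (Ω := Ω) ht hk o) htα.symm
      (by rw [mul_smul, hα]) (by rw [mul_smul, h4])) hs h (mem_cent1.1 e) (by rwa [mul_smul, hα])
  exact (inv_mul_eq_one.1 this).symm

/-- (n2) -/
theorem ncard_invs (ht : t ∈ Z) (htN : t ∈ N) (h1 : t • α = β) (hne : α ≠ β)
    (hs : s ∈ Z) (h : s • α = α) (hsN : s ∈ N) :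
    (invs (N ⊓ core {2}ᶜ (St α ⊓ St β)) t).ncard = (II Z α ∩ N).ncard := by
  have o := fun k (hk : k ∈ N ⊓ core {2}ᶜ (St α ⊓ St β)) => odd_orderOf_of_mem (odd_core _) hk.2
  refine Set.ncard_congr (fun k _ => k * s * k⁻¹) (fun k hk => ⟨⟨c.conj s hs k, ?_⟩,
    N.mul_mem (N.mul_mem hk.1.1 hsN) (N.inv_mem hk.1.1)⟩) (fun k k' hk hk' e => ?_) fun b hb => ?_
  · have := conj_smul_smul h k; rwa [show k • α = α from (core_le _ _ hk.1.2).1] at this
  · refine invs_inj ht (h1 ▸ hne.symm) hs h hk.2 hk'.2 (o _ hk.1) (o _ hk'.1)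
      (core_le _ _ hk'.1.2).1 (mem_cent1.2 ?_)
    calc k'⁻¹ * k * s = k'⁻¹ * (k * s * k⁻¹) * k := by group
      _ = s * (k'⁻¹ * k) := by rw [e]; group
  · obtain ⟨k, hk, e, hN⟩ := exists_invs_conj ht h1 hne hs h hb.1.1 hb.1.2
    exact ⟨k, ⟨⟨hN N htN hsN hb.2, hk.1⟩, hk.2⟩, e⟩

omit [Finite G] in
theorem ncard_II_smul (hg : g ∈ N) (α : Ω) : (II Z (g • α) ∩ N).ncard = (II Z α ∩ N).ncard := by
  symm
  refine Set.ncard_congr (fun a _ => g * a * g⁻¹) (fun a ha => ⟨⟨c.conj a ha.1.1 g,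
    conj_smul_smul ha.1.2 g⟩, N.mul_mem (N.mul_mem hg ha.2) (N.inv_mem hg)⟩)
    (fun a b _ _ e => by simpa using e) fun b hb => ⟨g⁻¹ * b * g⁻¹⁻¹, ⟨⟨c.conj b hb.1.1 _, ?_⟩,
      N.mul_mem (N.mul_mem (N.inv_mem hg) hb.2) (N.inv_mem (N.inv_mem hg))⟩, by group⟩
  simpa using conj_smul_smul hb.1.2 g⁻¹

/-- S-type pairs: a Sylow subgroup of `X_{αβ}` is normalised by a swap in `Z` -/
theorem exists_swap_norm (hp : p.Prime) (hp2 : p ≠ 2) (hne : α ≠ β)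
    (hU : IsSylowIn p U (X ⊓ (St α ⊓ St β))) (ht : t ∈ Z) (htX : t ∈ X) (h1 : t • α = β) :
    ∃ v ∈ X, v ∈ 𝐍(U) ∧ v ∈ Z ∧ v • α = β ∧ v • β = α := by
  obtain ⟨x, hx, h⟩ := (iso_swap ht h1 hne inf_le_right (Be.PL.mem_norm_inf (le_normalizer htX)
    (iso_stab2 ht h1 hne).norm)).exists_norm hp hp2 hU
  have e : (x * t * x⁻¹) • α = β := by
    rw [mul_smul, mul_smul, show x⁻¹ • α = α from (inv_mem hx).2.1, h1]; exact hx.2.2
  exact ⟨_, X.mul_mem (X.mul_mem hx.1 htX) (X.inv_mem hx.1), h, c.conj t ht x, e,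
    e ▸ zsmul (c.conj t ht x) α⟩

end Hyp

section Red
variable [c : Red Ω Z]

include c in
theorem eq_one_of_fix_all (h : ∀ α : Ω, g • α = α) : g = 1 := c.faith g h

theorem exists_smul (c : Red Ω Z) (α β : Ω) : ∃ g : G, g • α = β :=
  haveI := c.trans; exists_smul_eq G α β

theorem four_stab (c : Red Ω Z) (α : Ω) : FourZ Z (St α) := by
  obtain ⟨a, -, b, -, ha, hb, hne, hc⟩ := c.four
  obtain ⟨β, hβ⟩ := exists_fix Ω ha
  obtain ⟨g, rfl⟩ := exists_smul c β α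
  simpa using FourZ.smul (N := ⊤) ⟨a, ⟨trivial, hβ⟩, b, ⟨trivial, fix_of_comm ha hβ hc.eq.symm⟩, ha, hb,
    hne, hc⟩ (mem_top g)

theorem exists_II (c : Red Ω Z) (α : Ω) : ∃ a ∈ Z, a • α = α :=
  let ⟨a, h, _, _, h2, _⟩ := four_stab c α; ⟨a, h2, h⟩

theorem stab_ne_top (c : Red Ω Z) (α : Ω) : St α ≠ ⊤ := fun h => by
  haveI := c.nontriv
  obtain ⟨β, hβ⟩ := exists_ne α
  obtain ⟨g, rfl⟩ := exists_smul c α β
  exact hβ (show g ∈ St α from h ▸ mem_top g)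

theorem norm_ne_top (c : Red Ω Z) (h0 : X ≠ ⊥) (h1 : X ≤ St α) : 𝐍(X) ≠ ⊤ := fun h =>
  h0 (eq_bot_iff.2 fun x hx => c.faith x fun β => by
    obtain ⟨g, rfl⟩ := exists_smul c α β
    exact le_st_smul (h ▸ mem_top g) h1 hx)

theorem ncard_II (α β : Ω) : (II Z α).ncard = (II Z β).ncard := by
  obtain ⟨g, rfl⟩ := exists_smul c β α
  simpa using ncard_II_smul (N := ⊤) (mem_top g) β

variable [Finite G]

theorem finΩ (c : Red Ω Z) : Finite Ω := by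
  haveI := c.nontriv
  obtain ⟨α⟩ : Nonempty Ω := inferInstance
  exact Finite.of_surjective (fun g : G => g • α) fun β => exists_smul c α β

theorem exists_swap_top (c : Red Ω Z) (hne : α ≠ β) : ∃ t ∈ Z, t • α = β ∧ t • β = α := by
  obtain ⟨a, ha, h⟩ := exists_II c α
  obtain ⟨b, hb, h'⟩ := exists_II c β
  obtain ⟨v, h1, -, h2, h3, -⟩ := exists_conj_swap ha hb h h' hne
  exact ⟨v, h1, h2, h3⟩

theorem ncard_invs_top (ht : t ∈ Z) (h1 : t • α = β) (hne : α ≠ β) (γ : Ω) :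
    (invs (core {2}ᶜ (St α ⊓ St β)) t).ncard = (II Z γ).ncard := by
  obtain ⟨s, hs, h⟩ := exists_II c α
  simpa [ncard_II α γ] using ncard_invs ht (mem_top t) h1 hne hs h (mem_top s)

/-- `G_{αβ} = O(G_{αβ}) C(s)` -/
theorem dec_stab2 (hne : α ≠ β) (hs : s ∈ Z) (h : s • α = α) (hd : d ∈ St α ⊓ St β) :
    ∃ k ∈ core {2}ᶜ (St α ⊓ St β), k⁻¹ * d ∈ St β ⊓ 𝐂[s] := by
  obtain ⟨t, ht, h1, -⟩ := exists_swap_top c hne
  obtain ⟨k, hk, e, -⟩ := exists_invs_conj ht h1 hne hs h (zconj (Ω := Ω) hs d)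
    (by simpa [show d • α = α from hd.1] using conj_smul_smul h d)
  refine ⟨k, hk.1, (St β).mul_mem ((St β).inv_mem (core_le _ _ hk.1).2) hd.2, mem_cent1.2 ?_⟩
  calc k⁻¹ * d * s = k⁻¹ * (d * s * d⁻¹) * d := by group
    _ = s * (k⁻¹ * d) := by rw [← e]; group

/-- `|G_{αβ}| = r |C_{G_{αβ}}(s)|` -/
theorem card_stab2 (hne : α ≠ β) (hs : s ∈ Z) (h : s • α = α) :
    #|St α ⊓ St β| = (II Z α).ncard * #|St β ⊓ 𝐂[s]| := by
  obtain ⟨t, ht, h1, h2⟩ := exists_swap_top c hne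
  rw [← ncard_invs_top ht h1 hne]
  refine Be.card_eq_of_factor (fun _ h => core_le _ _ h.1) (le_inf (inf_le_right.trans
    (cent1_le_stab hs h)) inf_le_left) (fun d hd => ?_) fun k hk k' hk' e =>
    invs_inj ht (h1 ▸ hne.symm) hs h hk.2 hk'.2 (odd_orderOf_of_mem (odd_core _) hk.1)
      (odd_orderOf_of_mem (odd_core _) hk'.1) (core_le _ _ hk'.1).1 e.2
  obtain ⟨k, hk, e, -⟩ := exists_invs_conj ht h1 hne hs h (zconj (Ω := Ω) hs d)
    (by simpa [show d • α = α from hd.1] using conj_smul_smul h d)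
  refine ⟨k, hk, (St β).mul_mem ((St β).inv_mem (core_le _ _ hk.1).2) hd.2, mem_cent1.2 ?_⟩
  calc k⁻¹ * d * s = k⁻¹ * (d * s * d⁻¹) * d := by group
    _ = s * (k⁻¹ * d) := by rw [← e]; group

/-- (n1) -/
theorem card_n1 (ha : a ∈ Z) (h : a • δ = δ) (hne : φ ≠ δ) :
    #|St φ ⊓ St (a • φ)| = #|St δ ⊓ St φ| := by
  have h1 := (smul_ne ha h hne).symm
  rw [card_stab2 hne.symm ha h, (iso_stab2 ha rfl h1).card, ncard_invs_top ha rfl h1 δ]
  refine congrArg (fun X : Subgroup G => _ * #|X|) ?_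
  refine le_antisymm (inf_le_inf_right _ inf_le_left) fun x hx => ⟨⟨hx.1, ?_⟩, hx.2⟩
  show x • a • φ = a • φ
  rw [smul_smul, mem_cent1.1 hx.2, mul_smul, show x • φ = φ from hx.1]

theorem odd_ncard_II (α : Ω) : Odd (II Z α).ncard := by
  haveI := c.nontriv
  obtain ⟨β, hβ⟩ := exists_ne α
  obtain ⟨t, ht, h1, -⟩ := exists_swap_top c hβ.symm
  have h := iso_stab2 ht h1 hβ.symm
  exact (odd_core (St α ⊓ St β)).of_dvd_nat (by
    rw [Be.card_invs (odd_core _) h.tt h.normO, ncard_invs_top ht h1 hβ.symm α]; exact dvd_mul_right _ _)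

theorem one_lt_ncard_II (α : Ω) : 1 < (II Z α).ncard := by
  obtain ⟨a, h, b, h', h1, h2, hne, -⟩ := four_stab c α
  exact (Set.one_lt_ncard (Set.toFinite _)).2 ⟨a, ⟨h1, h⟩, b, ⟨h2, h'⟩, hne⟩

/-- (n3) -/
theorem n3 (hp : p.Prime) (hp2 : p ≠ 2) (ht : t ∈ Z) (h1 : t • α = β) (h : α ≠ β)
    (hP : IsSylowIn p P (St α ⊓ St β)) (hn : t ∈ 𝐍(P)) (γ : Ω) :
    (invs P t).ncard = p ^ (II Z γ).ncard.factorization p := by
  rw [(iso_stab2 ht h1 h).ncard_sylow hp hp2 hP hn, ncard_invs_top ht h1 h γ]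

theorem stype (c : Red Ω Z) (hp : p.Prime) (hp2 : p ≠ 2) (h : α ≠ β)
    (hU : IsSylowIn p U (St α ⊓ St β)) : ∃ t ∈ 𝐍(U), t ∈ Z ∧ t • α = β ∧ t • β = α := by
  obtain ⟨g, hg, h1, -⟩ := exists_swap_top c h
  obtain ⟨t, -, h⟩ := exists_swap_norm (X := ⊤) hp hp2 h (by rwa [top_inf_eq]) hg (mem_top g) h1
  exact ⟨t, h⟩

/-- (tri) -/
theorem tri (hu : u ∈ Z) (h : u • μ = μ) (hne : α ≠ μ) (hX : Odd #|X|) (hl : X ≤ St α ⊓ St μ)
    (hn : St α ⊓ 𝐂[u] ≤ 𝐍(X)) : X ≤ core {2}ᶜ (St α ⊓ St μ) := by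
  have hO := core_normal {2}ᶜ (St α ⊓ St μ)
  refine le_sup_right.trans (le_core_of_odd ⟨sup_le hO.le hl, fun d hd => ?_⟩
    (Be.P1.odd_sup (odd_core _) hX (hl.trans hO.norm)))
  obtain ⟨k, hk, e⟩ := dec_stab2 hne.symm hu h ⟨hd.2, hd.1⟩
  rw [inf_comm] at hk
  have := mul_mem (le_normalizer (mem_sup_left (T := X) hk)) (zpowers_le.1 (le_normalizer_sup
    (zpowers_le.2 (hO.norm (mul_mem (inv_mem (hO.le hk)) hd))) (zpowers_le.2 (hn e))))
  simpa using this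

/-- (tri) for `O(G_{αβ}) ∩ G_μ` -/
theorem tri' (hu : u ∈ Z) (h : u • μ = μ) (hne : α ≠ μ) :
    core {2}ᶜ (St α ⊓ St (u • α)) ⊓ St μ ≤ core {2}ᶜ (St α ⊓ St μ) :=
  tri hu h hne (odd_of_le (odd_core _) inf_le_left)
    (inf_le_inf_right _ ((core_le _ _).trans inf_le_left)) fun x hx => Be.PL.mem_norm_inf
      ((core_normal _ _).norm ⟨hx.1, show x • u • α = u • α by
        rw [smul_smul, mem_cent1.1 hx.2, mul_smul, show x • α = α from hx.1]⟩)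
      (le_normalizer (cent1_le_stab hu h hx.2))

theorem full_of {M : Subgroup G} {m : Ω} (h1 : M ≠ ⊤) (h2 : core {2}ᶜ (St α ⊓ St m) ≤ M) (hu : u ∈ M)
    (u2 : u ∈ Z) (h3 : u • m = m) (h4 : ¬ M ≤ St m) (h5 : α ≠ m) : Full Ω Z := by
  refine ⟨M, m, h1, fun b b2 hb => ?_, h4⟩
  obtain ⟨t, ht, e, -⟩ := exists_swap_top c h5.symm
  obtain ⟨k, hk, rfl, -⟩ := exists_invs_conj ht e h5.symm u2 h3 b2 hb
  have : k ∈ M := h2 (inf_comm (St m) _ ▸ hk.1)
  exact M.mul_mem (M.mul_mem this hu) (M.inv_mem this)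

/-- an element of odd class: a `2`-subgroup fixing `α` centralises an element of `Z_α` -/
theorem exists_cent (c : Red Ω Z) (hU : IsPGroup 2 U) (h : U ≤ St α) : ∃ a ∈ Z, a • α = α ∧ a ∈ 𝐂(U) := by
  obtain ⟨a, ha, e⟩ := Be.P1.exists_fix (Ω := Be.P1.Cj G) (O := (II Z α : Set G)) Nat.prime_two hU
    (Set.toFinite (II Z α : Set G)) (fun u hu (x : G) hx => ⟨zconj (Ω := Ω) hx.1 u, by
      have := conj_smul_smul (G := G) hx.2 u
      rwa [show u • α = α from h hu] at this⟩)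
    (by rw [← even_iff_two_dvd, Nat.not_even_iff_odd]; exact odd_ncard_II (G := G) α)
  have key : ∀ b : G, U ≤ stabilizer G (show Be.P1.Cj G from b) → b ∈ 𝐂(U) := fun b e =>
    mem_cent.2 fun u hu => mul_inv_eq_iff_eq_mul.1 (show u * b * u⁻¹ = b from e hu)
  exact ⟨a, ha.1, ha.2, key a e⟩

end Red

end Cfsg.Agent.As
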