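import Cfsg.Agent.As.A1

/-! ZD, part 0: proper subgroups of Bender type. -/

set_option autoImplicit false

namespace Cfsg.Agent.As

open Subgroup MulAction Cfsg.Agent.H1 Cfsg.Agent.L Cfsg.Agent.FT Cfsg.Agent.FT.B1
open Cfsg.Agent.Be (invs sq_of_two inv_of_two two_of_sq ne_one_of_two odd_orderOf_of_mem odd_core
  le_core_of_odd conj_smul_smul two_conj)
open Cfsg.Agent.Be.P1 (orb conj_st conj_st2 le_st_smul swap_norm not_le_of_ne self_mem_orb smul_mem_orb)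
open scoped Pointwise commutatorElement

variable {G Ω : Type} [Group G] [MulAction G Ω] {Z : Set G}
variable {a b s t g x : G} {α β γ δ : Ω} {N X U : Subgroup G}

local notation "St" => stabilizer G

theorem Red.sys [Finite G] [Be.BeI] (c : Red Ω Z) (h : IsStronglyEmbedded (St δ)) :
    ∃ S : Sz.Sys G, S.H = St δ ∧ S.Rk2 ∧ IsPGroup 2 S.Q := by
  obtain ⟨a, ha, b, hb, a2, b2, h1⟩ := four_stab c δ
  refine Be.BeI.sys _ h ⟨a, ha, b, hb, c.two a a2, c.two b b2, h1⟩ (eq_bot_iff.2 fun x hx =>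
    c.faith x fun β => ?_)
  obtain ⟨g, rfl⟩ := exists_smul c δ β
  simpa [mul_assoc] using conj_smul_smul (hx g⁻¹) g

/-- the subgroup generated by `Z ∩ N` -/
def ZZ (Z : Set G) (N : Subgroup G) : Subgroup G := closure (Z ∩ N)

theorem ZZ_le : ZZ Z N ≤ N := (closure_le N).2 Set.inter_subset_right

theorem mem_ZZ (ha : a ∈ Z) (h : a ∈ N) : a ∈ ZZ Z N := subset_closure ⟨ha, h⟩

/-- the elements of `N` fixing the orbit of `δ` pointwise -/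
def Ker (N : Subgroup G) (δ : Ω) : Subgroup G := N ⊓ ⨅ g : N, St ((g : G) • δ)

theorem mem_Ker : x ∈ Ker N δ ↔ x ∈ N ∧ ∀ α ∈ orb N δ, x • α = α :=
  mem_inf.trans (and_congr_right fun _ => mem_iInf.trans
    ⟨fun h _ ⟨g, hg, e⟩ => e ▸ h ⟨g, hg⟩, fun h g => h _ ⟨g, g.2, rfl⟩⟩)

theorem Ker_normal [Finite G] : Ker N δ ⊴ N :=
  ⟨inf_le_left, le_norm_iff.2 fun g hg x hx => mem_Ker.2 ⟨N.mul_mem (N.mul_mem hg hx.1) (N.inv_mem hg),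
    fun α hα => by
      simpa using conj_smul_smul ((mem_Ker.1 hx).2 _ (smul_mem_orb (N.inv_mem hg) hα)) g⟩⟩

theorem Ker_smul (hα : α ∈ orb N δ) : Ker N α = Ker N δ := by
  ext x
  rw [mem_Ker, mem_Ker]
  exact and_congr_right fun _ => ⟨fun h β hβ => h β (Be.P1.orb_rel hβ hα),
    fun h β hβ => h β (Be.P1.orb_trans hβ hα)⟩

theorem ZZ_normal [Finite G] (Ω : Type) [MulAction G Ω] [c : Hyp Ω Z] : ZZ Z N ⊴ N :=
  ⟨ZZ_le, le_norm_of_conj fun g hg => conj_le_iff.2 ((closure_le _).2 fun x hx =>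
    mem_conj.2 (by
      simpa using mem_ZZ (c.conj x hx.1 g) (N.mul_mem (N.mul_mem hg hx.2) (N.inv_mem hg))))⟩

variable (Z) in
/-- Bender type -/
structure BT (N : Subgroup G) (δ : Ω) : Prop where
  ne : N ≠ ⊤
  four : FourZ Z (N ⊓ St δ)
  nle : ¬ N ≤ St δ

namespace BT

theorem exists_II (h : BT Z N δ) : ∃ a ∈ N, a ∈ Z ∧ a • δ = δ :=
  let ⟨a, ha, _, _, h1, _⟩ := h.four; ⟨a, ha.1, h1, ha.2⟩

section
variable [Hyp Ω Z]

theorem smul (h : BT Z N δ) (hα : α ∈ orb N δ) : BT Z N α := by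
  obtain ⟨n, hn, rfl⟩ := hα
  refine ⟨h.ne, h.four.smul hn, fun e => h.nle ?_⟩
  rwa [← conj_st, le_conj_iff, conj_of_mem (N.inv_mem hn)] at e

variable [Finite G]

theorem exists_swap (h : BT Z N δ) (hα : α ∈ orb N δ) (hβ : β ∈ orb N δ) (hne : α ≠ β) :
    ∃ t ∈ N, t ∈ Z ∧ t • α = β ∧ t • β = α :=
  let ⟨_, haN, ha, haδ⟩ := h.exists_II; As.exists_swap ha haδ haN hα hβ hne

theorem exists_t (h : BT Z N δ) : ∃ t ∈ N, t ∈ Z ∧ t • δ ≠ δ := by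
  obtain ⟨β, hβ, hne⟩ := Be.P1.exists_ne_of_not_le h.nle
  obtain ⟨t, h1, h2, h3, -⟩ := h.exists_swap (self_mem_orb N δ) hβ hne.symm
  exact ⟨t, h1, h2, h3 ▸ hne⟩

theorem mem_orb (h : BT Z N δ) (hb : b ∈ Z) (hbN : b ∈ N) (h' : b • α = α) : α ∈ orb N δ :=
  let ⟨_, haN, ha, haδ⟩ := h.exists_II; mem_orb_of_II ha haδ haN hb h' hbN

theorem orb_ZZ (h : BT Z N δ) (hα : α ∈ orb N δ) : α ∈ orb (ZZ Z N) δ := by
  by_cases e : δ = α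
  · exact e ▸ self_mem_orb _ δ
  obtain ⟨t, h1, h2, h3, -⟩ := h.exists_swap (self_mem_orb N δ) hα e
  exact ⟨t, mem_ZZ h2 h1, h3⟩

theorem core_le (h : BT Z N δ) : core {2}ᶜ N ≤ Ker N δ := fun _ hx =>
  mem_Ker.2 ⟨FT.core_le _ _ hx, fun _ hα => core_le_stab (h.smul hα).four hx⟩

theorem odd_of_mem (h : BT Z N δ) (ha : a ∈ Z) (hb : b ∈ Z) (haδ : a • δ = δ)
    (hk : a * b ∈ Ker N δ) : Odd (orderOf (a * b)) := by
  obtain ⟨β, hβ, hne⟩ := Be.P1.exists_ne_of_not_le h.nle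
  exact Hyp.odd a ha b hb δ β haδ ((mem_Ker.1 hk).2 β hβ) hne

theorem iso_Ker (h : BT Z N δ) (ha : a ∈ Z) (haN : a ∈ N) : Iso (Ker N δ) a := by
  obtain ⟨α, hα⟩ := exists_fix Ω ha
  have hm := h.mem_orb ha haN hα
  obtain ⟨β, hβ, hne⟩ := Be.P1.exists_ne_of_not_le (h.smul hm).nle
  have hβ' := Be.P1.orb_trans hβ hm
  exact iso_swap ha rfl (smul_ne ha hα hne).symm (fun x hx => ⟨(mem_Ker.1 hx).2 _ hβ',
    (mem_Ker.1 hx).2 _ (smul_mem_orb haN hβ')⟩) (Ker_normal.norm haN)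

theorem core_Ker_le : core {2}ᶜ (Ker N δ) ≤ core {2}ᶜ N :=
  le_core_of_odd ⟨(FT.core_le _ _).trans inf_le_left, Ker_normal.norm.trans (norm_le_norm_core _ _)⟩
    (odd_core _)

theorem mem_core (h : BT Z N δ) (ha : a ∈ Z) (haN : a ∈ N) (hb : b ∈ Z) (haδ : a • δ = δ)
    (hk : a * b ∈ Ker N δ) : a * b ∈ core {2}ᶜ N :=
  core_Ker_le ((h.iso_Ker ha haN).mem_core hk (h.odd_of_mem ha hb haδ hk) (by
    rw [← mul_assoc, zsq (Ω := Ω) ha, one_mul, mul_inv_rev, zinv (Ω := Ω) ha, zinv (Ω := Ω) hb]))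

end

variable [Finite G] [c : Ctx Ω Z] [Be.BeI]

/-- the rank one system on `<Z ∩ N> / kernel`, with prescribed involution `t` -/
theorem exists_sys (h : BT Z N δ) (ht : t ∈ Z) (htN : t ∈ N) (htδ : t • δ ≠ δ) :
    ∃ (K : Type) (_ : Group K) (_ : Finite K) (f : ZZ Z N →* K) (S : Sz.Sys K),
      Function.Surjective f ∧ (∀ x : ZZ Z N, f x = 1 ↔ (x : G) ∈ Ker N δ) ∧
      (∀ x : ZZ Z N, f x ∈ S.H ↔ (x : G) • δ = δ) ∧ S.Rk2 ∧ IsPGroup 2 S.Q ∧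
      S.t = f ⟨t, mem_ZZ ht htN⟩ := by
  let L := ZZ Z N
  let Δ := orbit L δ
  let φ := toPermHom L Δ
  let f := φ.rangeRestrict
  have hf : Function.Surjective f := φ.rangeRestrict_surjective
  have hs : ∀ (x : L) (α : Δ), ((f x • α : Δ) : Ω) = (x : G) • (α : Ω) := fun _ _ => rfl
  have mΔ : ∀ α ∈ orb N δ, α ∈ Δ := fun α hα => let ⟨g, hg, e⟩ := h.orb_ZZ hα; ⟨⟨g, hg⟩, e⟩
  have mΔ' : ∀ α : Δ, (α : Ω) ∈ orb N δ := fun ⟨_, g, e⟩ => ⟨g, ZZ_le g.2, e⟩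
  have hk : ∀ x : L, f x = 1 ↔ (x : G) ∈ Ker N δ := fun x =>
    ⟨fun e => mem_Ker.2 ⟨ZZ_le x.2, fun α hα => by rw [← hs x ⟨α, mΔ α hα⟩, e, one_smul]⟩,
      fun e => Subtype.ext (Equiv.ext fun α => Subtype.ext ((mem_Ker.1 e).2 _ (mΔ' α)))⟩
  haveI := finΩ c.toRed
  have r : Red Δ (f '' {x | (x : G) ∈ Z}) :=
    { two := by
        rintro _ ⟨x, hx : (x : G) ∈ Z, rfl⟩
        refine two_of_sq (by rw [← map_mul, ← map_one f]; exact congrArg f (Subtype.ext (zsq (Ω := Ω) hx)))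
          fun e => ?_
        have h1 := (mem_Ker.1 ((hk x).1 e)).2
        exact htδ (fix_unique hx (h1 _ ⟨t, htN, rfl⟩) (h1 _ (self_mem_orb _ _)))
      conj := by
        rintro _ ⟨x, hx, rfl⟩ g
        obtain ⟨g, rfl⟩ := hf g
        exact ⟨g * x * g⁻¹, c.conj _ hx g, by simp⟩
      fix1 := by
        rintro _ ⟨x, hx : (x : G) ∈ Z, rfl⟩
        obtain ⟨α, hα⟩ := exists_fix Ω hx
        exact ⟨⟨α, mΔ α (h.mem_orb hx (ZZ_le x.2) hα)⟩, Subtype.ext hα,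
          fun β hβ => Subtype.ext (fix_unique hx (congrArg Subtype.val hβ) hα)⟩
      odd := by
        rintro _ ⟨x, hx, rfl⟩ _ ⟨y, hy, rfl⟩ α β h1 h2 h3
        rw [← map_mul] at h2 ⊢
        refine (c.odd x hx y hy α β (congrArg Subtype.val h1) (congrArg Subtype.val h2)
          fun e => h3 (Subtype.ext e)).of_dvd_nat ((orderOf_map_dvd f _).trans ?_)
        rw [← Subgroup.orderOf_coe]; rfl
      faith := fun g hg => Subtype.ext (Equiv.ext hg)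
      trans := ⟨fun α β => let ⟨g, e⟩ := exists_smul_eq L α β; ⟨f g, e⟩⟩
      nontriv := ⟨⟨t • δ, mΔ _ ⟨t, htN, rfl⟩⟩, ⟨δ, mem_orbit_self δ⟩, fun e => htδ (congrArg Subtype.val e)⟩
      gen := by
        rw [← MonoidHom.map_closure, eq_top_iff, ← map_top_of_surjective f hf]
        exact map_mono (closure_closure_coe_preimage.ge.trans (closure_mono fun x hx => hx.1))
      four := by
        obtain ⟨a, ha, b, hb, a2, b2, hne, hc⟩ := h.four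
        refine ⟨f ⟨a, mem_ZZ a2 ha.1⟩, trivial, f ⟨b, mem_ZZ b2 hb.1⟩, trivial, ⟨_, a2, rfl⟩, ⟨_, b2, rfl⟩,
          fun e => htδ (fix_mul a2 b2 hne hc ha.2 ?_), Commute.map (Subtype.ext hc.eq) f⟩
        have := (hs ⟨b, mem_ZZ b2 hb.1⟩ ⟨t • δ, mΔ _ ⟨t, htN, rfl⟩⟩).symm
        rw [← e, hs] at this
        rw [mul_smul, this, zsmul a2] }
  obtain ⟨S, hS, hr, hp⟩ := r.sys (c.ind _ Δ _ ((Nat.card_le_card_of_surjective f hf).trans_lt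
    (by rw [← Subgroup.card_top (G := G)]; exact card_lt_of_lt (ZZ_le.trans_lt h.ne.lt_top))) r
    ⟨δ, mem_orbit_self δ⟩)
  have hm : ∀ x : L, f x ∈ S.H ↔ (x : G) • δ = δ := fun x => by
    rw [hS, mem_stabilizer_iff, Subtype.ext_iff, hs]
  obtain ⟨T, h1, h2, h3, h4⟩ := Be.retarget S hr (t := f ⟨t, mem_ZZ ht htN⟩)
    (by rw [← map_mul, ← map_one f]; exact congrArg f (Subtype.ext (zsq (Ω := Ω) ht))) (mt (hm _).1 htδ)
  exact ⟨_, inferInstance, inferInstance, f, T, hf, hk, h1 ▸ hm, h4, h2 ▸ hp, h3⟩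

/-- `<Z ∩ N>` is doubly transitive on the orbit -/
theorem two_trans (h : BT Z N δ) (hα : α ∈ orb N δ) (hβ : β ∈ orb N δ) (h1 : α ≠ δ) (h2 : β ≠ δ) :
    ∃ n ∈ ZZ Z N, n • δ = δ ∧ n • α = β := by
  obtain ⟨t, htN, ht, htδ⟩ := h.exists_t
  obtain ⟨K, _, _, f, S, hf, -, hm, -⟩ := h.exists_sys ht htN htδ
  obtain ⟨g₁, m₁, rfl⟩ := h.orb_ZZ hα
  obtain ⟨g₂, m₂, rfl⟩ := h.orb_ZZ hβ
  obtain ⟨x₁, hx₁, y₁, hy₁, e₁⟩ := S.bru (f ⟨g₁, m₁⟩) (mt (hm _).1 h1)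
  obtain ⟨x₂, hx₂, y₂, hy₂, e₂⟩ := S.bru (f ⟨g₂, m₂⟩) (mt (hm _).1 h2)
  obtain ⟨n, hn⟩ := hf (x₂ * x₁⁻¹)
  refine ⟨n, n.2, (hm n).1 (hn ▸ S.QH (S.Q.mul_mem hx₂ (S.Q.inv_mem hx₁))), ?_⟩
  have e : f (⟨g₂, m₂⟩⁻¹ * (n * ⟨g₁, m₁⟩)) = y₂⁻¹ * y₁ := by
    rw [map_mul, map_mul, map_inv, hn, e₁, e₂]; simp [mul_assoc]
  have := (hm _).1 (e ▸ S.H.mul_mem (S.H.inv_mem hy₂) hy₁)
  simpa [mul_smul, inv_smul_eq_iff] using this

theorem sq_mul_mem (h : BT Z N δ) (ha : a ∈ Z) (haN : a ∈ N) (haδ : a • δ = δ)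
    (hb : b ∈ Z) (hbN : b ∈ N) (hbδ : b • δ = δ) : a * b * (a * b) ∈ core {2}ᶜ N := by
  obtain ⟨t, htN, ht, htδ⟩ := h.exists_t
  obtain ⟨K, _, _, f, S, hf, hk, hm, -⟩ := h.exists_sys ht htN htδ
  have sq : ∀ {a} (ha : a ∈ Z) (haN : a ∈ N), f ⟨a, mem_ZZ ha haN⟩ * f ⟨a, mem_ZZ ha haN⟩ = 1 :=
    fun ha haN => by rw [← map_mul, ← map_one f]; exact congrArg f (Subtype.ext (zsq (Ω := Ω) ha))
  have h3 := S.inv_central (S.inv_mem_Q ((hm _).2 haδ) (sq ha haN)) (sq ha haN)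
    (S.inv_mem_Q ((hm _).2 hbδ) (sq hb hbN))
  have e : a * b * (a * b) = a * (b * a * b⁻¹) := by rw [zinv (Ω := Ω) hb]; group
  rw [e]
  refine h.mem_core ha haN (c.conj a ha b) haδ (e ▸ (hk (⟨a, mem_ZZ ha haN⟩ * ⟨b, mem_ZZ hb hbN⟩ *
    (⟨a, mem_ZZ ha haN⟩ * ⟨b, mem_ZZ hb hbN⟩))).1 ?_)
  rw [map_mul, map_mul, mul_assoc, ← mul_assoc (f ⟨b, _⟩), ← h3, mul_assoc, sq hb hbN, mul_one, sq ha haN]

/-- two elements of `Z ∩ N_δ` have a product of odd order iff they agree modulo `O(N)` -/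
theorem odd_iff (h : BT Z N δ) (ha : a ∈ Z) (haN : a ∈ N) (haδ : a • δ = δ)
    (hb : b ∈ Z) (hbN : b ∈ N) (hbδ : b • δ = δ) : Odd (orderOf (a * b)) ↔ a * b ∈ core {2}ᶜ N :=
  ⟨fun ho => Sz.mem_of_sq_mem_of_odd ho (h.sq_mul_mem ha haN haδ hb hbN hbδ),
    odd_orderOf_of_mem (odd_core N)⟩

end BT

end Cfsg.Agent.As
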