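import Cfsg.Agent.As.A2

/-! ZD, part 1: the lemma EX and the case `Full` (notes/zd1.md). -/

set_option autoImplicit false

namespace Cfsg.Agent.As

open Subgroup MulAction Cfsg.Agent.H1 Cfsg.Agent.L Cfsg.Agent.FT Cfsg.Agent.FT.B1
open Cfsg.Agent.Be (invs sq_of_two inv_of_two two_of_sq ne_one_of_two odd_orderOf_of_mem odd_core
  le_core_of_odd conj_smul_smul two_conj)
open Cfsg.Agent.Be.P1 (orb conj_st conj_st2 le_st_smul swap_norm not_le_of_ne self_mem_orb smul_mem_orb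
  Fix3 Max3 Exact exact_of_not_fix3 le_st_orb orb_mono odd_sup sylow_transfer smul_ne' comm_mem_invs)
open Cfsg.Agent.Be.PL (odd_pgroup)
open scoped Pointwise commutatorElement

variable {G Ω : Type} [Group G] [MulAction G Ω] {Z : Set G}
variable {a b s t g x n : G} {α β γ δ w m : Ω} {M N X U P : Subgroup G} {p : ℕ}

local notation "St" => stabilizer G

variable (Z) in
/-- a `p`-group fixing three points in which `t` inverts many elements -/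
structure Good (γ : Ω) (p : ℕ) (U : Subgroup G) (t : G) : Prop where
  pg : IsPGroup p U
  fix : Fix3 Ω U
  tz : t ∈ Z
  tn : t ∈ 𝐍(U)
  big : p ^ (II Z γ).ncard.factorization p ≤ (invs U t).ncard

theorem ncard_invs_conj (hn : n ∈ 𝐍(U)) : (invs U (n * t * n⁻¹)).ncard = (invs U t).ncard := by
  refine Set.ncard_congr (fun k _ => n⁻¹ * k * n) (fun k hk => ⟨conj_mem_of_mem_normalizer' hn hk.1, ?_⟩)
    (fun k k' _ _ e => by simpa using e)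
    fun k hk => ⟨n * k * n⁻¹, ⟨conj_mem_of_mem_normalizer hn hk.1, ?_⟩, by group⟩
  · rw [mul_inv_rev, mul_inv_rev, ← hk.2]; group
  · rw [mul_inv_rev, mul_inv_rev, ← hk.2]; group

variable [Finite G]

theorem rp_core (hp : p.Prime) (hp2 : p ≠ 2) (hU : U ≤ N) (pU : IsPGroup p U) (eU : Exact U α β)
    (h : β ∈ orb (core {2}ᶜ N) α) : α = β :=
  Be.P1.rp hp (odd_sup (odd_core N) (odd_pgroup hp hp2 pU) (hU.trans (core_normal _ N).norm))
    le_sup_right pU eU (orb_mono le_sup_left h)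

variable [c : Red Ω Z]

omit [Finite G] in
theorem Good.conj (h : Good Z γ p U t) (hn : n ∈ 𝐍(U)) : Good Z γ p U (n * t * n⁻¹) :=
  ⟨h.pg, h.fix, c.conj t h.tz n, mul_mem (mul_mem hn h.tn) (inv_mem hn), h.big.trans_eq (ncard_invs_conj hn).symm⟩

theorem Good.sylow (h : Good Z γ p U t) (hp : p.Prime) (hp2 : p ≠ 2) (hw : t • w ≠ w) (pX : IsPGroup p X)
    (hUX : U ≤ X) (hX : X ≤ St w) (hn : t ∈ 𝐍(X)) :
    ∃ P, IsSylowIn p P (St w ⊓ St (t • w)) ∧ X ≤ P ∧ t ∈ 𝐍(P) ∧ invs P t = invs U t := by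
  obtain ⟨P, hP, h1, h2⟩ := (iso_stab2 h.tz rfl hw.symm).exists_sylow hp hp2
    (le_inf hX (le_st_smul hn hX)) pX hn
  have s1 : invs U t ⊆ invs P t := fun k hk => ⟨h1 (hUX hk.1), hk.2⟩
  exact ⟨P, hP, h1, h2, (Set.eq_of_subset_of_ncard_le s1
    ((n3 hp hp2 h.tz rfl hw.symm hP h2 γ).trans_le h.big) (Set.toFinite _)).symm⟩

/-- argument (b) -/
theorem max3_fix (hp : p.Prime) (hp2 : p ≠ 2) (h : Max3 Ω p U) (ha : a ∈ Z) (haN : a ∈ 𝐍(U))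
    (hn : ∀ a ∈ Z, a ∈ 𝐍(U) → ∀ x : Ω, U ≤ St x → a • x ≠ x) : False := by
  obtain ⟨δ, h1⟩ := exists_fix Ω ha
  have hδ : ¬ U ≤ St δ := fun e => hn a ha haN δ e h1
  have hN : ¬ 𝐍(U) ≤ St δ := fun e => hδ (le_normalizer.trans e)
  have hi := iso_of_not_four ha h1 haN fun e => hδ (le_stab_of_four (odd_pgroup hp hp2 h.pg) e)
  have c2 : ∀ x : Ω, U ≤ St x → core {2}ᶜ 𝐍(U) ≤ St x := fun x hx o ho => by
    by_contra h0
    have m : o • x ∈ orb (core {2}ᶜ 𝐍(U)) x := ⟨o, ho, rfl⟩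
    by_cases hS : IsSylowIn p U (St x ⊓ St (o • x))
    · obtain ⟨t, htN, ht, e, -⟩ := stype c hp hp2 (Ne.symm h0) hS
      obtain ⟨z, hz, e1⟩ := Be.P1.exists_fix_orb (zsq (Ω := Ω) ht) (odd_core _)
        ((core_normal _ _).norm htN) (e ▸ m)
      exact hn t ht htN z (le_st_orb (core_le _ _) hx hz) e1
    · obtain ⟨V, v1, v2, v3⟩ := h.rtype hp (Ne.symm h0) hx (le_st_smul (core_le _ _ ho) hx) hS
      exact h0 (rp_core hp hp2 v1 v2 v3 m).symm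
  have c3 : ∀ n ∈ 𝐍(U), ∀ x : Ω, U ≤ St x → n • a • x = a • n • x := fun n hnN x hx => by
    have := c2 _ (le_st_smul haN (le_st_smul hnN hx)) (hi.comm n hnN)
    rwa [mem_stabilizer_iff, mul_smul, zsmul ha, mul_smul, inv_smul_smul, mul_smul] at this
  obtain ⟨x, -, -, -, -, -, hx, -⟩ := h.fix
  obtain ⟨y, hy, y1, y2⟩ := h.fix.third x (a • x)
  by_cases hS : IsSylowIn p U (St x ⊓ St y)
  · obtain ⟨t, htN, ht, e, -⟩ := stype c hp hp2 y1.symm hS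
    obtain ⟨c, hc, rfl⟩ := exists_conj_in ha h1 haN hN ht htN
    rw [mul_smul, mul_smul, c3 c hc _ (le_st_smul (inv_mem hc) hx), smul_inv_smul] at e
    exact y2 e.symm
  · obtain ⟨V, v1, -, v3⟩ := h.rtype hp y1.symm hx hy hS
    rcases v3.ex (a • x) (fun v hv => (c3 v (v1 hv) x hx).trans (congrArg _ (v3.l hv))) with e | e
    · exact hn a ha haN x hx e
    · exact y2 e.symm

section EX
variable (hp : p.Prime) (hp2 : p ≠ 2)
  (H : ∀ U t, Good Z γ p U t → ∀ x : Ω, U ≤ stabilizer G x → t • x ≠ x → ∀ a ∈ Z, a ∈ 𝐍(U) → a • x ≠ x)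
  (h : Good Z γ p U t) (hm : ∀ V s, Good Z γ p V s → #|V| ≤ #|U|)
include hp hp2 H

include h hm in
theorem Good.no_fix : ∀ a ∈ Z, a ∈ 𝐍(U) → ∀ x : Ω, U ≤ St x → a • x ≠ x := fun a ha haN x hx => by
  refine H U t h x hx (fun e => ?_) a ha haN
  obtain ⟨w, hw, h3, -⟩ := h.fix.third x x
  have h4 := smul_ne h.tz e h3
  obtain ⟨P, hP, h1, h2, h5⟩ := h.sylow hp hp2 h4 h.pg le_rfl hw h.tn
  have h6 : P ≤ St x := fun y hy => by
    obtain ⟨k, hk, -, -, h7⟩ := (iso_of_odd (odd_pgroup hp hp2 hP.isPGroup) (zsq (Ω := Ω) h.tz) h2).dec hy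
    have : k ∈ invs U t := h5 ▸ ⟨core_le _ _ hk.1, hk.2⟩
    simpa using mul_mem (hx this.1) (cent1_le_stab h.tz e h7.2)
  obtain rfl := eq_of_le_of_card_le h1 (hm P t ⟨hP.isPGroup, ⟨w, t • w, x, h4.symm, h3, smul_ne' e h3,
    hP.le.trans inf_le_left, hP.le.trans inf_le_right, h6⟩, h.tz, h2, h5 ▸ h.big⟩)
  obtain ⟨v, hv, -, e', -⟩ := stype c hp hp2 h3.symm
    (sylow_transfer hp hP (le_inf hx hw) (card_n1 h.tz e h3))
  exact H _ t h w hw h4 _ (c.conj t h.tz v) (mul_mem (mul_mem hv h.tn) (inv_mem hv))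
    (e' ▸ conj_smul_smul e v)

include h hm in
theorem Good.max3 (hf : ∀ V : Subgroup G, IsPGroup p V → ∃ x : Ω, V ≤ St x) : Max3 Ω p U := by
  haveI := Fact.mk hp
  refine ⟨h.pg, h.fix, fun V pV h3 hUV => by_contra fun hne => ?_⟩
  have h1 := lt_inf_norm_of_nil pV.isNilpotent (lt_of_le_not_ge hUV hne)
  have hn := h.no_fix hp hp2 H hm
  obtain ⟨δ, hδ⟩ := exists_fix Ω h.tz
  have hi := iso_of_not_four h.tz hδ h.tn fun e =>
    hn t h.tz h.tn δ (le_stab_of_four (odd_pgroup hp hp2 h.pg) e) hδ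
  have hX : core {2}ᶜ 𝐍(U) ⊔ V ⊓ 𝐍(U) ≤ 𝐍(U) := sup_le (core_le _ _) inf_le_right
  obtain ⟨Q, hQ, h2⟩ := exists_isSylowIn_ge (pV.to_le inf_le_left)
    (le_sup_right : V ⊓ 𝐍(U) ≤ core {2}ᶜ 𝐍(U) ⊔ V ⊓ 𝐍(U))
  obtain ⟨y, hy, h4⟩ := (hi.mono hX (hi.norm_sup inf_le_right)).exists_norm hp hp2 hQ
  have h' := h.conj (hX hy)
  generalize y * t * y⁻¹ = s at h4 h'
  obtain ⟨w, hw⟩ := hf Q hQ.isPGroup
  have h5 := h1.le.trans h2
  obtain ⟨P, hP, h6, -, h7⟩ := h'.sylow hp hp2 (hn s h'.tz h'.tn w (h5.trans hw)) hQ.isPGroup h5 hw h4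
  have ss := zsq (Ω := Ω) h'.tz
  refine (card_lt_of_lt h1).not_ge (hm _ s ⟨pV.to_le inf_le_left, h3.mono inf_le_left, h'.tz,
    mem_norm_of_conj_le fun z hz => ?_,
    h'.big.trans (Set.ncard_le_ncard (fun k hk => ⟨h1.le hk.1, hk.2⟩) (Set.toFinite _))⟩)
  obtain ⟨u, hu, rfl⟩ := mem_conj'.1 hz
  have := comm_mem_invs ss h4 (h2 hu)
  have h8 : u * s * u⁻¹ * s ∈ invs U s := h7 ▸ ⟨h6 this.1, this.2⟩
  simpa [mul_assoc, zinv (Ω := Ω) h'.tz] using mul_mem (inv_mem (h1.le h8.1)) hu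

theorem not_good (h : Good Z γ p U t) : False := by
  haveI := Fact.mk hp
  haveI := c.nontriv
  obtain ⟨α, β, hne⟩ := exists_pair_ne Ω
  obtain ⟨P, ⟨pP, α, β, hne, hP⟩, mP⟩ := Set.exists_max_image
    {P : Subgroup G | IsPGroup p P ∧ ∃ α β : Ω, α ≠ β ∧ P ≤ St α ⊓ St β} (fun P => #|P|) (Set.toFinite _)
    ⟨⊥, IsPGroup.of_bot, α, β, hne, bot_le⟩
  have m3 : ∀ V : Subgroup G, IsPGroup p V → Fix3 Ω V → #|V| ≤ #|P| :=
    fun V pV ⟨x, y, _, e, _, _, e1, e2, _⟩ => mP V ⟨pV, x, y, e, le_inf e1 e2⟩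
  have hS : IsSylowIn p P (St α ⊓ St β) := isSylowIn_of_forall_card_le pP hP
    fun Q hQ _ => mP Q ⟨hQ.isPGroup, α, β, hne, hQ.le⟩
  by_cases h3 : Fix3 Ω P
  · obtain ⟨s, sn, sz, e, -⟩ := stype c hp hp2 hne hS
    have g : Good Z γ p P s := ⟨pP, h3, sz, sn, (n3 hp hp2 sz e hne hS sn γ).ge⟩
    exact max3_fix hp hp2 ⟨pP, h3, fun V pV v3 hl => (eq_of_le_of_card_le hl (m3 V pV v3)).ge⟩ sz sn
      (g.no_fix hp hp2 H fun V _ hV => m3 V hV.pg hV.fix)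
  have e := exact_of_not_fix3 h3 hne hP
  have e' : Exact P β α := ⟨e.r, e.l, fun x hx => (e.ex x hx).symm⟩
  have hT : IsSylowIn p P ⊤ := sylow_of_sylow_norm hp le_top ⟨le_inf le_top le_normalizer, pP,
    fun Q pQ h1 h2 => hS.maximal Q pQ h1 fun g hg =>
      have o := odd_orderOf_of_mem (odd_pgroup hp hp2 pQ) hg
      ⟨e.perm (h2 hg).2 o, e'.perm (h2 hg).2 o⟩⟩
  obtain ⟨V, ⟨s, hV⟩, mV⟩ := Set.exists_max_image {V : Subgroup G | ∃ s, Good Z γ p V s}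
    (fun P => #|P|) (Set.toFinite _) ⟨U, t, h⟩
  have mV' : ∀ W s, Good Z γ p W s → #|W| ≤ #|V| := fun W s hW => mV W ⟨s, hW⟩
  refine max3_fix hp hp2 (hV.max3 hp hp2 H mV' fun W pW => ?_) hV.tz hV.tn (hV.no_fix hp hp2 H mV')
  obtain ⟨g, -, hg⟩ := sylow_exists_conj_le hp hT le_top pW
  exact ⟨g⁻¹ • α, by rw [← conj_st, ← conj_le_iff]; exact hg.trans e.l⟩

/-- (EX): double transitivity -/
theorem tr2_of (h1 : β ≠ α) (h2 : δ ≠ α) : ∃ g : G, g • α = α ∧ g • β = δ := by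
  obtain ⟨g, -, h⟩ := Be.P1.cnt (X := (⊤ : Subgroup G)) (O := Set.univ) hp (fun _ _ _ _ => trivial)
    (fun β _ e => by
      obtain ⟨U, hU⟩ := exists_isSylowIn p (St α ⊓ St β)
      obtain ⟨s, sn, sz, e1, -⟩ := stype c hp hp2 e.symm hU
      exact ⟨U, le_top, hU.isPGroup, exact_of_not_fix3 (fun h3 => not_good hp hp2 H
        ⟨hU.isPGroup, h3, sz, sn, (n3 hp hp2 sz e1 e.symm hU sn γ).ge⟩) e.symm hU.le⟩)
    trivial trivial h1 h2
  exact ⟨g, h⟩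

end EX

theorem exists_move (ha : a ∈ Z) (h1 : a • α = α) (hb : b ∈ Z) (h2 : b • β = β) :
    ∃ g : G, g • α = β ∧ g * a * g⁻¹ = b := by
  obtain ⟨g, -, e⟩ := exists_conj_in (N := ⊤) ha h1 trivial
    (fun e => stab_ne_top c α (top_le_iff.1 e)) hb trivial
  exact ⟨g, fix_unique hb (e ▸ conj_smul_smul h1 g) h2, e⟩

end Cfsg.Agent.As
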