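import Cfsg.Agent.As.A3

/-! ZD, part 1: the case `Full`, closure under commuting products, simplicity (notes/zd1.md). -/

set_option autoImplicit false

namespace Cfsg.Agent.As

open Subgroup MulAction Cfsg.Agent.H1 Cfsg.Agent.L Cfsg.Agent.FT Cfsg.Agent.FT.B1
open Cfsg.Agent.Be (invs sq_of_two inv_of_two two_of_sq ne_one_of_two odd_orderOf_of_mem odd_core
  le_core_of_odd conj_smul_smul two_conj)
open Cfsg.Agent.Be.P1 (orb conj_st conj_st2 le_st_smul swap_norm not_le_of_ne self_mem_orb smul_mem_orb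
  comm_mem_invs)
open Cfsg.Agent.Be.PL (odd_pgroup)
open scoped Pointwise commutatorElement

variable {G Ω : Type} [Group G] [MulAction G Ω] {Z : Set G} [Finite G] [c : Ctx Ω Z] [Be.BeI]
variable {a b e s t g x u w y : G} {α β γ δ μ m : Ω} {M N X U P : Subgroup G} {p : ℕ}

local notation "St" => stabilizer G

section Full
variable (hb : BT Z M m) (hI : ∀ a ∈ Z, a • m = m → a ∈ M)
include hb hI

theorem full_mem (ha : a ∈ Z) (h1 : a • α = α) (he : e ∈ Z) (h2 : e • α = α)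
    (h : Odd (orderOf (a * e))) (hg : g • α = m) : g * (a * e) * g⁻¹ ∈ core {2}ᶜ M := by
  have h3 := hg ▸ conj_smul_smul h1 g
  have h4 := hg ▸ conj_smul_smul h2 g
  have := (hb.odd_iff (c.conj a ha g) (hI _ (c.conj a ha g) h3) h3 (c.conj e he g)
    (hI _ (c.conj e he g) h4) h4).1
  rw [show g * a * g⁻¹ * (g * e * g⁻¹) = g * (a * e) * g⁻¹ by group] at this
  exact this (by rwa [orderOf_conj'])

theorem full_trans (ha : a ∈ Z) (h1 : a • α = α) (hs : s ∈ Z) (h2 : s • α = α)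
    (he : e ∈ Z) (h3 : e • α = α) (h : Odd (orderOf (a * s))) (h' : Odd (orderOf (s * e))) :
    Odd (orderOf (a * e)) := by
  obtain ⟨g, hg⟩ := exists_smul c.toRed α m
  have := odd_orderOf_of_mem (odd_core M) (mul_mem (full_mem hb hI ha h1 hs h2 h hg)
    (full_mem hb hI hs h2 he h3 h' hg))
  rwa [show g * (a * s) * g⁻¹ * (g * (s * e) * g⁻¹) = g * (a * e) * g⁻¹ by
    simp only [mul_assoc, inv_mul_cancel_left, ← mul_assoc s s, zsq (Ω := Ω) hs, one_mul],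
    orderOf_conj'] at this

theorem full_tr2 (h1 : β ≠ α) (h2 : δ ≠ α) : ∃ g : G, g • α = α ∧ g • β = δ := by
  obtain ⟨a₀, ha₀, b₀, hb₀, a2, b2, h0, h1'⟩ := four_stab c.toRed m
  let C : G → Ω → Set G := fun a x => {b | b ∈ Z ∧ b • x = x ∧ Odd (orderOf (a * b))}
  have hd : ¬ (II Z m).ncard ∣ (C a₀ m).ncard := fun hd => by
    have m0 : a₀ ∈ C a₀ m := ⟨a2, ha₀, by rw [zsq (Ω := Ω) a2, orderOf_one]; exact odd_one⟩
    refine (Nat.le_of_dvd ((Set.ncard_pos (Set.toFinite _)).2 ⟨a₀, m0⟩) hd).not_gt (Set.ncard_lt_ncard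
      ⟨fun b hb => ⟨hb.1, hb.2.1⟩, fun e => h0 ?_⟩ (Set.toFinite _))
    have := Sz.eq_one_of_odd_of_sq (e (show b₀ ∈ II Z m from ⟨b2, hb₀⟩)).2.2 (by
      rw [mul_assoc, ← mul_assoc b₀, ← h1'.eq, mul_assoc, zsq (Ω := Ω) b2, mul_one, zsq (Ω := Ω) a2])
    rw [eq_inv_of_mul_eq_one_left this, zinv (Ω := Ω) b2]
  rw [Nat.dvd_iff_prime_pow_dvd_dvd] at hd
  push Not at hd
  obtain ⟨p, k, hp, hk, hk'⟩ := hd
  have hp2 : p ≠ 2 := by
    rintro rfl
    rcases k with _ | k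
    · simp at hk'
    · exact Nat.not_even_iff_odd.2 (odd_ncard_II (Z := Z) m)
        (even_iff_two_dvd.2 ((dvd_pow_self 2 k.succ_ne_zero).trans hk))
  refine tr2_of (Z := Z) (γ := m) hp hp2 (fun U t hU x hx h8 a ha haN h9 => hk' ?_) h1 h2
  have oU := odd_pgroup hp hp2 hU.pg
  obtain ⟨g, g1, g2⟩ := exists_move ha h9 a2 ha₀
  have e : (C a x).ncard = (C a₀ m).ncard := by
    refine Set.ncard_congr (fun b _ => g * b * g⁻¹) (fun b hb => ⟨c.conj b hb.1 g,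
      g1 ▸ conj_smul_smul hb.2.1 g, ?_⟩) (fun b b' _ _ e => by simpa using e)
      fun b hb => ⟨g⁻¹ * b * g⁻¹⁻¹, ⟨c.conj b hb.1 _, ?_, ?_⟩, by group⟩
    · rw [← g2, show g * a * g⁻¹ * (g * b * g⁻¹) = g * (a * b) * g⁻¹ by group, orderOf_conj']
      exact hb.2.2
    · rw [← inv_smul_eq_iff.2 g1.symm]; exact conj_smul_smul hb.2.1 _
    · rw [← orderOf_conj' g, show g * (a * (g⁻¹ * b * g⁻¹⁻¹)) * g⁻¹ = g * a * g⁻¹ * b by group, g2]
      exact hb.2.2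
  obtain ⟨K, hK, hK'⟩ := Set.exists_subset_card_eq hU.big
  refine (pow_dvd_pow p ((hp.pow_dvd_iff_le_factorization
    (one_lt_ncard_II m).ne_bot).1 hk)).trans (e ▸ Be.P1.dvd_ncard_conj hp hU.pg
    (fun y hy b hb' => ⟨c.conj b hb'.1 y, hx hy ▸ conj_smul_smul hb'.2.1 y, ?_⟩) (fun _ h => (hK h).1)
    hK' fun b hb k hk k' hk' e => invs_inj hU.tz h8 hb.1 hb.2.1 (hK hk).2 (hK hk').2
      (odd_orderOf_of_mem oU (hK hk).1) (odd_orderOf_of_mem oU (hK hk').1) (hx (hK hk').1)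
      (mem_cent1.2 ?_))
  · refine full_trans hb hI ha h9 (c.conj a ha y) (hx hy ▸ conj_smul_smul h9 y) (c.conj b hb'.1 y)
      (hx hy ▸ conj_smul_smul hb'.2.1 y) (odd_orderOf_of_mem oU ?_) ?_
    · have := mul_mem (conj_mem_of_mem_normalizer haN hy) (inv_mem hy)
      rwa [zinv (Ω := Ω) ha, mul_assoc, mul_assoc, ← mul_assoc y] at this
    · rw [show y * a * y⁻¹ * (y * b * y⁻¹) = y * (a * b) * y⁻¹ by group, orderOf_conj']
      exact hb'.2.2
  · calc k'⁻¹ * k * b = k'⁻¹ * (k * b * k⁻¹) * k := by group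
      _ = _ := by rw [e]; group

end Full

omit [Finite G] [Be.BeI] in
theorem Full.bt (hF : Full Ω Z) : ∃ (M : Subgroup G) (m : Ω), BT Z M m ∧ ∀ a ∈ Z, a • m = m → a ∈ M := by
  obtain ⟨M, m, hM, hI, hm⟩ := hF
  obtain ⟨a, ha, b, hb, a2, b2, h⟩ := four_stab c.toRed m
  exact ⟨M, m, ⟨hM, ⟨a, ⟨hI a a2 ha, ha⟩, b, ⟨hI b b2 hb, hb⟩, a2, b2, h⟩, hm⟩, hI⟩

theorem Full.tr2 (hF : Full Ω Z) (h1 : β ≠ α) (h2 : δ ≠ α) : ∃ g : G, g • α = α ∧ g • β = δ :=
  let ⟨_, _, hb, hI⟩ := hF.bt; full_tr2 hb hI h1 h2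

theorem Full.eq (hF : Full Ω Z) (ha : a ∈ Z) (h1 : a • α = α) (hb : b ∈ Z) (h2 : b • α = α)
    (h : Odd (orderOf (a * b))) : a = b := by
  obtain ⟨M, m, hM, hI⟩ := hF.bt
  obtain ⟨φ, h4, h5⟩ := Be.P1.exists_ne_of_not_le hM.nle
  obtain ⟨g, hg⟩ := exists_smul c.toRed α m
  have : a * b = 1 := c.faith _ fun z => by
    by_cases e : z = α
    · rw [e, mul_smul, h2, h1]
    obtain ⟨g', e1, e2⟩ := hF.tr2 (α := m) (β := g • z)
      (fun e' => e ((smul_left_cancel_iff g).1 (e'.trans hg.symm))) h5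
    have := (mem_Ker.1 (hM.core_le
      (full_mem (g := g' * g) hM hI ha h1 hb h2 h (by rw [mul_smul, hg, e1])))).2 φ h4
    rwa [← e2, smul_smul g', mul_smul, mul_smul, inv_smul_smul, smul_left_cancel_iff] at this
  rw [eq_inv_of_mul_eq_one_left this, zinv (Ω := Ω) hb]

theorem Full.comm (hF : Full Ω Z) (ha : a ∈ Z) (h1 : a • α = α) (hb : b ∈ Z) (h2 : b • α = α) :
    a * b = b * a := by
  obtain ⟨M, m, hM, hI⟩ := hF.bt
  obtain ⟨g, hg⟩ := exists_smul c.toRed α m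
  have h3 := hg ▸ conj_smul_smul h1 g
  have h4 := hg ▸ conj_smul_smul h2 g
  have := odd_orderOf_of_mem (odd_core M) (hM.sq_mul_mem (c.conj a ha g) (hI _ (c.conj a ha g) h3) h3
    (c.conj b hb g) (hI _ (c.conj b hb g) h4) h4)
  rw [show g * a * g⁻¹ * (g * b * g⁻¹) * (g * a * g⁻¹ * (g * b * g⁻¹)) = g * (a * (b * a * b)) * g⁻¹ by
    group, orderOf_conj', ← congrArg (b * a * ·) (zinv (Ω := Ω) hb)] at this
  exact eq_mul_inv_iff_mul_eq.1 (hF.eq ha h1 (c.conj a ha b) (h2 ▸ conj_smul_smul h1 b) this)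

section Y
variable (w2 : orderOf w = 2)
  (hP : ∀ u ∈ Z, u ∈ 𝐂[w] → ∀ μ ν : Ω, u • μ = μ → (u * w) • ν = ν → ν = μ)
include w2 hP

omit [Be.BeI] in
theorem conj_fix_of (hu : u ∈ Z) (huw : u ∈ 𝐂[w]) (h : u • μ = μ) (hX : Odd #|X|) (nu : u ∈ 𝐍(X))
    (nw : w ∈ 𝐍(X)) (hx : x ∈ X) : (x * w * x⁻¹) • μ = μ := by
  have ww := sq_of_two w2
  have uu := zsq (Ω := Ω) hu
  have iu := zinv (Ω := Ω) hu
  have uw := mem_cent1.1 huw
  have k1 := (comm_mem_invs ww nw hx).1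
  generalize hw1 : x * w * x⁻¹ = w₁ at k1
  have s1 : w₁ * w₁ = 1 := by rw [← hw1]; simp [mul_assoc, ← mul_assoc w, ww]
  have s2 : u * w₁ * u⁻¹ * (u * w₁ * u⁻¹) = 1 := by simp [mul_assoc, ← mul_assoc w₁, s1]
  have k2 : u * w₁ * u⁻¹ * w ∈ X := by
    have := conj_mem_of_mem_normalizer nu k1
    rwa [← mul_assoc, mul_assoc (u * w₁), iu, ← uw, ← mul_assoc, ← congrArg (u * w₁ * · * w) iu] at this
  have k3 : w₁ * (u * w₁ * u⁻¹) ∈ X := by
    have := X.mul_mem k1 (X.inv_mem k2)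
    rwa [mul_inv_rev, inv_eq_of_mul_eq_one_right s2, ← mul_assoc, mul_inv_cancel_right] at this
  have ho := odd_orderOf_of_mem hX k3
  obtain ⟨v, vv, e, hv⟩ := H6.exists_involution_conj_of_odd s1 s2 ho
  have iv := inv_eq_of_mul_eq_one_right vv
  have k4 : v * w ∈ X := by
    have := X.mul_mem (zpowers_le.2 k3 hv) k1
    rwa [mul_assoc, ← mul_assoc w₁, s1, one_mul] at this
  have c1 : u * v * w₁ = w₁ * (u * v) := by
    rw [← mul_inv_eq_iff_eq_mul, mul_inv_rev, show u * v * w₁ * (v⁻¹ * u⁻¹) = u * (v * w₁ * v⁻¹) * u⁻¹ by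
      group, e, ← mul_assoc, ← mul_assoc, uu, one_mul, iu, mul_assoc, uu, mul_one]
  have c2 : u * v = v * u := by
    have i1 : u * (w₁ * (u * w₁ * u⁻¹)) * u⁻¹ = (w₁ * (u * w₁ * u⁻¹))⁻¹ := by
      rw [mul_inv_rev, inv_eq_of_mul_eq_one_right s2, inv_eq_of_mul_eq_one_right s1, iu]
      simp [mul_assoc, uu]
    have i2 := H6.inverts_of_mem_zpowers i1 hv
    rw [mul_inv_rev, inv_eq_of_mul_eq_one_right s1, iv, mul_inv_eq_iff_eq_mul, ← mul_assoc, c1,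
      mul_assoc] at i2
    exact mul_left_cancel i2
  obtain ⟨d, hd, e2⟩ := H6.exists_conj_of_odd ww vv (by
    rw [← orderOf_inv, mul_inv_rev, iv, inv_of_two w2]; exact odd_orderOf_of_mem hX k4)
  have hd' : d ∈ 𝐂[u] := zpowers_le.2 (mul_mem (mem_cent1.2 uw.symm) (mem_cent1.2 c2.symm)) hd
  have e3 : u * v = d * (u * w) * d⁻¹ := by rw [← e2, ← mul_assoc d, mem_cent1.1 hd']; group
  have h1 : d⁻¹ • μ = μ := cent1_le_stab hu h (inv_mem hd')
  have h2 : v • μ = μ := fix_of_comm hu h c2.symm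
  have := hP u hu huw μ (d⁻¹ • w₁ • μ) h (by
    rw [← smul_left_cancel_iff d, smul_smul, smul_smul, ← e3, smul_smul, c1, smul_inv_smul, mul_smul,
      mul_smul, h2, h])
  rw [← smul_left_cancel_iff d⁻¹, this, h1]

omit [Be.BeI] in
theorem full_of_w (hne : α ≠ β) (hα : w • α = α) (hβ : w • β = β) : Full Ω Z := by
  haveI := finΩ c.toRed
  have ww := sq_of_two w2
  have sw : ∀ x y : Ω, x ≠ y → w • x = x → w • y = y →
      ∃ u ∈ Z, u ∈ 𝐂[w] ∧ u • x = y ∧ u • y = x ∧ u ∈ 𝐍(⁅core {2}ᶜ (St x ⊓ St y), zpowers w⁆) :=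
    fun x y h hx hy => by
      obtain ⟨a, ha, a1, a2⟩ := exists_cent c.toRed (Be.P1.pgroup_zpowers' w2) (zpowers_le.2 hx)
      obtain ⟨b, hb, b1, b2⟩ := exists_cent c.toRed (Be.P1.pgroup_zpowers' w2) (zpowers_le.2 hy)
      rw [cent_zpowers] at a2 b2
      obtain ⟨v, v1, -, v2, v3, v4⟩ := exists_conj_swap ha hb a1 b1 h
      exact ⟨v, v1, v4 _ a2 b2, v2, v3, le_normalizer_commutator (zpowers_le.2 (iso_stab2 v1 v2 h).normO)
        (le_norm_zpowers_of_cent (zpowers_le.2 (v4 _ a2 b2))) (mem_zpowers v)⟩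
  obtain ⟨⟨x, y⟩, ⟨h, hx, hy⟩, hmax⟩ := Set.exists_max_image
    {q : Ω × Ω | q.1 ≠ q.2 ∧ w • q.1 = q.1 ∧ w • q.2 = q.2}
    (fun q => #|⁅core {2}ᶜ (St q.1 ⊓ St q.2), zpowers w⁆|) (Set.toFinite _) ⟨(α, β), hne, hα, hβ⟩
  obtain ⟨u, hu, uw, rfl, -, un⟩ := sw x y h hx hy
  obtain ⟨μ, hμ⟩ := exists_fix Ω hu
  have h1 : x ≠ μ := fun e => h (by rw [e, hμ])
  have h2 : w • μ = μ := fix_of_comm hu hμ (mem_cent1.1 uw).symm
  obtain ⟨t, ht, tw, -, t1, tn⟩ := sw x μ h1 hx h2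
  have nw : w ∈ 𝐍(core {2}ᶜ (St x ⊓ St (u • x))) := (core_normal _ _).norm ⟨hx, hy⟩
  have h3 : ⁅core {2}ᶜ (St x ⊓ St (u • x)), zpowers w⁆ ≤ core {2}ᶜ (St x ⊓ St μ) :=
    (le_inf (comm_le_left (zpowers_le.2 nw)) (Be.comm_inv_le ww fun z hz => mul_mem
      (conj_fix_of w2 hP hu uw hμ (odd_core _) (iso_stab2 hu rfl h).normO nw hz) h2)).trans
      (tri' hu hμ h1)
  have e := eq_of_le_of_card_le ((commutator_commutator_eq (zpowers_le.2 nw)
    (Be.cop_odd ww (odd_core _)) (Or.inl (Be.sol_zpowers w))).ge.trans (commutator_mono h3 le_rfl))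
    (hmax (x, μ) ⟨h1, hx, h2⟩)
  by_cases h0 : ⁅core {2}ᶜ (St x ⊓ St μ), zpowers w⁆ = ⊥
  · refine full_of (M := 𝐂[w]) (fun e => norm_ne_top c.toRed (X := zpowers w) (α := x)
      (zpowers_ne_bot.2 (ne_one_of_two w2)) (zpowers_le.2 hx) (top_le_iff.1 (e ▸ le_norm_zpowers_of_cent le_rfl)))
      (cent_zpowers w ▸ comm_eq_bot_iff.1 h0) uw hu hμ (not_le_of_ne tw (t1 ▸ h1)) h1
  · exact full_of (norm_ne_top c.toRed h0 (((comm_le_left (zpowers_le.2 ((core_normal _ _).norm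
      (mem_inf.2 ⟨hx, h2⟩)))).trans (core_le _ _)).trans inf_le_left)) (left_le_norm_comm _ _) (e ▸ un) hu hμ
      (not_le_of_ne tn (t1 ▸ h1)) h1

end Y

omit [Be.BeI] in
/-- the product of the elements of `Z_β` -/
theorem eq_one_of_full (hc : ∀ a ∈ Z, ∀ b ∈ Z, a • β = β → b • β = β → a * b = b * a)
    (h2 : ∀ γ, γ ≠ β → ∃ g : G, g • β = β ∧ g • α = γ) (hne : α ≠ β) (ha : a ∈ II Z β) (hb : b ∈ II Z β)
    (he : e ∈ II Z β) (h : (a * b * e) • α = α) : a * b * e = 1 := by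
  classical
  let E := closure (II Z β)
  haveI hE : IsMulCommutative E := isMulCommutative_closure fun x hx y hy => hc x hx.1 y hy.1 hx.2 hy.2
  letI : CommGroup E := { (inferInstance : Group E) with mul_comm := mul_comm' }
  haveI := Fintype.ofFinite E
  have mE : ∀ {x}, x ∈ II Z β → x ∈ E := fun hx => subset_closure hx
  have cI : ∀ g ∈ St β, ∀ x ∈ II Z β, g * x * g⁻¹ ∈ II Z β := fun g hg x hx =>
    ⟨c.conj x hx.1 g, hg ▸ conj_smul_smul hx.2 g⟩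
  have nE : St β ≤ 𝐍(E) := le_norm_of_conj fun g hg => conj_le_iff.2 ((closure_le _).2 fun x hx =>
    mem_conj.2 (by simpa using mE (cI g hg x hx)))
  have sq : ∀ x ∈ E, x * x = 1 := fun x hx => by
    induction hx using closure_induction with
    | mem x hx => exact zsq (Ω := Ω) hx.1
    | one => simp
    | mul x y hx hy e1 e2 =>
      rw [mul_assoc, ← mul_assoc y, show y * x = x * y from congrArg Subtype.val (mul_comm (⟨y, hy⟩ : E) ⟨x, hx⟩), mul_assoc, e2, mul_one, e1]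
    | inv x _ e => rw [← mul_inv_rev, e, inv_one]
  let O := core {2}ᶜ (St β ⊓ St α)
  have OE : O ≤ 𝐍(E) := ((core_le _ _).trans inf_le_left).trans nE
  have cop : (#|O|).Coprime #|E| := (pgroup_coprime Nat.prime_two
    (fun x => ⟨1, Subtype.ext (by simpa [pow_two] using sq x x.2)⟩)
    (not_dvd_card_core Nat.prime_two _)).symm
  let s : Finset E := Finset.univ.filter fun x => (x : G) ∈ II Z β
  have hc1 : ∀ g ∈ St β, g * (∏ x ∈ s, x : E) * g⁻¹ = (∏ x ∈ s, x : E) := fun g hg => by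
    let φ : E ≃* E := normalizerMonoidHom E ⟨g, nE hg⟩
    have := Finset.prod_equiv (s := s) (t := s) (f := fun x => φ x) (g := fun x => x) φ.toEquiv
      (fun x => by
        simp only [s, Finset.mem_filter, Finset.mem_univ, true_and]
        exact ⟨cI g hg x, fun h => by
          have := cI g⁻¹ (inv_mem hg) _ h
          change g⁻¹ * (g * x * g⁻¹) * g⁻¹⁻¹ ∈ _ at this
          simpa [mul_assoc] using this⟩) fun _ _ => rfl
    rw [← map_prod] at this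
    exact congrArg Subtype.val this
  obtain ⟨t, ht, t1, -⟩ := exists_swap_top c.toRed hne.symm
  have key : ∀ x ∈ II Z β, x * a ∈ ⁅E, O⁆ := fun x hx => by
    obtain ⟨k, hk, rfl, -⟩ := exists_invs_conj ht t1 hne.symm ha.1 ha.2 hx.1 hx.2
    have := inv_mem (commutator_mem_commutator (mE ha) hk.1)
    simpa [commutatorElement_def, zinv (Ω := Ω) ha.1, mul_assoc] using this
  have mw : a * b * e ∈ E := mul_mem (mul_mem (mE ha) (mE hb)) (mE he)
  have h3 : (∏ x ∈ s, x : E) * ⟨a, mE ha⟩ ∈ (⁅E, O⁆ : Subgroup G).subgroupOf E := by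
    have h4 := Subgroup.prod_mem ((⁅E, O⁆ : Subgroup G).subgroupOf E) (t := s)
      (f := fun x => x * ⟨a, mE ha⟩) fun x hx => key x (Finset.mem_filter.1 hx).2
    obtain ⟨j, hj⟩ := odd_ncard_II (Z := Z) β
    have h5 : s.card = 2 * j + 1 := by
      rw [← hj, ← Set.ncard_coe_finset, ← Set.ncard_image_of_injective _ E.subtype_injective]
      congr 1; ext x
      exact ⟨by rintro ⟨y, hy, rfl⟩; simpa [s] using hy, fun hx => ⟨⟨x, mE hx⟩, by simpa [s] using hx, rfl⟩⟩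
    rwa [Finset.prod_mul_distrib, Finset.prod_const, h5, pow_succ, pow_mul, pow_two,
      show (⟨a, mE ha⟩ : E) * ⟨a, mE ha⟩ = 1 from Subtype.ext (sq a (mE ha)), one_pow, one_mul] at h4
  generalize (∏ x ∈ s, x : E) = d at hc1 h3
  have h6 : (d : G) * (a * b * e) ∈ ⁅E, O⁆ ⊓ 𝐂(O) := by
    refine ⟨?_, mul_mem (mem_cent.2 fun g hg => mul_inv_eq_iff_eq_mul.1 (hc1 g (core_le _ _ hg).1)) ?_⟩
    · have := mul_mem (mul_mem (show (d : G) * a ∈ ⁅E, O⁆ from h3) (key b hb)) (inv_mem (key e he))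
      simpa [mul_assoc, zinv (Ω := Ω) he.1] using this
    · exact NormalIn.le_cent_of_coprime (N := E ⊓ (St β ⊓ St α)) ⟨inf_le_right,
        le_normalizer_inf (inf_le_left.trans nE) le_normalizer⟩ (core_normal _ _)
        (coprime_of_le cop le_rfl inf_le_left).symm ⟨mw, mul_mem (mul_mem ha.2 hb.2) he.2, h⟩
  replace h6 : (d : G) = a * b * e := by
    have : (d : G) * (a * b * e) ∈ (⊥ : Subgroup G) :=
      inf_centralizer_inf_commutator_eq_bot OE cop ▸ ⟨⟨mul_mem d.2 mw, h6.2⟩, h6.1⟩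
    rwa [mem_bot, mul_eq_one_iff_eq_inv, inv_eq_of_mul_eq_one_right (sq _ mw)] at this
  refine c.faith _ fun γ => ?_
  by_cases e1 : γ = β
  · rw [e1, mul_smul, mul_smul, he.2, hb.2, ha.2]
  obtain ⟨g, g1, rfl⟩ := h2 γ e1
  rw [← h6, ← hc1 g g1, h6]
  exact conj_smul_smul h g

theorem clo (c : Ctx Ω Z) : Clo Z := ⟨fun a ha b hb hne hc => by
  by_contra hy
  obtain ⟨α, hα⟩ := exists_fix Ω ha
  have hα' : b • α = α := fix_of_comm ha hα hc.eq.symm
  haveI := c.nontriv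
  obtain ⟨β, hβ⟩ := exists_ne α
  obtain ⟨e, he, e1⟩ := exists_II c.toRed β
  have yy : a * b * (a * b) = 1 := by
    rw [mul_assoc, ← mul_assoc b, ← hc.eq, mul_assoc, zsq (Ω := Ω) hb, mul_one, zsq (Ω := Ω) ha]
  have ee := zsq (Ω := Ω) he
  obtain ⟨w, -, w2, we, wy, d, -, h⟩ := H6.exists_central_involution_of_even ee yy
    (Nat.not_odd_iff_even.1 fun ho => by
      obtain ⟨d, -, h⟩ := H6.exists_conj_of_odd ee yy ho
      exact hy (h ▸ c.conj e he d))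
  have w1 : w • β = β := fix_of_comm he e1 we.eq
  have w3 : w • α = α := fix_mul ha hb hne hc hα (by
    rw [smul_smul, ← wy.eq, mul_smul, mul_smul, hα', hα])
  replace h : d * (a * b) * d⁻¹ = w * e := h.resolve_left fun h => hβ.symm (fix_mul he
    (h ▸ c.conj e he d : w * e ∈ Z) (fun e => ne_one_of_two w2 (by simpa using e.symm))
    (we.symm.mul_right (Commute.refl e)) e1 (by rw [we.eq, ← mul_assoc, ee, one_mul, w3]))
  have k1 : ∀ ν : Ω, (e * w) • ν = ν → ν = d • α := fun ν hν => by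
    rw [← inv_smul_eq_iff]
    refine fix_mul ha hb hne hc hα ?_
    rw [eq_inv_smul_iff, smul_smul, smul_smul, h, we.eq, hν]
  have k2 : β = d • α := k1 β (by rw [mul_smul, w1, e1])
  have hF := full_of_w w2 (fun u hu uw μ ν h1 h2 => by
    obtain ⟨a', ha', a1, a2⟩ := exists_cent c.toRed (Be.P1.pgroup_zpowers' w2) (zpowers_le.2 w3)
    rw [cent_zpowers] at a2
    obtain ⟨n, hn, rfl⟩ := exists_conj_in (N := 𝐂[w]) he e1 (mem_cent1.2 we.eq.symm)
      (not_le_of_ne a2 (smul_ne ha' a1 hβ)) hu uw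
    rw [fix_unique hu h1 (conj_smul_smul e1 n), ← inv_smul_eq_iff, k2]
    refine k1 _ ?_
    rw [eq_inv_smul_iff, smul_smul, smul_smul, ← mul_assoc, mul_assoc (n * e),
      ← mem_cent1.1 (inv_mem hn), ← mul_assoc, h2]) hβ.symm w3 w1
  have := eq_one_of_full (fun a ha b hb h1 h2 => hF.comm ha h1 hb h2)
    (fun γ hγ => hF.tr2 hβ.symm hγ) hβ.symm ⟨c.conj a ha d, k2 ▸ conj_smul_smul hα d⟩
    ⟨c.conj b hb d, k2 ▸ conj_smul_smul hα' d⟩ ⟨he, e1⟩
  rw [show d * a * d⁻¹ * (d * b * d⁻¹) = d * (a * b) * d⁻¹ by group, h, mul_assoc, ee, mul_one] at this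
  exact ne_one_of_two w2 (this w3)⟩

theorem simple (c : Ctx Ω Z) : IsSimpleGroup G := by
  haveI := clo c
  obtain ⟨a, -, -, -, ha, -⟩ := c.four
  haveI : Nontrivial G := ⟨a, 1, ne_one_of_two (c.two a ha)⟩
  refine ⟨fun L hL => ?_⟩
  by_cases h : ∀ z ∈ Z, z ∉ L
  · exact .inl (eq_bot_iff.2 fun x hx => c.faith x fun α => le_stab_of_disj h
      (by rw [normalizer_eq_top, top_inf_eq]; exact four_stab c.toRed α) hx)
  push Not at h
  obtain ⟨z, hz, h⟩ := h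
  refine .inr (eq_top_iff.2 (c.gen.ge.trans ((closure_le L).2 fun b hb => ?_)))
  obtain ⟨α, hα⟩ := exists_fix Ω hz
  obtain ⟨β, hβ⟩ := exists_fix Ω hb
  obtain ⟨g, -, rfl⟩ := exists_move hz hα hb hβ
  exact hL.conj_mem z h g

end Cfsg.Agent.As
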