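import Cfsg.Agent.As.L1

/-! Slice L of notes/zd1.md, part 2: Proposition L. -/

set_option autoImplicit false
set_option maxHeartbeats 400000

namespace Cfsg.Agent.As.PL

open Subgroup MulAction Cfsg.Agent.H1 Cfsg.Agent.L Cfsg.Agent.FT Cfsg.Agent.FT.B1
open Cfsg.Agent.Be (odd_orderOf_of_mem conj_smul_smul sol_odd le_of_lemC mem_comm_inv)
open Cfsg.Agent.Be.PL (Oc odd_Oc le_Oc odd_pgroup mem_norm_inf mem_of_odd_pow stab_no4
  zj_sup_normal lemO')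
open Cfsg.Agent.Be.P1 (conj_st swap_norm odd_sup)
open scoped Pointwise commutatorElement

variable {G Ω : Type} [Group G] [MulAction G Ω] {Z : Set G}

local notation "St" => stabilizer G

/-- the elements fixing `α, β` that centralise `Z_α` and `Z_β` in `N` modulo `O(N)` -/
def WW (Z : Set G) (N : Subgroup G) (α β : Ω) : Subgroup G where
  carrier := {x | x ∈ N ⊓ (St α ⊓ St β) ∧
    ∀ c ∈ N, c ∈ Z → (c • α = α ∨ c • β = β) → ⁅x, c⁆ ∈ Oc N}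
  one_mem' := ⟨one_mem _, fun c _ _ _ => by simp⟩
  mul_mem' := fun {x y} hx hy => ⟨mul_mem hx.1 hy.1, fun c h1 h2 h3 => by
    have := mul_mem ((core_normal _ N).conj_mem hx.1.1 (hy.2 c h1 h2 h3)) (hx.2 c h1 h2 h3)
    simpa [commutatorElement_def, mul_assoc] using this⟩
  inv_mem' := fun {x} hx => ⟨inv_mem hx.1, fun c h1 h2 h3 => by
    have := (core_normal _ N).conj_mem' hx.1.1 (inv_mem (hx.2 c h1 h2 h3))
    simpa [commutatorElement_def, mul_assoc] using this⟩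

/-- admissible configuration -/
structure Adm (Z : Set G) (p : ℕ) (α β : Ω) (t : G) (R S : Subgroup G) : Prop where
  pR : IsPGroup p R
  pS : IsPGroup p S
  four : FourZ Z (𝐍(R) ⊓ St α)
  tR : t ∈ 𝐍(R)
  tS : t ∈ 𝐍(S)
  nc : t ∉ 𝐂(R)
  le : S ≤ 𝐍(R) ⊓ (St α ⊓ St β)

/-- extremal configuration -/
structure Ext (Z : Set G) (p : ℕ) (α β : Ω) (t : G) (R S : Subgroup G) : Prop
    extends Adm Z p α β t R S where
  hp : p.Prime
  hp2 : p ≠ 2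
  two : t ∈ Z
  ne : α ≠ β
  sw : t • α = β
  maxS : ∀ R' S', Adm Z p α β t R' S' → #|S'| ≤ #|S|
  maxR : ∀ R', Adm Z p α β t R' S → #|R'| ≤ #|R|

variable [Finite G] {N R S X : Subgroup G} {α β δ μ : Ω} {g t x : G} {p : ℕ}

theorem WW_norm [c : Hyp Ω Z] (hg : g ∈ N)
    (h : (g • α = α ∧ g • β = β) ∨ (g • α = β ∧ g • β = α)) : g ∈ 𝐍(WW Z N α β) := by
  refine mem_norm_of_conj_le fun y hy => ?_
  obtain ⟨x, hx, rfl⟩ := mem_conj'.1 hy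
  have h' : (g⁻¹ • α = α ∧ g⁻¹ • β = β) ∨ (g⁻¹ • α = β ∧ g⁻¹ • β = α) := by
    simp only [inv_smul_eq_iff]
    rcases h with h | h
    · exact .inl ⟨h.1.symm, h.2.symm⟩
    · exact .inr ⟨h.2.symm, h.1.symm⟩
  have e1 : x • α = α := hx.1.2.1
  have e2 : x • β = β := hx.1.2.2
  refine ⟨⟨N.mul_mem (N.mul_mem hg hx.1.1) (N.inv_mem hg), ?_⟩, fun d h1 h2 h3 => ?_⟩
  · show (g * x * g⁻¹) • α = α ∧ (g * x * g⁻¹) • β = β
    simp only [mul_smul]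
    rcases h' with h' | h' <;>
    · constructor
      · rw [← eq_inv_smul_iff, h'.1]; assumption
      · rw [← eq_inv_smul_iff, h'.2]; assumption
  · have := (core_normal _ N).conj_mem hg (hx.2 (g⁻¹ * d * g⁻¹⁻¹)
      (mul_mem (mul_mem (inv_mem hg) h1) (inv_mem (inv_mem hg))) (c.conj d h2 _) (by
        rcases h' with h' | h' <;> rcases h3 with h3 | h3
        · exact .inl (h'.1 ▸ conj_smul_smul h3 g⁻¹)
        · exact .inr (h'.2 ▸ conj_smul_smul h3 g⁻¹)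
        · exact .inr (h'.1 ▸ conj_smul_smul h3 g⁻¹)
        · exact .inl (h'.2 ▸ conj_smul_smul h3 g⁻¹)))
    simpa [commutatorElement_def, mul_assoc] using this

omit [Finite G] in
theorem Oc_le_WW (h : Oc N ≤ St α ⊓ St β) : Oc N ≤ WW Z N α β := fun x hx =>
  ⟨⟨core_le _ N hx, h hx⟩, fun c h1 _ _ => by
    simpa [commutatorElement_def, mul_assoc] using
      mul_mem hx ((core_normal _ N).conj_mem h1 (inv_mem hx))⟩

variable [c : Ctx Ω Z]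

theorem bt_of (hp : p.Prime) (hp2 : p ≠ 2) (hR : IsPGroup p R) (h4 : FourZ Z (𝐍(R) ⊓ St δ))
    (hN : ¬ 𝐍(R) ≤ St δ) (h1 : R ≠ ⊥) : Bt Z 𝐍(R) δ :=
  ⟨norm_ne_top c.toRed h1 (le_stab_of_four (odd_pgroup hp hp2 hR) h4), h4, hN⟩

theorem not_cent (h : Bt Z 𝐍(R) δ) (t2 : t ∈ Z) (ht : t ∈ 𝐍(R)) (hc : t ∉ 𝐂(R))
    (x2 : x ∈ Z) : x ∉ 𝐂(R) := fun hx => by
  obtain ⟨a, ha, -, -, a2, -⟩ := h.four
  obtain ⟨n, hn, rfl⟩ := exists_conj_in a2 ha.2 ha.1 h.nle x2 (cent_le_norm R hx)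
  obtain ⟨m, hm, rfl⟩ := exists_conj_in a2 ha.2 ha.1 h.nle t2 ht
  refine hc ((NormalIn.cent_norm R).conj_mem hm ?_)
  simpa [mul_assoc] using (NormalIn.cent_norm R).conj_mem' hn hx

namespace Ext
variable (h : Ext Z p α β t R S)
include h

omit [Finite G] c in
theorem ne_bot : R ≠ ⊥ := fun e => h.nc (by rw [e, cent_bot]; trivial)

include c in
omit [Finite G] in
theorem tt : t * t = 1 := zsq (Ω := Ω) h.two

omit [Finite G] in
theorem sw' : t • β = α := by rw [← h.sw, ← mul_smul, h.tt, one_smul]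

omit [Finite G] c in
theorem mv : t • α ≠ α := h.sw ▸ h.ne.symm

theorem bt : Bt Z 𝐍(R) α := bt_of h.hp h.hp2 h.pR h.four (fun e => h.mv (e h.tR)) h.ne_bot

theorem bt' : Bt Z 𝐍(R) β := h.sw ▸ h.bt.smul h.tR

theorem O_le : Oc 𝐍(R) ≤ St α ⊓ St β := le_inf h.bt.Oc_le h.bt'.Oc_le

include c in
theorem disj : ∀ z ∈ Z, z ∉ 𝐂(R) := fun _ => not_cent h.bt h.two h.tR h.nc

omit c in
theorem R_le_O : R ≤ Oc 𝐍(R) := le_Oc (.self_norm R) (odd_pgroup h.hp h.hp2 h.pR)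

theorem tD : t ∈ 𝐍(St α ⊓ St β) := swap_norm h.sw h.sw'

theorem iso (ht : t ∈ X) : Iso (X ⊓ (St α ⊓ St β)) t :=
  iso_swap h.two h.sw h.ne inf_le_right (mem_norm_inf (le_normalizer ht) h.tD)

theorem sylN : IsSylowIn p S (𝐍(R) ⊓ (St α ⊓ St β)) := by
  obtain ⟨P, hP, h1, h2⟩ := (h.iso h.tR).exists_sylow h.hp h.hp2 h.le h.pS h.tS
  rwa [eq_of_le_of_card_le h1 (h.maxS R P ⟨h.pR, hP.isPGroup, h.four, h.tR, h2, h.nc, hP.le⟩)]

theorem O_le' : Oc 𝐍(R) ≤ 𝐍(R) ⊓ (St α ⊓ St β) := le_inf (core_le _ _) h.O_le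

include c in
theorem R_le : R ≤ S := h.sylN.le_of_normalized h.pR (h.R_le_O.trans h.O_le') inf_le_left

/-- step A -/
theorem inf_WW : S ⊓ WW Z 𝐍(R) α β ≤ R := by
  have hO := Oc_le_WW (Z := Z) h.O_le
  have hW : WW Z 𝐍(R) α β ⊴ 𝐍(R) ⊓ (St α ⊓ St β) :=
    ⟨fun _ hx => hx.1, fun g hg => WW_norm hg.1 (.inl hg.2)⟩
  have h1 : R ≤ S ⊓ WW Z 𝐍(R) α β := le_inf h.R_le (h.R_le_O.trans hO)
  have hn : S ⊓ WW Z 𝐍(R) α β ≤ 𝐍(Oc 𝐍(R)) :=
    (inf_le_left.trans (h.le.trans inf_le_left)).trans (core_normal _ _).norm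
  have h2 : Oc 𝐍(R) ⊔ S ⊓ WW Z 𝐍(R) α β ≤ WW Z 𝐍(R) α β := sup_le hO inf_le_right
  refine (eq_of_le_of_card_le h1 (h.maxR _ ⟨h.pS.to_le inf_le_left, h.pS,
    four_frattini h.hp (odd_sup (odd_Oc _) (odd_pgroup h.hp h.hp2 (h.pS.to_le inf_le_left)) hn)
      (fun _ hx => (h2 hx).1.2.1) ?_
      ((sylow_inf_normal' h.hp h.sylN hW).of_le le_sup_right h2),
    mem_norm_inf h.tS (WW_norm h.tR (.inr ⟨h.sw, h.sw'⟩)),
    h.tS, fun e => h.nc (cent_anti h1 e),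
    le_inf (le_normalizer_inf le_normalizer (h.le.trans hW.norm)) (h.le.trans inf_le_right)⟩)).ge
  have key : ∀ a ∈ 𝐍(R) ⊓ St α, a ∈ Z → a ∈ 𝐍(Oc 𝐍(R) ⊔ S ⊓ WW Z 𝐍(R) α β) ⊓ St α :=
    fun a ha a2 => ⟨mem_norm_of_conj_le fun y hy => by
      obtain ⟨x, hx, rfl⟩ := mem_conj'.1 hy
      simpa [commutatorElement_def, mul_assoc] using
        mul_mem (mem_sup_left (inv_mem ((h2 hx).2 a ha.1 a2 (.inl ha.2)))) hx, ha.2⟩
  obtain ⟨a, ha, b, hb, a2, b2, h2⟩ := h.four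
  exact ⟨a, key a ha a2, b, key b hb b2, a2, b2, h2⟩

theorem zj : centerThompsonAOf S ≠ ⊥ ∧ centerThompsonAOf S ≤ S ∧ 𝐍(S) ≤ 𝐍(centerThompsonAOf S) :=
  B6.zj_ne_bot h.hp h.pS (ne_bot_of_le h.ne_bot h.R_le)

theorem exists_m {N : Subgroup G} (b : Bt Z N α) (ht : t ∈ N) (hμ : t • μ = μ) :
    ∃ g ∈ N, g • α = μ := by
  obtain ⟨a, ha, -, -, a2, -⟩ := b.four
  exact mem_orb_of_II a2 ha.2 ha.1 h.two hμ ht

theorem R_le_m (hμ : t • μ = μ) : R ≤ St μ := by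
  obtain ⟨g, hg, rfl⟩ := h.exists_m h.bt h.tR hμ
  exact h.R_le_O.trans (h.bt.smul hg).Oc_le

include c in
omit [Finite G] in
theorem exists_y : ∃ r ∈ R, r * t * r⁻¹ * t ≠ 1 ∧ r * t * r⁻¹ * t ∈ R ∧
    t * (r * t * r⁻¹ * t) * t = (r * t * r⁻¹ * t)⁻¹ := by
  have it := zinv (Ω := Ω) h.two
  by_contra! hn
  refine h.nc (mem_cent.2 fun r hr => ?_)
  by_contra hc
  refine hn r hr (fun e => hc ?_) ?_ (by simp [it, mul_assoc, h.tt])
  · rw [mul_eq_one_iff_eq_inv, it, mul_inv_eq_iff_eq_mul] at e; exact e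
  · simpa [it, mul_assoc] using mul_mem hr (conj_mem_of_mem_normalizer h.tR (inv_mem hr))

variable [Be.BeI] [Clo Z]

theorem R_normal (b : Bt Z 𝐍(R) μ) : R ⊴ b.E ⊔ S :=
  ⟨h.R_le.trans le_sup_right, sup_le (b.E_normal.le.trans inf_le_left) (h.le.trans inf_le_left)⟩

include c in
/-- stability -/
theorem mem_of_quad (hx : x ∈ S) (hq : ∀ v ∈ R, ⁅⁅v, x⁆, x⁆ = 1) : x ∈ R := by
  have key : ∀ μ : Ω, Bt Z 𝐍(R) μ → S ≤ St μ → ∀ a ∈ 𝐍(R), a ∈ Z → a • μ = μ →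
      ⁅x, a⁆ ∈ Oc 𝐍(R) := fun μ b hS a ha a2 e => by
    have hle := le_inf (h.le.trans inf_le_left) hS
    have hE := b.mem_E ha a2 e
    obtain ⟨k, hk⟩ := stab_no4 h.hp h.hp2 (b.no4 h.hp h.hp2 h.pS hle) (h.R_normal b) h.pR
      (mem_sup_right hx) (mem_sup_left hE) hq
    have h1 : ⁅x, a⁆ ∈ b.E := mul_mem (b.E_normal.conj_mem (hle hx) hE) (inv_mem hE)
    exact mem_of_odd_pow (h.hp.odd_of_ne_two h.hp2).pow (b.inf_le h.disj ⟨pow_mem h1 _, hk⟩)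
      (b.sq_mem h1)
  refine h.inf_WW ⟨hx, h.le hx, fun a ha a2 e => ?_⟩
  rcases e with e | e
  · exact key α h.bt (fun _ hy => (h.le hy).2.1) a ha a2 e
  · exact key β h.bt' (fun _ hy => (h.le hy).2.2) a ha a2 e

/-- step B -/
theorem four_zj : FourZ Z (𝐍(centerThompsonAOf S) ⊓ St α) := by
  have b := h.bt
  have hle : S ≤ 𝐍(R) ⊓ St α := fun _ hy => ⟨(h.le hy).1, (h.le hy).2.1⟩
  obtain ⟨h1, h2⟩ := zj_sup_normal h.hp h.hp2 (b.no4 h.hp h.hp2 h.pS hle) (b.sol h.hp h.pS hle)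
    (b.sylow h.hp h.hp2 h.sylN h.O_le' hle)
  have h0 : core {p}ᶜ (b.E ⊔ S) ≤ Oc 𝐍(R) := (le_inf (le_of_not_dvd h.hp h.pS
    (hle.trans b.E_normal.norm) (core_le _ _) (not_dvd_card_core h.hp _))
    ((core_normal _ _).le_cent_of_coprime (h.R_normal b)
      (pgroup_coprime h.hp h.pR (not_dvd_card_core h.hp _)).symm)).trans (b.inf_le h.disj)
  have h3 : core {p}ᶜ (b.E ⊔ S) ⊔ centerThompsonAOf S ≤ Oc 𝐍(R) ⊔ S := sup_le_sup h0 h.zj.2.1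
  refine four_frattini h.hp (odd_of_le (odd_sup (odd_Oc _) (odd_pgroup h.hp h.hp2 h.pS)
    ((hle.trans inf_le_left).trans (core_normal _ _).norm)) h3)
    (h3.trans (sup_le b.Oc_le (hle.trans inf_le_right))) ?_ h2
  obtain ⟨a, ha, d, hd, a2, d2, h4⟩ := h.four
  exact ⟨a, ⟨h1.norm (mem_sup_left (b.mem_E ha.1 a2 ha.2)), ha.2⟩, d,
    ⟨h1.norm (mem_sup_left (b.mem_E hd.1 d2 hd.2)), hd.2⟩, a2, d2, h4⟩

theorem bt_zj : Bt Z 𝐍(centerThompsonAOf S) α :=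
  bt_of h.hp h.hp2 (h.pS.to_le h.zj.2.1) h.four_zj (fun e => h.mv (e (h.zj.2.2 h.tS))) h.zj.1

/-- step C -/
theorem syl : IsSylowIn p S (St α ⊓ St β) := by
  have b := h.bt_zj
  obtain ⟨-, hZ, hn⟩ := h.zj
  set N := 𝐍(centerThompsonAOf S)
  have tN : t ∈ N := hn h.tS
  have SN : S ≤ N := le_normalizer.trans hn
  have SD : S ≤ St α ⊓ St β := h.le.trans inf_le_right
  obtain ⟨P, hP, h1, h2⟩ := (h.iso tN).exists_sylow h.hp h.hp2 (le_inf SN SD) h.pS h.tS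
  have hO : Oc N ⊴ N ⊓ (St α ⊓ St β) :=
    ⟨le_inf (core_le _ _) (le_inf b.Oc_le (h.sw ▸ (b.smul tN).Oc_le)),
      inf_le_left.trans (core_normal _ N).norm⟩
  obtain ⟨μ, hμ⟩ := exists_fix Ω h.two
  obtain ⟨g, hg, rfl⟩ := h.exists_m b tN hμ
  obtain ⟨r, hr, y1, yR, yi⟩ := h.exists_y
  have b' := b.smul hg
  have tE := b'.mem_E tN h.two hμ
  have yO : r * t * r⁻¹ * t ∈ Oc N := b'.mem_Oc
    (mul_mem (b'.E_normal.conj_mem ⟨SN (h.R_le hr), h.R_le_m hμ hr⟩ tE) tE)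
    (odd_orderOf_of_mem (odd_pgroup h.hp h.hp2 h.pR) yR)
  have h3 := eq_of_le_of_card_le h1 (h.maxS (P ⊓ Oc N) P ⟨hP.isPGroup.to_le inf_le_left, hP.isPGroup,
    four_frattini h.hp (odd_Oc N) b.Oc_le
      (b.four.mono (inf_le_inf_right _ (core_normal _ N).norm)) (sylow_inf_normal' h.hp hP hO),
    mem_norm_inf h2 ((core_normal _ N).norm tN), h2, fun e => y1 ?_,
    le_inf (le_normalizer_inf le_normalizer (hP.le.trans hO.norm)) (hP.le.trans inf_le_right)⟩)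
  · subst h3
    exact sylow_of_sylow_norm h.hp SD (hP.of_le (le_inf SD le_normalizer)
      (le_inf (inf_le_right.trans hn) inf_le_left))
  · refine Sz.eq_one_of_odd_of_sq (odd_orderOf_of_mem (odd_Oc N) yO) ?_
    rw [← mem_cent.1 e _ ⟨h1 (h.R_le yR), yO⟩, mul_assoc, h.tt, mul_one] at yi
    exact mul_eq_one_iff_eq_inv.2 yi

theorem S_norm : S ≤ 𝐍(Oc (St α ⊓ St β)) := h.syl.le.trans (core_normal _ _).norm

theorem syl' : IsSylowIn p S (Oc (St α ⊓ St β) ⊔ S) :=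
  h.syl.of_le le_sup_right (sup_le (core_le _ _) h.syl.le)

theorem odd' : Odd #|Oc (St α ⊓ St β) ⊔ S| :=
  odd_sup (odd_Oc _) (odd_pgroup h.hp h.hp2 h.pS) h.S_norm

theorem core_le' : core {p}ᶜ (Oc (St α ⊓ St β) ⊔ S) ≤ core {p}ᶜ (Oc (St α ⊓ St β)) :=
  core_le_core_of_le (le_of_not_dvd h.hp h.pS h.S_norm (core_le _ _) (not_dvd_card_core h.hp _))
    le_sup_left

/-- step D -/
theorem le_core (hX : X ≤ Oc (St α ⊓ St β)) (hp' : ¬ p ∣ #|X|) (hn : R ≤ 𝐍(X)) :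
    X ≤ core {p}ᶜ (Oc (St α ⊓ St β)) := by
  have h2 := core2_normal {p}ᶜ {p} (Oc (St α ⊓ St β) ⊔ S)
  refine (lemO' (R := R ⊓ core2 {p}ᶜ {p} (Oc (St α ⊓ St β) ⊔ S)) h.hp
    (sol_odd h.odd') h.syl' (inf_le_inf_right _ h.R_le) (fun x hx => ⟨?_, hx.1.2⟩)
    (hX.trans le_sup_left) hp' (inf_le_left.trans hn)).trans h.core_le'
  refine h.mem_of_quad hx.1.1 fun v hv => commutatorElement_eq_one_iff_mul_comm.2
    (mem_cent.1 hx.2 _ ⟨?_, ?_⟩)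
  · exact comm_le_left (h.le.trans inf_le_left) (commutator_mem_commutator hv hx.1.1)
  · exact h2.comm_le_right (h.R_le.trans le_sup_right) (commutator_mem_commutator hv hx.1.2)

omit [Be.BeI] in
/-- step E -/
theorem cent_comm_le (hμ : t • μ = μ) : 𝐂(⁅R, zpowers t⁆) ≤ St μ := by
  obtain ⟨r, hr, y1, yR, yi⟩ := h.exists_y
  have yK := mem_comm_inv h.tt hr
  by_cases ho : ∀ z ∈ Z, z ∉ 𝐂(⁅R, zpowers t⁆)
  · obtain ⟨g, hg, rfl⟩ := h.exists_m h.bt h.tR hμ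
    have b := h.bt.smul hg
    obtain ⟨a, ha, d, hd, a2, d2, hne, hc⟩ := b.four
    obtain ⟨n, hn, e⟩ := exists_conj_in a2 ha.2 ha.1 b.nle h.two h.tR
    have hnμ := fix_of_conj a2 ha.2 (e ▸ hμ)
    have key : ∀ z ∈ 𝐍(R), z * t = t * z → z ∈ 𝐍(𝐂(⁅R, zpowers t⁆)) := fun z hz hc =>
      norm_le_norm_cent _ (le_normalizer_commutator (zpowers_le.2 hz)
        (le_norm_zpowers_of_cent (zpowers_le.2 (mem_cent1.2 hc))) (mem_zpowers z))
    have hc' := (hc.conj n).symm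
    rw [e] at hc'
    exact le_stab_of_disj ho ⟨t, ⟨key t h.tR rfl, hμ⟩, n * d * n⁻¹,
      ⟨key _ (mul_mem (mul_mem hn hd.1) (inv_mem hn)) hc'.eq, hnμ ▸ conj_smul_smul hd.2 n⟩,
      h.two, c.conj d d2 n, fun e' => hne (by simpa [← e] using e'), hc'.symm⟩
  · have key : ∀ z ∈ 𝐂(⁅R, zpowers t⁆), z ∈ Z → z • μ = μ := fun z hz z2 => by
      obtain ⟨ν, hν⟩ := exists_fix Ω z2
      by_contra hne
      exact y1 (eq_one_of_inv h.two yi (odd_orderOf_of_mem (odd_pgroup h.hp h.hp2 h.pR) yR) z2 hν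
        (mem_cent.1 hz _ yK) fun e => hne (fix_unique h.two hμ e ▸ hν))
    push Not at ho
    obtain ⟨z, z2, hz⟩ := ho
    exact fun g hg => fix_of_conj z2 (key z hz z2)
      (key _ (mul_mem (mul_mem hg hz) (inv_mem hg)) (c.conj z z2 g))

theorem full : Full Ω Z := by
  have hY : core {p}ᶜ (Oc (St α ⊓ St β)) ⊴ St α ⊓ St β := (core_normal _ _).core _
  have hp' := not_dvd_card_core h.hp (Oc (St α ⊓ St β))
  have tY := norm_le_norm_core {p}ᶜ _ (norm_le_norm_core {2}ᶜ _ h.tD)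
  by_cases h0 : core {p}ᶜ (Oc (St α ⊓ St β)) = ⊥
  · have b := h.bt_zj
    obtain ⟨a, ha, -, -, a2, -⟩ := b.four
    refine full_of b.ne_top ?_ ha.1 a2 ha.2 b.nle h.ne.symm
    rw [inf_comm]
    exact le_sup_left.trans
      (B6.zj_normal h.hp h.odd' (sol_odd h.odd') h.syl' (le_bot_iff.1 (h0 ▸ h.core_le'))).norm
  have YO : core {p}ᶜ (Oc (St α ⊓ St β)) ≤ Oc (St α ⊓ St β) := core_le _ _
  set Y := core {p}ᶜ (Oc (St α ⊓ St β))
  obtain ⟨μ, hμ⟩ := exists_fix Ω h.two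
  have RY : R ≤ 𝐍(Y) := (h.R_le.trans h.syl.le).trans hY.norm
  have h1 : Y ≤ St μ := le_of_lemC h.tt (cent1_le_stab h.two hμ) (h.R_le_m hμ) h.tR
    (odd_of_le (odd_Oc _) YO) (pgroup_coprime h.hp h.pR hp') tY RY
    (inf_le_right.trans (h.cent_comm_le hμ))
  obtain ⟨g, hg, rfl⟩ := h.exists_m h.bt h.tR hμ
  have hne : g • α ≠ α := fun e => h.mv (e ▸ hμ)
  obtain ⟨n, hn, e1, e2⟩ := h.bt.tr2 h.tR hg h.mv hne
  rw [h.sw] at e2
  have eD : n ⋆ (St α ⊓ St β) = St α ⊓ St (g • α) := by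
    rw [conj_inf, conj_st, conj_st, e1, e2]
  have nY : n ∈ 𝐍(Y) := by
    refine inv_mem_iff.1 (mem_norm_of_conj_le (h.le_core ?_ (by rwa [card_conj]) ?_))
    · rw [← le_conj_iff, conj_core, eD]
      exact (le_inf (h.sw ▸ YO) h1).trans (tri' h.two hμ hne.symm)
    · rwa [← conj_norm, le_conj_iff, inv_inv, conj_of_mem_norm hn]
  have sw : (n * t * n⁻¹) • g • α = α := by
    rw [← e2, mul_smul, mul_smul, inv_smul_smul, h.sw', e1]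
  refine full_of (norm_ne_top c.toRed h0 h1) ((core_le _ _).trans ?_) tY h.two hμ
    (fun e => hne ?_) hne.symm
  · exact eD ▸ conj_le_of_mem nY hY.norm
  · exact (e (mul_mem (mul_mem nY tY) (inv_mem nY))).symm.trans sw

end Ext

instance instPropL [Be.BeI] : PropL where
  full := fun {G Ω} _ _ _ {Z} _ _ {p t δ R} hp hp2 hR h4 hN t2 ht hc => by
    have b := bt_of hp hp2 hR h4 hN fun e => hc (by rw [e, cent_bot]; trivial)
    obtain ⟨g, hg, hne⟩ := SetLike.not_le_iff_exists.1 hN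
    obtain ⟨a, ha, -, -, a2, -⟩ := id h4
    obtain ⟨u, hu, u2, sw, -⟩ := exists_swap a2 ha.2 ha.1 (Be.P1.self_mem_orb _ δ)
      ⟨g, hg, rfl⟩ (Ne.symm hne)
    have h0 : Adm Z p δ (g • δ) u R ⊥ := ⟨hR, IsPGroup.of_bot, h4, hu, by rw [norm_bot]; trivial,
      not_cent b t2 ht hc u2, bot_le⟩
    obtain ⟨S, ⟨R₀, hS⟩, mS⟩ := Set.exists_max_image {S | ∃ R, Adm Z p δ (g • δ) u R S}
      (fun S => #|S|) (Set.toFinite _) ⟨⊥, R, h0⟩
    obtain ⟨R₁, h1, mR⟩ := Set.exists_max_image {R | Adm Z p δ (g • δ) u R S}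
      (fun S => #|S|) (Set.toFinite _) ⟨R₀, hS⟩
    exact Ext.full ⟨h1, hp, hp2, u2, Ne.symm hne, sw, fun R' S' h => mS S' ⟨R', h⟩, mR⟩

end Cfsg.Agent.As.PL
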