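import Cfsg.Agent.As.A1

/-! ZD (notes/zd1.md): Proposition T. -/

set_option autoImplicit false
set_option maxHeartbeats 400000
set_option linter.style.haveILetI false

namespace Cfsg.Agent.As.T

open Subgroup MulAction Cfsg.Agent.H1 Cfsg.Agent.L Cfsg.Agent.FT Cfsg.Agent.FT.B1
open Cfsg.Agent.Be (invs odd_orderOf_of_mem odd_core comm_inv_le mem_comm_inv cop_odd sol_zpowers
  sol_odd le_of_lemC lemO inverts_mod conj_smul_smul)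
open Cfsg.Agent.Be.P1 (orb conj_st conj_st2 le_st_smul swap_norm not_le_of_ne le_st_orb smul_mem_orb
  self_mem_orb exists_ne_of_not_le orb_mono witt sylow_transfer fix_mid inv_comm_inv mem_comm_of_inv
  comm_mem_invs odd_sup)
open Cfsg.Agent.Be.PL (odd_pgroup)
open scoped Pointwise commutatorElement

variable {G Ω : Type} [Group G] [MulAction G Ω] [Finite G] {Z : Set G} [c : Red Ω Z]
  {a b t k y g u : G} {α β γ δ φ x μ ψ m : Ω} {M N P U U₀ X Y : Subgroup G} {p : ℕ} {Δ : Set Ω}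

local notation "St" => stabilizer G

theorem sylow_eq_comm (hp : p.Prime) (hp2 : p ≠ 2) (ha : a ∈ Z) (h1 : a • δ = δ) (hφ : φ ≠ δ)
    (hU : IsSylowIn p U (St φ ⊓ St (a • φ))) (hn : a ∈ 𝐍(U)) (hδ : U ≤ St δ) (hψ : ψ ≠ δ)
    (h0 : ⁅U, zpowers a⁆ ≤ St ψ) : ∃ P, IsSylowIn p P (St ψ ⊓ St (a • ψ)) ∧ a ∈ 𝐍(P) ∧
      ⁅P, zpowers a⁆ = ⁅U, zpowers a⁆ ∧ P ≤ St δ := by
  have aa := zsq (Ω := Ω) ha
  have hU0 : ⁅U, zpowers a⁆ ≤ U := comm_le_left (zpowers_le.2 hn)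
  have n0 := right_le_norm_comm U (zpowers a) (mem_zpowers a)
  have o2 := odd_pgroup hp hp2 hU.isPGroup
  obtain ⟨P, hP, h2, h3⟩ := (iso_stab2 ha rfl (smul_ne ha h1 hψ).symm).exists_sylow hp hp2
    (le_inf h0 (le_st_smul n0 h0)) (hU.isPGroup.to_le hU0) n0
  have o3 := odd_pgroup hp hp2 hP.isPGroup
  have s1 : invs U a ⊆ invs P a := fun k hk =>
    ⟨h2 (mem_comm_of_inv aa hk.1 (odd_orderOf_of_mem o2 hk.1) hk.2), hk.2⟩
  have s2 : invs U a = invs P a := Set.eq_of_subset_of_ncard_le s1 (by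
    rw [n3 hp hp2 ha rfl (smul_ne ha h1 hψ).symm hP h3 δ,
      n3 hp hp2 ha rfl (smul_ne ha h1 hφ).symm hU hn δ]) (Set.toFinite _)
  have e : ⁅P, zpowers a⁆ = ⁅U, zpowers a⁆ := le_antisymm
    (comm_inv_le aa fun y hy => by
      have := s2 ▸ comm_mem_invs aa h3 hy
      exact mem_comm_of_inv aa this.1 (odd_orderOf_of_mem o2 this.1) this.2)
    (comm_inv_le aa fun y hy => by
      have := s1 (comm_mem_invs aa hn hy)
      exact mem_comm_of_inv aa this.1 (odd_orderOf_of_mem o3 this.1) this.2)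
  refine ⟨P, hP, h3, e, ?_⟩
  rw [← commutator_sup_centralizer (zpowers_le.2 h3) (cop_odd aa o3) (Or.inl (sol_zpowers a)), e,
    cent_zpowers]
  exact sup_le (hU0.trans hδ) (inf_le_right.trans (cent1_le_stab ha h1))

section Final
variable (hp : p.Prime) (hp2 : p ≠ 2) (ha : a ∈ Z) (h1 : a • δ = δ) (pU : IsPGroup p U)
  (hn : a ∈ 𝐍(U)) (hδ : U ≤ stabilizer G δ) (hM : M ≤ 𝐍(U)) (haM : a ∈ M)
  (hc : ∀ ψ ∈ orb M δ, ψ ≠ δ →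
    stabilizer G ψ ⊓ stabilizer G (a • ψ) ⊓ 𝐂(⁅U, zpowers a⁆) ≤ stabilizer G δ)
  (hm : ∀ ψ ∈ orb M δ, ψ ≠ δ → ∀ V : Subgroup G,
    IsSylowIn p V (stabilizer G ψ ⊓ stabilizer G (a • ψ)) → #|V| ≤ #|U|)
  (hMδ : ¬ M ≤ stabilizer G δ)
include hp ha h1 pU hn hδ hM haM hc hm hMδ

theorem keyT (hα : α ∈ orb M δ) (hβ : β ∈ orb M δ) (h : α ≠ β) :
    ∃ u ∈ M, u ∈ Z ∧ u • α = β ∧ u • β = α ∧ IsSylowIn p U (St α ⊓ St β) ∧
      ∃ m ∈ orb M δ, u • m = m ∧ core {p}ᶜ (core {2}ᶜ (St α ⊓ St β)) ≤ St m := by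
  haveI := Fact.mk hp
  obtain ⟨t, htM, ht, t1, t2⟩ := exists_swap ha h1 haM hα hβ h
  obtain ⟨n, hnM, e3⟩ := exists_conj_in ha h1 haM hMδ ht htM
  have m1 : n⁻¹ • α ∈ orb M δ := smul_mem_orb (inv_mem hnM) hα
  have m2 : n⁻¹ • α ≠ δ := fun e4 => h (by
    rw [← t1, ← e3, mul_smul, mul_smul, e4, h1, ← e4, smul_inv_smul])
  have m3 : n ⋆ (St (n⁻¹ • α) ⊓ St (a • n⁻¹ • α)) = St α ⊓ St β := by
    rw [conj_st2, smul_inv_smul, ← t1, ← e3, mul_smul, mul_smul]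
  have m4 : U ≤ St (n⁻¹ • α) ⊓ St (a • n⁻¹ • α) :=
    le_inf (le_st_orb hM hδ m1) (le_st_orb hM hδ (smul_mem_orb haM m1))
  obtain ⟨V, hV⟩ := exists_isSylowIn p (St (n⁻¹ • α) ⊓ St (a • n⁻¹ • α))
  have s := sylow_conj hp (hV.of_card_le pU m4 (hm _ m1 m2 V hV)) n
  rw [m3, conj_of_mem_norm (hM hnM)] at s
  refine ⟨t, htM, ht, t1, t2, s, n • δ, ⟨n, hnM, rfl⟩, e3 ▸ conj_smul_smul h1 n, ?_⟩
  rw [← m3, ← conj_core, ← conj_core, ← conj_st n δ]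
  exact conj_mono n (le_of_lemC (zsq (Ω := Ω) ha) (cent1_le_stab ha h1) hδ hn
    (odd_of_le (odd_core _) (core_le _ _)) (pgroup_coprime hp pU (not_dvd_card_core hp _))
    (norm_le_norm_core _ _ (norm_le_norm_core _ _ (swap_norm rfl (zsmul ha _))))
    (le_norm_core (m4.trans (core_normal _ _).norm) _)
    ((inf_le_inf_right _ ((core_le _ _).trans (core_le _ _))).trans (hc _ m1 m2)))

include hp2 in
theorem finalT (hU1 : U ≠ ⊥) : Full Ω Z := by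
  haveI : Finite Ω := finΩ c
  obtain ⟨ψ, hψ, h2⟩ := exists_ne_of_not_le hMδ
  obtain ⟨⟨α, β⟩, ⟨hα, hβ, h⟩, hmax⟩ := Set.exists_max_image
    {q : Ω × Ω | q.1 ∈ orb M δ ∧ q.2 ∈ orb M δ ∧ q.1 ≠ q.2}
    (fun q => #|core {p}ᶜ (core {2}ᶜ (St q.1 ⊓ St q.2))|) (Set.toFinite _)
    ⟨(ψ, δ), hψ, self_mem_orb _ _, h2⟩
  obtain ⟨u, huM, u2, u3, u4, -, m, hm1, hm2, hm3⟩ := keyT hp ha h1 pU hn hδ hM haM hc hm hMδ hα hβ h
  have h3 : α ≠ m := fun e => h (by rw [← u3, e, hm2])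
  obtain ⟨t, htM, -, t3, t4, s, -⟩ := keyT hp ha h1 pU hn hδ hM haM hc hm hMδ hα hm1 h3
  have nO := s.le.trans (core_normal {2}ᶜ _).norm
  have oD := odd_sup (odd_core _) (odd_pgroup hp hp2 pU) nO
  have s' := s.of_le le_sup_right (sup_le (core_le {2}ᶜ _) s.le)
  have h4 : core {p}ᶜ (core {2}ᶜ (St α ⊓ St β)) ≤ core {2}ᶜ (St α ⊓ St m) :=
    (le_inf (core_le _ _) hm3).trans (u3 ▸ tri' u2 hm2 h3)
  have e : core {p}ᶜ (core {2}ᶜ (St α ⊓ St β)) = core {p}ᶜ (core {2}ᶜ (St α ⊓ St m)) :=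
    eq_of_le_of_card_le ((le_inf (lemO hp (sol_odd oD) s' (h4.trans le_sup_left)
      (not_dvd_card_core hp _) (le_norm_core ((le_inf (le_st_orb hM hδ hα)
        (le_st_orb hM hδ hβ)).trans (core_normal _ _).norm) _)) h4).trans (core_inf_le le_sup_left))
      (hmax (α, m) ⟨hα, hm1, h3⟩)
  by_cases h0 : core {p}ᶜ (core {2}ᶜ (St α ⊓ St m)) = ⊥
  · obtain ⟨z1, z2, z3⟩ := B6.zj_ne_bot hp pU hU1
    refine full_of (norm_ne_top c z1 (z2.trans hδ)) (le_sup_left.trans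
      (B6.zj_normal hp oD (sol_odd oD) s' (eq_bot_iff.2 (le_of_le_of_eq ((le_inf le_rfl
        ((NormalIn.sup_left nO).le_of_coprime (core_le _ _) ?_)).trans (core_inf_le le_sup_left))
        h0))).norm) (z3 (hM huM)) u2 hm2 (not_le_of_ne (z3 (hM htM)) (t4 ▸ h3)) h3
    obtain ⟨n, hn⟩ := pgroup_relIndex hp pU (core {2}ᶜ (St α ⊓ St m))
    rw [relIndex_sup_of_norm nO, hn]
    exact ((hp.coprime_iff_not_dvd.2 (not_dvd_card_core hp _)).pow_left n).symm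
  · exact full_of (norm_ne_top c h0 ((core_le _ _).trans ((core_le _ _).trans inf_le_left)))
      (core_normal _ _).norm (e ▸ norm_le_norm_core _ _ (norm_le_norm_core _ _ (swap_norm u3 u4)))
      u2 hm2 (not_le_of_ne (norm_le_norm_core _ _ (norm_le_norm_core _ _ (swap_norm t3 t4)))
        (t4 ▸ h3)) h3

end Final

theorem stepT (hp : p.Prime) (hp2 : p ≠ 2) (ha : a ∈ Z) (h1 : a • δ = δ) (hφ : φ ≠ δ)
    (hU : IsSylowIn p U (St φ ⊓ St (a • φ))) (hn : a ∈ 𝐍(U)) (hδ : U ≤ St δ)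
    (h0 : ⁅U, zpowers a⁆ ≠ ⊥) (hne : ∃ ψ ∈ Δ, ψ ≠ δ) (hΔ : ∀ ψ ∈ Δ, ⁅U, zpowers a⁆ ≤ St ψ)
    (hc : ∀ ψ ∈ Δ, ψ ≠ δ → St ψ ⊓ St (a • ψ) ⊓ 𝐂(⁅U, zpowers a⁆) ≤ St δ)
    (hM : ∀ ψ ∈ Δ, ψ ≠ δ → ∀ P, IsSylowIn p P (St δ ⊓ St ψ) → a ∈ 𝐍(P) → ⁅U, zpowers a⁆ ⊴ P →
      ∃ M ≤ 𝐍(P), a ∈ M ∧ ¬ M ≤ St δ ∧ orb M δ ⊆ Δ) : Full Ω Z := by
  haveI : Finite Ω := finΩ c
  haveI := Fact.mk hp
  obtain ⟨ψ, ⟨hψ, h2⟩, hmax⟩ := Set.exists_max_image {ψ | ψ ∈ Δ ∧ ψ ≠ δ}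
    (fun ψ => p ^ (#|St ψ ⊓ St (a • ψ)|).factorization p) (Set.toFinite _) hne
  obtain ⟨P, hP, h3, e, h4⟩ := sylow_eq_comm hp hp2 ha h1 hφ hU hn hδ h2 (hΔ ψ hψ)
  have h5 : ⁅U, zpowers a⁆ ⊴ P := e ▸ ⟨comm_le_left (zpowers_le.2 h3), left_le_norm_comm _ _⟩
  obtain ⟨M, m1, m2, m3, m4⟩ := hM ψ hψ h2 P
    (sylow_transfer hp hP (le_inf h4 (hP.le.trans inf_le_left)) (card_n1 ha h1 h2)) h3 h5
  exact finalT hp hp2 ha h1 hP.isPGroup h3 h4 m1 m2 (fun x hx h => e ▸ hc x (m4 hx) h)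
    (fun x hx h V hV => by rw [hV.card_eq, hP.card_eq]; exact hmax x ⟨m4 hx, h⟩) m3
    (ne_bot_of_le h0 h5.le)

theorem cent_le_of_mem (ha : a ∈ Z) (h1 : a • δ = δ) (hy : y ∈ X) (y1 : y ≠ 1)
    (h2 : a * y * a = y⁻¹) (ho : Odd (orderOf y)) (hb : b ∈ Z) (h : b ∈ 𝐂(X)) : 𝐂(X) ≤ St δ := by
  have key : ∀ b ∈ 𝐂(X), b ∈ Z → b • δ = δ := fun b hb b2 => by
    obtain ⟨x, hx⟩ := exists_fix Ω b2
    by_cases e : a • x = x
    · rwa [fix_unique ha h1 e]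
    · exact absurd (eq_one_of_inv ha h2 ho b2 hx (mem_cent.1 hb y hy) e) y1
  exact fun g hg => fix_of_conj hb (key b h hb)
    (key _ (mul_mem (mul_mem hg h) (inv_mem hg)) (zconj (Ω := Ω) hb g))

theorem propT [Clo Z] (hp : p.Prime) (hp2 : p ≠ 2) (ha : a ∈ Z) (h1 : a • δ = δ) (hφ : φ ≠ δ)
    (hU : IsSylowIn p U (St φ ⊓ St (a • φ))) (hn : a ∈ 𝐍(U)) (hδ : U ≤ St δ) (hc : a ∉ 𝐂(U)) :
    Full Ω Z := by
  have aa := zsq (Ω := Ω) ha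
  have hU0 : ⁅U, zpowers a⁆ ≤ U := comm_le_left (zpowers_le.2 hn)
  have h0 : ⁅U, zpowers a⁆ ≠ ⊥ := fun e => hc (zpowers_le.1 (comm_eq_bot_iff'.1 e))
  by_cases hC : 𝐂(⁅U, zpowers a⁆) ≤ St δ
  · refine stepT (Δ := {x | ⁅U, zpowers a⁆ ≤ St x}) hp hp2 ha h1 hφ hU hn hδ h0
      ⟨φ, hU0.trans (hU.le.trans inf_le_left), hφ⟩ (fun _ h => h)
      (fun _ _ _ => inf_le_right.trans hC) fun ψ _ h2 P hP h3 h4 => ⟨𝐍(P), le_rfl, h3, ?_,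
        fun x hx => h4.le.trans (le_st_orb le_rfl (hP.le.trans inf_le_left) hx)⟩
    obtain ⟨t, ht, -, e, -⟩ := stype c hp hp2 h2.symm hP
    exact not_le_of_ne ht (e ▸ h2)
  have aC := norm_le_norm_cent _ (right_le_norm_comm U (zpowers a) (mem_zpowers a))
  have ho : ¬ core {2}ᶜ 𝐂(⁅U, zpowers a⁆) ≤ St δ := fun h => hC fun x hx => by
    obtain ⟨y, hy, y1⟩ : ∃ y ∈ U, y * a * y⁻¹ * a ≠ 1 := by
      by_contra h2
      push Not at h2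
      exact h0 (le_bot_iff.1 (comm_inv_le aa h2))
    obtain ⟨k, hk, -, -, e⟩ := (iso_of_isolated (ztwo (Ω := Ω) ha) aC fun x hx h3 => by_contra fun e =>
      hC (cent_le_of_mem ha h1 (mem_comm_inv aa hy) y1 (inv_comm_inv aa y) (odd_orderOf_of_mem
        (odd_pgroup hp hp2 hU.isPGroup) (hU0 (mem_comm_inv aa hy)))
        (Clo.mul a ha _ (zconj (Ω := Ω) ha x) (Ne.symm e) h3)
        (h3.eq ▸ (comm_mem_invs aa aC hx).1))).dec hx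
    simpa using mul_mem (h hk.1) (cent1_le_stab ha h1 e.2)
  obtain ⟨M, -, ⟨m1, m2, m3⟩, hmin⟩ := exists_minimal_le_of_wellFoundedLT
    (fun M : Subgroup G => M ≤ core {2}ᶜ 𝐂(⁅U, zpowers a⁆) ∧ 𝐍(⁅U, zpowers a⁆) ≤ 𝐍(M) ∧ ¬ M ≤ St δ) _
    ⟨le_rfl, (norm_le_norm_cent _).trans (norm_le_norm_core _ _), ho⟩
  have oM := odd_of_le (odd_core _) m1
  have hd : ⁅M, M⁆ ≤ St δ := by
    by_contra h
    exact (der1_lt (sol_odd oM) fun e => m3 (e ▸ bot_le)).not_ge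
      (hmin ⟨(der1_le M).trans m1, m2.trans (norm_le_norm_der1 M), h⟩ (der1_le M))
  have aM : a ∈ 𝐍(M) := m2 (right_le_norm_comm _ _ (mem_zpowers a))
  have hB : ⁅M, M⁆ ≤ M ⊓ St δ := le_inf (der1_le M) hd
  refine stepT (Δ := orb M δ) hp hp2 ha h1 hφ hU hn hδ h0 (exists_ne_of_not_le m3)
    (fun x hx => le_st_orb ((m1.trans (core_le _ _)).trans (cent_le_norm _)) (hU0.trans hδ) hx) ?_ ?_
  · rintro _ ⟨g, hg, rfl⟩ - b hb
    refine fix_mid oM hd (m2 (cent_le_norm _ hb.2)) hg hb.1.1 ?_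
    have := (inverts_mod aa oM inf_le_left hB aM (zpowers_le.1 (le_normalizer_inf (zpowers_le.2 aM)
      ((zpowers_le.2 h1).trans le_normalizer))) (inf_le_inf_left M (cent1_le_stab ha h1)) hg).2
    have e : a • g • δ = g⁻¹ • δ := by
      rw [eq_inv_smul_iff, ← inv_smul_eq_iff.2 h1.symm, smul_smul, smul_smul, smul_smul,
        inv_smul_eq_iff.2 h1.symm]
      exact (congrArg (· • δ) (by simp only [mul_assoc])).trans this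
    exact e ▸ hb.1.2
  · intro ψ hψ h2 P hP h3 h4
    have n1 : P ≤ 𝐍(M) ⊓ St δ := le_inf (h4.norm.trans m2) (hP.le.trans inf_le_left)
    have h5 : (M ⊔ P) ⊓ St δ ≤ St δ ⊓ St ψ := fun g hg => by
      obtain ⟨m, hm, v, hv, rfl⟩ := ((NormalIn.self_norm M).mem_sup (h4.norm.trans m2)).1 hg.1
      have : m ∈ St δ := by simpa using (St δ).mul_mem hg.2 ((St δ).inv_mem (n1 hv).2)
      exact ⟨hg.2, mul_mem (le_st_orb (le_norm_of_der1_le inf_le_left hB) inf_le_right hψ ⟨hm, this⟩)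
        (hP.le hv).2⟩
    obtain ⟨n, hn, n2, e⟩ := witt (X := M ⊔ P) hp (hP.of_le (le_inf le_sup_right
      (hP.le.trans inf_le_left)) h5) (hP.le.trans inf_le_right) (orb_mono le_sup_left hψ)
    refine ⟨𝐍(P) ⊓ (M ⊔ 𝐍(M) ⊓ St δ), inf_le_left, ⟨h3, mem_sup_right ⟨aM, h1⟩⟩,
      not_le_of_ne ⟨n2, sup_le_sup_left n1 M hn⟩ (e ▸ h2), ?_⟩
    rintro _ ⟨z, hz, rfl⟩
    obtain ⟨g, hg, h, hh, rfl⟩ := ((NormalIn.self_norm M).mem_sup inf_le_left).1 hz.2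
    exact ⟨g, hg, by rw [mul_smul, hh.2]⟩

instance instPropTZ : PropT := ⟨propT⟩

end Cfsg.Agent.As.T
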