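import Cfsg.Agent.As.A4
import Cfsg.Agent.As.T
import Cfsg.Agent.As.L2

/-! ZD, part 1: the conclusions (notes/zd1.md). -/

set_option autoImplicit false

namespace Cfsg.Agent.As

open Subgroup MulAction Cfsg.Agent.H1 Cfsg.Agent.L Cfsg.Agent.FT Cfsg.Agent.FT.B1
open Cfsg.Agent.Be (invs sq_of_two inv_of_two two_of_sq ne_one_of_two odd_orderOf_of_mem odd_core
  le_core_of_odd conj_smul_smul two_conj)
open Cfsg.Agent.Be.P1 (orb conj_st conj_st2 le_st_smul swap_norm not_le_of_ne self_mem_orb smul_mem_orb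
  comm_mem_invs Fix3 orb_rel orb_symm orb_trans orb_mono odd_sup smul_ne' le_st_orb)
open Cfsg.Agent.Be.PL (odd_pgroup mem_norm_inf)
open scoped Pointwise commutatorElement

variable {G Ω : Type} [Group G] [MulAction G Ω] {Z : Set G} [Finite G]
variable {a b t g : G} {α β γ m : Ω} {N X U : Subgroup G} {p : ℕ}

local notation "St" => stabilizer G

/-- (Rp) on an orbit -/
theorem rp_orb (hp : p.Prime) (hX : Odd #|X|) (hU : U ≤ X) (pU : IsPGroup p U) (hα : U ≤ St α)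
    (hβ : U ≤ St β) (h : β ∈ orb X α) (ex : ∀ γ ∈ orb X α, U ≤ St γ → γ = α ∨ γ = β) : α = β := by
  haveI := Fact.mk hp
  obtain ⟨P, hP, hUP⟩ := exists_isSylowIn_ge pU (le_inf hU (le_inf hα hβ))
  have l : P ≤ St α := fun _ hx => (hP.le hx).2.1
  have r : P ≤ St β := fun _ hx => (hP.le hx).2.2
  have perm : ∀ g ∈ X, g ∈ 𝐍(P) → g • α = α ∧ g • β = β := fun g hg hn => by
    have o := odd_orderOf_of_mem hX hg
    rcases ex _ ⟨g, hg, rfl⟩ (hUP.trans (le_st_smul hn l)) with e | e <;>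
      rcases ex _ (smul_mem_orb hg h) (hUP.trans (le_st_smul hn r)) with e' | e'
    · exact ⟨e, by rw [e', (smul_left_cancel_iff g).1 (e'.trans e.symm)]⟩
    · exact ⟨e, e'⟩
    · exact ⟨Sz.mem_of_sq_mem_of_odd (X := St α) o (by rw [mem_stabilizer_iff, mul_smul, e, e']),
        Sz.mem_of_sq_mem_of_odd (X := St β) o (by rw [mem_stabilizer_iff, mul_smul, e', e])⟩
    · exact ⟨by rw [e, (smul_left_cancel_iff g).1 (e.trans e'.symm)], e'⟩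
  have h1 : IsSylowIn p P (X ⊓ St α) :=
    sylow_of_sylow_norm hp (le_inf (hP.le.trans inf_le_left) l)
      ⟨le_inf (le_inf (hP.le.trans inf_le_left) l) le_normalizer, hP.isPGroup,
        fun Q pQ h1 h2 => hP.maximal Q pQ h1 fun g hg => ⟨(h2 hg).1.1, perm g (h2 hg).1.1 (h2 hg).2⟩⟩
  obtain ⟨n, hn, h2, e⟩ := Be.P1.witt hp h1 r h
  exact (perm n hn h2).1.symm.trans e

variable [c : Ctx Ω Z] [Be.BeI]

variable (Ω Z) in
/-- a counterexample to (4b) -/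
def Bad (p : ℕ) (U : Subgroup G) : Prop :=
  IsPGroup p U ∧ Fix3 Ω U ∧ ∃ t ∈ Z, t ∈ 𝐍(U) ∧ t ∉ 𝐂(U) ∧ ∃ m : Ω, t • m = m ∧ U ≤ stabilizer G m

theorem full_of_bad (hp : p.Prime) (hp2 : p ≠ 2) (h : Bad Ω Z p U)
    (hm : ∀ V, Bad Ω Z p V → #|V| ≤ #|U|) : Full Ω Z := by
  haveI := clo c
  haveI := Fact.mk hp
  obtain ⟨pU, h3, t, ht, tn, tc, m, e, hU⟩ := h
  by_cases hS : ∃ w, w ≠ m ∧ IsSylowIn p U (St w ⊓ St (t • w))
  · obtain ⟨w, h1, h2⟩ := hS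
    exact PropT.full hp hp2 ht e h1 h2 tn hU tc
  have key : ∀ w, w ≠ m → U ≤ St w → ∃ P : Subgroup G, IsPGroup p P ∧ U < P ∧ ¬ P ≤ St m ∧
      P ≤ 𝐍(U) ⊓ (St w ⊓ St (t • w)) := fun w h1 h2 => by
    have h4 := (smul_ne ht e h1).symm
    have h5 := le_inf h2 (le_st_smul tn h2)
    obtain ⟨P, hP, h6, h7⟩ := (iso_swap ht rfl h4 inf_le_right (mem_norm_inf (le_normalizer tn)
      (iso_stab2 ht rfl h4).norm)).exists_sylow hp hp2 (le_inf le_normalizer h5) pU tn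
    have h8 : U < P := lt_of_le_of_ne h6 fun e' => hS ⟨w, h1, sylow_of_sylow_norm hp h5
      (by rw [inf_comm]; exact e' ▸ hP)⟩
    exact ⟨P, hP.isPGroup, h8, fun h9 => (card_lt_of_lt h8).not_ge (hm P ⟨hP.isPGroup, ⟨w, t • w, m, h4, h1,
      smul_ne' e h1, fun _ hx => (hP.le hx).2.1, fun _ hx => (hP.le hx).2.2, h9⟩, t, ht, h7,
      fun e' => tc (cent_anti h6 e'), m, e, h9⟩), hP.le⟩
  have hN : ¬ 𝐍(U) ≤ St m := fun e' => by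
    obtain ⟨w, h1, h2, -⟩ := h3.third m m
    obtain ⟨P, -, -, h4, h5⟩ := key w h2 h1
    exact h4 ((h5.trans inf_le_left).trans e')
  by_cases h4 : FourZ Z (𝐍(U) ⊓ St m)
  · exact PropL.full hp hp2 pU h4 hN ht tn tc
  exfalso
  have hi := iso_of_not_four ht e tn h4
  have oc : ∀ x ∈ orb 𝐍(U) m, x ∈ orb (core {2}ᶜ 𝐍(U)) m := by
    rintro _ ⟨n, hn, rfl⟩
    obtain ⟨k, hk, -, -, h5⟩ := hi.dec hn
    exact ⟨k, hk.1, eq_comm.1 (inv_smul_eq_iff.1 (by rw [smul_smul]; exact cent1_le_stab ht e h5.2))⟩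
  obtain ⟨w₀, w1, w2⟩ := Be.P1.exists_ne_of_not_le hN
  obtain ⟨P, pP, h5, -, h6⟩ := key w₀ w2 (le_st_orb le_rfl hU w1)
  obtain ⟨Q, ⟨pQ, hUQ, w, hw, w', hw', ne, hQ⟩, mQ⟩ := Set.exists_max_image
    {Q : Subgroup G | IsPGroup p Q ∧ U ≤ Q ∧ ∃ w ∈ orb 𝐍(U) m, ∃ w' ∈ orb 𝐍(U) m, w ≠ w' ∧
      Q ≤ 𝐍(U) ⊓ (St w ⊓ St w')} (fun Q => #|Q|) (Set.toFinite _)
    ⟨P, pP, h5.le, w₀, w1, _, smul_mem_orb tn w1, (smul_ne ht e w2).symm, h6⟩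
  have lt := (card_lt_of_lt h5).trans_le (mQ P ⟨pP, h5.le, w₀, w1, _, smul_mem_orb tn w1,
    (smul_ne ht e w2).symm, h6⟩)
  have QN : Q ≤ 𝐍(U) := hQ.trans inf_le_left
  have l : Q ≤ St w := fun _ hx => (hQ hx).2.1
  have r : Q ≤ St w' := fun _ hx => (hQ hx).2.2
  by_cases h7 : ∀ γ ∈ orb 𝐍(U) m, Q ≤ St γ → γ = w ∨ γ = w'
  · have hX : core {2}ᶜ 𝐍(U) ⊔ Q ≤ 𝐍(U) := sup_le (core_le _ _) QN
    exact ne (rp_orb hp (odd_sup (odd_core _) (odd_pgroup hp hp2 pQ) (QN.trans (core_normal _ _).norm))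
      le_sup_right pQ l r (orb_mono le_sup_left (orb_rel (oc _ hw') (oc _ hw)))
      fun γ hγ => h7 γ (orb_trans (orb_mono hX hγ) hw))
  push Not at h7
  obtain ⟨w'', hw'', s, n1, n2⟩ := h7
  have sw : ∀ x ∈ orb 𝐍(U) m, ∀ y ∈ orb 𝐍(U) m, x ≠ y → Q ≤ St x → Q ≤ St y →
      ∃ v ∈ 𝐍(U), v ∈ 𝐍(Q) ∧ v ∈ Z ∧ v • x = y ∧ v • y = x := fun x hx y hy hne h1 h2 => by
    obtain ⟨v, v1, v2, v3, -⟩ := exists_swap ht e tn hx hy hne
    exact exists_swap_norm hp hp2 hne (isSylowIn_of_forall_card_le pQ (le_inf QN (le_inf h1 h2))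
      fun R hR h => mQ R ⟨hR.isPGroup, hUQ.trans h, x, hx, y, hy, hne, hR.le⟩) v2 v1 v3
  obtain ⟨u, u1, u2, u3, u4, u5⟩ := sw w hw w' hw' ne l r
  obtain ⟨v, v1, v2, v3, v4, -⟩ := sw w'' hw'' w' hw' n2 s r
  obtain ⟨v', v1', v2', v3', v4', -⟩ := sw w hw w'' hw'' n1.symm l s
  have cm : ∀ {a b : G}, a ∈ Z → a ∈ 𝐍(U) → b ∈ Z → b ∈ 𝐍(U) → a * b ∈ core {2}ᶜ 𝐍(U) :=
    fun ha haN hb hbN => by
      obtain ⟨x, hx, rfl⟩ := exists_conj_in ht e tn hN ha haN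
      obtain ⟨y, hy, rfl⟩ := exists_conj_in ht e tn hN hb hbN
      have := mul_mem (hi.comm x hx) (inv_mem (hi.comm y hy))
      simpa [mul_assoc, zinv (Ω := Ω) ht, ← mul_assoc t t, zsq (Ω := Ω) ht] using this
  have m1 : w'' ∈ orb (core {2}ᶜ 𝐍(U) ⊓ 𝐍(Q)) w :=
    ⟨v * u, ⟨cm v3 v1 u3 u1, mul_mem v2 u2⟩, by rw [mul_smul, u4, ← v4, zsmul v3]⟩
  have m2 : w'' ∈ orb (core {2}ᶜ 𝐍(U) ⊓ 𝐍(Q)) w' :=
    ⟨v' * u, ⟨cm v3' v1' u3 u1, mul_mem v2' u2⟩, by rw [mul_smul, u5, v4']⟩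
  obtain ⟨z, hz, e1⟩ := Be.P1.exists_fix_orb (zsq (Ω := Ω) u3) (odd_of_le (odd_core _) inf_le_left)
    (mem_norm_inf ((core_normal _ _).norm u1) (le_normalizer u2)) (u4 ▸ orb_trans (orb_symm m2) m1)
  refine lt.not_ge (hm Q ⟨pQ, ⟨w, w', w'', ne, n1.symm, n2.symm, l, r, s⟩, u, u3, u2, fun e' => tc ?_,
    z, e1, le_st_orb inf_le_right l hz⟩)
  obtain ⟨x, hx, rfl⟩ := exists_conj_in ht e tn hN u3 u1
  simpa [mul_assoc] using (NormalIn.cent_norm U).conj_mem' hx (cent_anti hUQ e')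

theorem not_bad (hp : p.Prime) (hp2 : p ≠ 2) : ¬ Bad Ω Z p U := fun h => by
  obtain ⟨V, hV, mV⟩ := Set.exists_max_image {V | Bad Ω Z p V} (fun V => #|V|) (Set.toFinite _) ⟨U, h⟩
  have hF := full_of_bad hp hp2 hV mV
  obtain ⟨pU, -, t, ht, tn, tc, m, e, hU⟩ := h
  exact tc (mem_cent.2 fun y hy => mul_inv_eq_iff_eq_mul.1 (hF.eq (c.conj t ht y)
    (hU hy ▸ conj_smul_smul e y) ht e (odd_orderOf_of_mem (odd_pgroup hp hp2 pU)
      (comm_mem_invs (zsq (Ω := Ω) ht) tn hy).1)))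

/-- (4b) -/
theorem b4 (ha : a ∈ Z) (hb : b ∈ Z) (h1 : a • α = α) (h2 : b • α = α) (h3 : (a * b) • β = β)
    (hne : β ≠ α) : a = b := by
  by_contra h0
  have aa := zsq (Ω := Ω) ha
  have ho := c.odd a ha b hb α β h1 h3 hne
  obtain ⟨p, n, hp, h4⟩ := Be.P1.exists_prime_pow (k := a * b) fun e =>
    h0 (by rw [eq_inv_of_mul_eq_one_left e, zinv (Ω := Ω) hb])
  have hi := Be.P1.pow_inverted aa (show a * (a * b) * a = (a * b)⁻¹ by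
    rw [← mul_assoc, aa, one_mul, mul_inv_rev, zinv (Ω := Ω) ha, zinv (Ω := Ω) hb]) n
  have ho' : Odd (orderOf ((a * b) ^ n)) := ho.of_dvd_nat (orderOf_pow_dvd n)
  have l : (a * b) ^ n ∈ St α := pow_mem (mul_mem h1 h2) n
  have r : (a * b) ^ n ∈ St β := pow_mem h3 n
  generalize (a * b) ^ n = k at h4 hi ho' l r
  have hn : a ∈ 𝐍(zpowers k) := mem_norm_of_conj_le (by
    rw [conj_zpowers, zinv (Ω := Ω) ha, hi, zpowers_inv])
  refine not_bad (Ω := Ω) (Z := Z) hp (fun e => by rw [h4, e] at ho'; exact absurd ho' (by decide))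
    ⟨Be.P1.pgroup_zpowers' h4, ⟨α, β, a • β, hne.symm, (smul_ne' h1 hne).symm, (smul_ne ha h1 hne).symm,
      zpowers_le.2 l, zpowers_le.2 r, le_st_smul hn (zpowers_le.2 r)⟩, a, ha, hn, fun e => ?_,
      α, h1, zpowers_le.2 l⟩
  rw [← mem_cent.1 e k (mem_zpowers k), mul_assoc, aa, mul_one] at hi
  rw [Sz.eq_one_of_odd_of_sq ho' (mul_eq_one_iff_eq_inv.2 hi), orderOf_one] at h4
  exact hp.one_lt.ne h4

theorem tr2 (c : Ctx Ω Z) (h1 : β ≠ α) (h2 : γ ≠ α) : ∃ g : G, g • α = α ∧ g • β = γ := by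
  obtain ⟨p, hp, h3⟩ := Nat.exists_prime_and_dvd (one_lt_ncard_II (Z := Z) α).ne'
  have hp2 : p ≠ 2 := fun e => Nat.not_even_iff_odd.2 (odd_ncard_II (Z := Z) α)
    (even_iff_two_dvd.2 (e ▸ h3))
  refine tr2_of (Z := Z) (γ := α) hp hp2 (fun U t hU x hx h4 a ha haN h5 => ?_) h1 h2
  have oU := odd_pgroup hp hp2 hU.pg
  obtain ⟨y, hy, h6, -⟩ := hU.fix.third x x
  obtain ⟨k, hk, k1⟩ := (Set.one_lt_ncard_iff_nontrivial.1 ((Nat.one_lt_pow (hp.factorization_pos_of_dvd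
    (one_lt_ncard_II α).ne_bot h3).ne' hp.one_lt).trans_le hU.big)).exists_ne 1
  exact k1 (eq_one_of_inv hU.tz hk.2 (odd_orderOf_of_mem oU hk.1) ha h5 (mul_inv_eq_iff_eq_mul.1
    (b4 (c.conj a ha k) ha (hx hk.1 ▸ conj_smul_smul h5 k) h5
      (hy (comm_mem_invs (zsq (Ω := Ω) ha) haN hk.1).1) h6)) h4)

instance instPart1 : Part1 where
  clo c := @clo _ _ _ _ _ _ c _ c
  simple c := @simple _ _ _ _ _ _ c _ c
  b4 := b4
  tr2 := fun c _ _ _ => tr2 c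

end Cfsg.Agent.As
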