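import Cfsg.Agent.As.P

/-! ZD, part 2: the Brauer-Wielandt formula. -/

set_option autoImplicit false

namespace Cfsg.Agent.As

open Subgroup Cfsg.Agent.H1 Cfsg.Agent.L Cfsg.Agent.FT Cfsg.Agent.Sg
open Cfsg.Agent.Be (invs)
open scoped Pointwise commutatorElement

namespace BWp

variable {G : Type} [Group G] [Finite G] {X Y : Subgroup G} {a b t : G}

theorem card_odd (hX : Odd #|X|) (tt : t * t = 1) (hn : t ∈ 𝐍(X)) :
    #|X| = (invs X t).ncard * #|X ⊓ 𝐂[t]| := by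
  have := (iso_of_odd hX tt hn).card
  rwa [core_eq_self (odd_iff_piGrp.1 hX)] at this

omit [Finite G] in
theorem norm_cent1 (h : a * b = b * a) : b ∈ 𝐍(𝐂[a]) :=
  le_normalizer (mem_cent1.2 h.symm)

omit [Finite G] in
theorem norm_inf (h : b ∈ 𝐍(X)) (h' : b ∈ 𝐍(Y)) : b ∈ 𝐍(X ⊓ Y) :=
  le_normalizer_inf (zpowers_le.2 h) (zpowers_le.2 h') (mem_zpowers b)

/-- the inverted elements of an abelian group -/
def J (hc : X ≤ 𝐂(X)) (t : G) (tt : t * t = 1) : Subgroup G where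
  carrier := invs X t
  one_mem' := ⟨one_mem _, by simpa using tt⟩
  mul_mem' := fun {x y} hx hy => ⟨mul_mem hx.1 hy.1, by
    calc t * (x * y) * t = t * x * (t * t) * y * t := by rw [tt]; group
      _ = (t * x * t) * (t * y * t) := by group
      _ = (y * x)⁻¹ := by rw [hx.2, hy.2, mul_inv_rev]
      _ = _ := by rw [mem_cent.1 (hc hx.1) y hy.1]⟩
  inv_mem' := fun {x} hx => ⟨inv_mem hx.1, by
    have it : t⁻¹ = t := inv_eq_of_mul_eq_one_right tt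
    have : t * x⁻¹ * t = (t * x * t)⁻¹ := by simp [mul_assoc, it]
    rw [this, hx.2]⟩

theorem ab (hc : X ≤ 𝐂(X)) (hX : Odd #|X|) (na : a ∈ 𝐍(X)) (nb : b ∈ 𝐍(X)) (aa : a * a = 1)
    (bb : b * b = 1) (c : a * b = b * a) :
    #|X| * #|X ⊓ 𝐂[a] ⊓ 𝐂[b]| ^ 2 = #|X ⊓ 𝐂[a]| * #|X ⊓ 𝐂[b]| * #|X ⊓ 𝐂[a * b]| := by
  have ia : a⁻¹ = a := inv_eq_of_mul_eq_one_right aa
  have ib : b⁻¹ = b := inv_eq_of_mul_eq_one_right bb
  have hJ : J hc a aa ≤ X := fun x hx => hx.1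
  have nJ : b ∈ 𝐍(J hc a aa) := mem_norm_of_conj_le fun x hx => by
    obtain ⟨y, hy, rfl⟩ := mem_conj'.1 hx
    refine ⟨le_norm_iff.1 (zpowers_le.2 nb) b (mem_zpowers b) y hy.1, ?_⟩
    calc a * (b * y * b⁻¹) * a = (a * b) * y * (b * a) := by rw [ib]; group
      _ = b * (a * y * a) * b := by rw [← c, c]; nth_rw 2 [← c]; group
      _ = _ := by rw [hy.2, ib]; simp [mul_assoc, ib]
  have h1 := card_odd hX aa na
  have h2 := card_odd (odd_of_le hX hJ) bb nJ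
  have h3 := card_odd (odd_of_le hX (inf_le_left (b := 𝐂[b]))) aa (norm_inf na (norm_cent1 c.symm))
  have c' : a * b * a = a * (a * b) := by rw [mul_assoc, ← c]
  have h4 := card_odd (odd_of_le hX (inf_le_left (b := 𝐂[a * b]))) aa (norm_inf na (norm_cent1 c'))
  have e1 : (invs X a).ncard = #|J hc a aa| := (Nat.card_coe_set_eq _).symm
  have e2 : (invs (X ⊓ 𝐂[b]) a).ncard = #|J hc a aa ⊓ 𝐂[b]| := by
    rw [← Nat.card_coe_set_eq]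
    exact Nat.card_congr (Equiv.setCongr (Set.ext fun x =>
      ⟨fun h => ⟨⟨h.1.1, h.2⟩, h.1.2⟩, fun h => ⟨⟨h.1.1, h.2⟩, h.1.2⟩⟩))
  have e3 : invs (X ⊓ 𝐂[a * b]) a = invs (J hc a aa) b := Set.ext fun x => by
    refine ⟨fun h => ⟨⟨h.1.1, h.2⟩, ?_⟩, fun h => ⟨⟨h.1.1, mem_cent1.2 ?_⟩, h.1.2⟩⟩
    · have := mem_cent1.1 h.1.2
      calc b * x * b = a * (a * b * x) * b := by rw [← mul_assoc, ← mul_assoc, aa, one_mul]
        _ = a * x * a * (b * b) := by rw [← this]; group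
        _ = _ := by rw [h.2, bb, mul_one]
    · have h5 : a * x = x⁻¹ * a := by rw [← h.1.2, mul_assoc, aa, mul_one]
      have h6 : b * x = x⁻¹ * b := by rw [← h.2, mul_assoc, bb, mul_one]
      have h7 : a * x⁻¹ = x * a := by
        rw [mul_inv_eq_iff_eq_mul, mul_assoc, h5]; group
      rw [mul_assoc, h6, ← mul_assoc, ← mul_assoc, h7]
  have e4 : X ⊓ 𝐂[a * b] ⊓ 𝐂[a] = X ⊓ 𝐂[a] ⊓ 𝐂[b] := by
    ext x
    simp only [mem_inf, mem_cent1]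
    refine ⟨fun ⟨⟨h, h'⟩, h''⟩ => ⟨⟨h, h''⟩, ?_⟩, fun ⟨⟨h, h'⟩, h''⟩ => ⟨⟨h, ?_⟩, h'⟩⟩
    · rw [← mul_assoc, h'', mul_assoc, mul_assoc] at h'
      exact mul_left_cancel h'
    · rw [← mul_assoc, h', mul_assoc, h'', mul_assoc]
  rw [e4, e3] at h4
  rw [inf_right_comm, e2] at h3
  rw [h1, e1, h2, h3, h4]
  ring

theorem card_q (hn : X ≤ 𝐍(Y)) : #|X| = #|X /' Y| * #|Y ⊓ X| := by
  have := card_mim_mul (coset Y) hn
  rw [mker_coset] at this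
  exact this.symm

theorem bw (n : ℕ) : ∀ {X : Subgroup G}, #|X| = n → Odd #|X| → a ∈ 𝐍(X) → b ∈ 𝐍(X) → a * a = 1 →
    b * b = 1 → a * b = b * a →
    #|X| * #|X ⊓ 𝐂[a] ⊓ 𝐂[b]| ^ 2 = #|X ⊓ 𝐂[a]| * #|X ⊓ 𝐂[b]| * #|X ⊓ 𝐂[a * b]| := by
  induction n using Nat.strong_induction_on with
  | _ n ih =>
  intro X hn hX na nb aa bb c
  by_cases h0 : X = ⊥
  · exact ab (h0 ▸ bot_le) hX na nb aa bb c
  have hlt := der1_lt (sol_of_odd hX) h0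
  set Y := ⁅X, X⁆ with hY
  have oY := odd_of_le hX hlt.le
  have nn : 𝐍(X) ≤ 𝐍(Y) := le_normalizer_commutator le_rfl le_rfl
  have nX : X ≤ 𝐍(Y) := le_normalizer.trans nn
  have h1 := ih _ (hn ▸ card_lt_of_lt hlt) rfl oY (nn na) (nn nb) aa bb c
  let a' : 𝐍(Y) := ⟨a, nn na⟩
  let b' : 𝐍(Y) := ⟨b, nn nb⟩
  have key : ∀ (x : 𝐍(Y)), (x : G) ∈ 𝐍(X) → coset Y x ∈ 𝐍(X /' Y) := fun x hx =>
    mim_le_norm (coset Y) (le_refl 𝐍(X)) (mem_mim_of_mem _ x hx)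
  have h2 := ab (X := X /' Y) (a := coset Y a') (b := coset Y b') ((quo_le_cent_iff nX nX).2 le_rfl)
    (odd_mim hX _) (key a' na) (key b' nb)
    (by rw [← map_mul, show a' * a' = 1 from Subtype.ext aa, map_one])
    (by rw [← map_mul, show b' * b' = 1 from Subtype.ext bb, map_one])
    (by rw [← map_mul, show a' * b' = b' * a' from Subtype.ext c, map_mul])
  have ab2 : a * b * (a * b) = 1 := by
    rw [mul_assoc, ← mul_assoc b, ← c, mul_assoc, bb, mul_one, aa]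
  rw [← map_mul, quo_inf_cent1' (a := a') na nX aa oY, quo_inf_cent1' (a := b') nb nX bb oY,
    quo_inf_cent1' (a := a' * b') (mul_mem na nb) nX ab2 oY,
    quo_inf_cent1' (a := b') (norm_inf nb (norm_cent1 c)) (inf_le_left.trans nX) bb oY] at h2
  change #|X /' Y| * #|(X ⊓ 𝐂[a] ⊓ 𝐂[b]) /' Y| ^ 2 =
    #|(X ⊓ 𝐂[a]) /' Y| * #|(X ⊓ 𝐂[b]) /' Y| * #|(X ⊓ 𝐂[a * b]) /' Y| at h2
  have e : ∀ U : Subgroup G, #|X ⊓ U| = #|(X ⊓ U) /' Y| * #|Y ⊓ U| := fun U => by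
    rw [card_q (inf_le_left.trans nX), ← inf_assoc, inf_eq_left.2 hlt.le]
  have e0 := (card_quo_mul ⟨hlt.le, nX⟩).symm
  rw [inf_assoc] at h1 h2 ⊢
  rw [e, e 𝐂[a], e 𝐂[b], e 𝐂[a * b], e0]
  calc _ = (#|X /' Y| * #|(X ⊓ (𝐂[a] ⊓ 𝐂[b])) /' Y| ^ 2) * (#|Y| * #|Y ⊓ (𝐂[a] ⊓ 𝐂[b])| ^ 2) := by ring
    _ = _ := by rw [h2, h1]; ring

end BWp

instance instBW : BW where
  bw := fun hX na nb aa bb c => BWp.bw _ rfl hX na nb aa bb c

end Cfsg.Agent.As
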