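import Cfsg.Agent.As.P

/-! ZD, part 2: the structure common to the slices `L1` and `SZ` (notes/zd2.md), I. -/

set_option autoImplicit false
set_option linter.unusedSectionVars false

namespace Cfsg.Agent.As

open Subgroup MulAction Cfsg.Agent.H1 Cfsg.Agent.L Cfsg.Agent.FT
open Cfsg.Agent.Be (invs sq_of_two inv_of_two two_of_sq ne_one_of_two two_conj conj_smul_smul)
open Cfsg.Agent.Be.P1 (orb self_mem_orb smul_mem_orb orb_mono ncard_orb orb_finite conj_st)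
open Cfsg.Agent.Sg (Sq)
open scoped Pointwise commutatorElement

variable {G Ω : Type} [Group G] [MulAction G Ω] {Z : Set G}
variable {α β γ : Ω} {u t v w g x y s e k : G} {Q K : Subgroup G} {q j : ℕ}

local notation "St" => stabilizer G

theorem lang [Finite G] (hn : k ∈ 𝐍(K)) (h : ∀ x ∈ K, k * x = x * k → x = 1) (hy : y ∈ K) :
    ∃ x ∈ K, x⁻¹ * (k * x * k⁻¹) = y := by
  obtain ⟨⟨x, hx⟩, e⟩ := (Finite.injective_iff_surjective (f := fun e : K =>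
    (⟨e⁻¹ * (k * e * k⁻¹), mul_mem (inv_mem e.2) (conj_mem_of_mem_normalizer hn e.2)⟩ : K))).1
    (fun a b e => Subtype.ext (mul_inv_eq_one.1 (h _ (mul_mem a.2 (inv_mem b.2)) (by
      have e' : (a : G)⁻¹ * (k * a * k⁻¹) = (b : G)⁻¹ * (k * b * k⁻¹) := congrArg Subtype.val e
      calc _ = a * ((a : G)⁻¹ * (k * a * k⁻¹)) * k * (b : G)⁻¹ := by group
        _ = _ := by rw [e']; group)))) ⟨y, hy⟩
  exact ⟨x, hx, congrArg Subtype.val e⟩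

/-- an involution of `C(E) ∖ E` -/
structure UU (Z : Set G) (α : Ω) (u : G) : Prop where
  two : orderOf u = 2
  nZ : u ∉ Z
  cE : u ∈ 𝐂(Ea Z α)

abbrev Tu (Ω : Type) [MulAction G Ω] (u : G) : Subgroup G := Wu Ω u ⊓ 𝐂[u]

abbrev Vu (Z : Set G) (α : Ω) (u : G) : Subgroup G := Ea Z α ⊔ Tu Ω u

abbrev Yu (Z : Set G) (α : Ω) (u : G) : Subgroup G := 𝐂(Ea Z α) ⊓ 𝐂[u]

def Ru (Z : Set G) (α : Ω) (u : G) : Subgroup G where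
  carrier := {s | s ∈ 𝐂(Ea Z α) ∧ u⁻¹ * (s * u * s⁻¹) ∈ Ea Z α}
  one_mem' := ⟨one_mem _, by simp⟩
  mul_mem' := fun {a b} ha hb => ⟨mul_mem ha.1 hb.1, by
    have := mul_mem ha.2 (conj_mem_of_mem_normalizer (cent_le_norm _ ha.1) hb.2)
    convert this using 1; group⟩
  inv_mem' := fun {a} ha => ⟨inv_mem ha.1, by
    have := conj_mem_of_mem_normalizer' (cent_le_norm _ ha.1) (inv_mem ha.2)
    convert this using 1; group⟩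

theorem mem_Ru : s ∈ Ru Z α u ↔ s ∈ 𝐂(Ea Z α) ∧ u⁻¹ * (s * u * s⁻¹) ∈ Ea Z α := Iff.rfl

theorem Ru_le : Ru Z α u ≤ 𝐂(Ea Z α) := fun _ h => h.1

theorem Yu_le_Ru : Yu Z α u ≤ Ru Z α u := fun s h => ⟨h.1, by simp [mem_cent1.1 h.2]⟩

theorem mem_Yu_iff (h : s ∈ 𝐂(Ea Z α)) : s ∈ Yu Z α u ↔ u⁻¹ * (s * u * s⁻¹) = 1 := by
  rw [inv_mul_eq_one, eq_mul_inv_iff_mul_eq, eq_comm, ← mem_cent1]
  exact and_iff_right h

/-- `s ↦ [u, s]` is a homomorphism on `R` -/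
theorem phi_mul (hs : s ∈ 𝐂(Ea Z α)) (hx : x ∈ Ru Z α u) : u⁻¹ * (s * x * u * (s * x)⁻¹) =
    u⁻¹ * (s * u * s⁻¹) * (u⁻¹ * (x * u * x⁻¹)) := by
  calc _ = u⁻¹ * (s * u * s⁻¹) * (s * (u⁻¹ * (x * u * x⁻¹)) * s⁻¹) := by group
    _ = _ := by rw [← mem_cent.1 hs _ hx.2, mul_inv_cancel_right]

theorem UU.uu [Finite G] (h : UU Z α u) : u * u = 1 := sq_of_two h.two

theorem UU.ne [Finite G] (h : UU Z α u) : u ≠ 1 := ne_one_of_two h.two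

theorem self_mem_Tu : u ∈ Tu Ω u := ⟨mem_Wu.2 fun _ h => h, self_mem_cent1 u⟩

theorem self_mem_Vu : u ∈ Vu Z α u := mem_sup_right self_mem_Tu

theorem conj_Wu (g u : G) : g ⋆ Wu Ω u = Wu Ω (g * u * g⁻¹) := by
  ext x
  simp only [mem_conj, mem_Wu, mul_smul, inv_smul_eq_iff]
  exact ⟨fun h γ hγ => by simpa using h (g⁻¹ • γ) ((smul_left_cancel_iff g).1 (by simpa using hγ)),
    fun h γ hγ => h _ (by simpa using hγ)⟩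

theorem conj_Tu (g u : G) : g ⋆ Tu Ω u = Tu Ω (g * u * g⁻¹) := by rw [conj_inf, conj_Wu, conj_cent1]

structure Cm (Z : Set G) (α β : Ω) (u t : G) (Q K : Subgroup G) (q j : ℕ) : Prop where
  m1 : M1 Ω Z q j
  j3 : j ≠ 3
  ne : α ≠ β
  uu : UU Z α u
  uβ : u • β = β
  vs : VS Z α β u t Q K q j

variable [Finite G] [c : Ctx Ω Z]

namespace M1

variable (m : M1 Ω Z q j)
include m

theorem E_le : Ea Z α ≤ St α := fun x hx => by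
  rcases (m.memE α x).1 hx with rfl | h
  exacts [one_mem _, h.2]

theorem E_fix (he : e ∈ Ea Z α) (h1 : e ≠ 1) (h : e • γ = γ) : γ = α :=
  have := ((m.memE α e).1 he).resolve_left h1
  fix_unique this.1 h this.2

theorem sqE : Sq (Ea Z α) := fun x hx => by
  rcases (m.memE α x).1 hx with rfl | h
  exacts [one_mul 1, zsq (Ω := Ω) h.1]

theorem C_le : 𝐂(Ea Z α) ≤ St α :=
  let ⟨a, h1, h2⟩ := exists_II c.toRed α
  (cent_le_cent1 ((m.memE α a).2 (.inr ⟨h1, h2⟩))).trans (cent1_le_stab h1 h2)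

theorem conj_E (g : G) : g ⋆ Ea Z α = Ea Z (g • α) := by
  ext x
  rw [mem_conj, m.memE, m.memE]
  refine or_congr (by simp [mul_assoc, inv_mul_eq_iff_eq_mul]) (and_congr ⟨fun h => by
    simpa [mul_assoc] using zconj (Ω := Ω) h g, fun h => by simpa using zconj (Ω := Ω) h g⁻¹⟩ ?_)
  simp [mul_smul, inv_smul_eq_iff]

theorem nE : St α ≤ 𝐍(Ea Z α) := fun g hg => conj_eq_self_iff.1 (by rw [m.conj_E, hg])

theorem nC : St α ≤ 𝐍(𝐂(Ea Z α)) := le_norm_cent m.nE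

theorem uu_of (h2 : y * y = 1) (hc : y ∈ 𝐂(Ea Z α)) (hE : y ∉ Ea Z α) : UU Z α y :=
  ⟨two_of_sq h2 fun e => hE (e ▸ one_mem _), fun h => hE ((m.memE α y).2 (.inr ⟨h, m.C_le hc⟩)), hc⟩

theorem notE (h : UU Z α u) : u ∉ Ea Z α := fun e =>
  ((m.memE α u).1 e).elim h.ne fun e => h.nZ e.1

theorem uu_conj (h : UU Z α u) (hg : g • α = α) : UU Z α (g * u * g⁻¹) :=
  ⟨two_conj h.two g, fun e => h.nZ (by simpa [mul_assoc] using zconj (Ω := Ω) e g⁻¹),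
    conj_mem_of_mem_normalizer (m.nC hg) h.cE⟩

theorem conj_Vu (hg : g • α = α) (u : G) : g ⋆ Vu Z α u = Vu Z α (g * u * g⁻¹) := by
  rw [conj_sup, conj_Tu, m.conj_E, hg]

theorem conj_Yu (hg : g • α = α) (u : G) : g ⋆ Yu Z α u = Yu Z α (g * u * g⁻¹) := by
  rw [conj_inf, conj_cent1, conj_of_mem_norm (m.nC hg)]

theorem conj_Ru (hg : g • α = α) (u : G) : g ⋆ Ru Z α u = Ru Z α (g * u * g⁻¹) := by
  ext x
  rw [mem_conj, mem_Ru, mem_Ru, ← conj_mem_conj_iff (g := g), ← conj_mem_conj_iff (g := g) (H := Ea Z α),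
    conj_of_mem_norm (m.nC hg), conj_of_mem_norm (m.nE hg)]
  simp [mul_assoc]

theorem cm [Cnt] (j3 : j ≠ 3) (h : UU Z α u) : ∃ β t Q K, Cm Z α β u t Q K q j := by
  obtain ⟨β, h1, h2⟩ := Cnt.fix2 h.two h.nZ (m.C_le h.cE)
  obtain ⟨t, Q, K, v⟩ := m.vs α β u h1.symm h.two h.nZ h.cE h2
  exact ⟨β, t, Q, K, m, j3, h1.symm, h, h2, v⟩

end M1

namespace Cm

variable (h : Cm Z α β u t Q K q j)
include h

theorem loc : Loc Z 𝐍(Lu Z u) α β t (Ea Z α) Q K q j := h.vs.loc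

theorem L_le : Lu Z u ≤ 𝐂[u] := ZZ_le

theorem CN : 𝐂[u] ≤ 𝐍(Lu Z u) := (ZZ_normal Ω).norm

theorem L_cent : Lu Z u ≤ 𝐂(Wu Ω u) := h.vs.zz ▸ h.vs.ker ▸ h.loc.cent

theorem W_le : Wu Ω u ≤ 𝐍(Lu Z u) := h.vs.ker ▸ Ker_normal.le

theorem Q_le : Q ≤ Lu Z u := fun x hx => h.vs.zz ▸ ((h.loc.memQ x).1 hx).1

theorem K_le : K ≤ Lu Z u := h.vs.zz ▸ h.loc.KL

theorem K_D : K ≤ St α ⊓ St β := fun k hk => core_le _ _ ((h.loc.memK k).1 hk).2.1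

theorem E_le_L : Ea Z α ≤ Lu Z u := fun x hx => by
  rcases (h.m1.memE α x).1 hx with rfl | e
  exacts [one_mem _, mem_ZZ e.1 (mem_cent1.2 (mem_cent.1 h.uu.cE x hx))]

theorem E_le_Q : Ea Z α ≤ Q := fun x hx => (h.loc.memQ x).2
  ⟨h.vs.zz.symm ▸ h.E_le_L hx, h.m1.E_le hx, 1, by simpa [pow_two] using h.m1.sqE x hx⟩

theorem W_C : Wu Ω u ≤ 𝐂(Ea Z α) := le_cent_symm (h.E_le_L.trans h.L_cent)

theorem Wβ : Wu Ω u ≤ St β := fun _ hw => mem_Wu.1 hw β h.uβ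

theorem EW (he : e ∈ Ea Z α) (hw : e ∈ Wu Ω u) : e = 1 :=
  by_contra fun h1 => h.ne (h.m1.E_fix he h1 (h.Wβ hw)).symm

theorem KW (hk : k ∈ K) (hw : w ∈ Wu Ω u) : k * w * k⁻¹ = w := by
  rw [← mem_cent.1 (h.L_cent (h.K_le hk)) w hw, mul_inv_cancel_right]

theorem Ku (hk : k ∈ K) : k * u * k⁻¹ = u := h.KW hk self_mem_Tu.1

theorem Q_le_Y : Q ≤ Yu Z α u := le_inf h.loc.QE (h.Q_le.trans h.L_le)

theorem T_le_Y : Tu Ω u ≤ Yu Z α u := inf_le_inf_right _ h.W_C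

theorem V_le_Y : Vu Z α u ≤ Yu Z α u := sup_le (h.E_le_Q.trans h.Q_le_Y) h.T_le_Y

theorem V_le_R : Vu Z α u ≤ Ru Z α u := h.V_le_Y.trans Yu_le_Ru

/-- `N ∩ C = Q W` -/
theorem dec (hg : g ∈ 𝐍(Lu Z u)) (hc : g ∈ 𝐂(Ea Z α)) : ∃ x ∈ Q, x⁻¹ * g ∈ Wu Ω u := by
  have h1 := h.m1.C_le hc
  obtain ⟨x, hx, e⟩ := h.loc.tr (g • β) (smul_mem_orb hg ((h.vs.orb β).2 h.uβ))
    fun e => h.ne ((smul_left_cancel_iff g).1 (h1.trans e.symm))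
  have h2 := mul_mem (inv_mem (h.loc.QE hx)) hc
  have h3 := mul_mem (inv_mem (h.CN (h.L_le (h.Q_le hx)))) hg
  exact ⟨x, hx, h.vs.ker ▸ h.loc.a4 h.j3 _ h3 (h.m1.C_le h2) (by rw [mul_smul, ← e, inv_smul_smul]) h2⟩

theorem dec_Y (hy : y ∈ Yu Z α u) : ∃ x ∈ Q, ∃ w ∈ Tu Ω u, y = x * w :=
  let ⟨x, hx, e⟩ := h.dec (h.CN hy.2) hy.1
  ⟨x, hx, _, ⟨e, 𝐂[u].mul_mem (𝐂[u].inv_mem (h.Q_le_Y hx).2) hy.2⟩, by simp⟩

theorem Y_eq : Yu Z α u = Q ⊔ Tu Ω u :=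
  le_antisymm (fun _ hy => let ⟨_, hx, _, hw, e⟩ := h.dec_Y hy
    e ▸ mul_mem (mem_sup_left hx) (mem_sup_right hw)) (sup_le h.Q_le_Y h.T_le_Y)

theorem Y_cent : Yu Z α u ≤ 𝐂(Vu Z α u) := by
  rw [cent_sup]; exact le_inf inf_le_left (by rw [Yu, inf_comm]; exact h.vs.cV)

theorem mem_EW (hx : x ∈ Q) (h1 : x ∈ Ea Z α ⊔ Ker 𝐍(Lu Z u) α) : x ∈ Ea Z α := by
  rw [h.vs.ker] at h1
  obtain ⟨e, he, w, hw, rfl⟩ := (H1.mem_sup_of_le_normalizer' (h.W_C.trans (cent_le_norm _))).1 h1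
  have : w ∈ Q ⊓ Wu Ω u := ⟨(mul_mem_cancel_left (h.E_le_Q he)).1 hx, hw⟩
  rwa [show w = 1 from mem_bot.1 (h.vs.qw ▸ this), mul_one]

theorem sq_QT (hx : x ∈ Q) (hw : w ∈ Tu Ω u) : x * w * (x * w) = x * x := by
  rw [mul_assoc, ← mul_assoc w, mem_cent.1 (h.L_cent (h.Q_le hx)) w hw.1, mul_assoc, h.vs.sq w hw,
    mul_one]

theorem sq_Y (hy : y ∈ Yu Z α u) : y * y ∈ Ea Z α := by
  obtain ⟨x, hx, w, hw, rfl⟩ := h.dec_Y hy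
  exact h.sq_QT hx hw ▸ h.mem_EW (mul_mem hx hx) (h.loc.sq x hx)

theorem inv_Y (hy : y ∈ Yu Z α u) (h2 : y * y = 1) : y ∈ Vu Z α u := by
  obtain ⟨x, hx, w, hw, rfl⟩ := h.dec_Y hy
  exact mul_mem (mem_sup_left (h.mem_EW hx (h.loc.inv x hx (h.sq_QT hx hw ▸ h2 ▸ one_mem _))))
    (mem_sup_right hw)

theorem mem_V : v ∈ Vu Z α u ↔ ∃ e ∈ Ea Z α, ∃ w ∈ Tu Ω u, e * w = v :=
  H1.mem_sup_of_le_normalizer' (inf_le_left.trans (h.W_C.trans (cent_le_norm _)))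

theorem sqV : Sq (Vu Z α u) := fun v hv => by
  obtain ⟨e, he, w, hw, rfl⟩ := h.mem_V.1 hv
  rw [h.sq_QT (h.E_le_Q he) hw, h.m1.sqE e he]

theorem uu_V (hv : v ∈ Vu Z α u) (hE : v ∉ Ea Z α) : UU Z α v :=
  h.m1.uu_of (h.sqV v hv) (h.V_le_Y hv).1 hE

theorem uu_T (hw : w ∈ Tu Ω u) (h1 : w ≠ 1) : UU Z α w :=
  h.uu_V (mem_sup_right hw) fun e => h1 (h.EW e hw.1)

theorem T_eq (hw : w ∈ Tu Ω u) (h1 : w ≠ 1) : Tu Ω w = Tu Ω u := by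
  rw [Tu, (h.vs.ti w hw.1 h1).2.1, h.vs.cT w hw h1]

theorem ue_mem (he : e ∈ Ea Z α) : u * e ∈ Vu Z α u := mul_mem self_mem_Vu (mem_sup_left he)

theorem ue_not (he : e ∈ Ea Z α) : u * e ∉ Ea Z α := fun h1 =>
  h.m1.notE h.uu ((mul_mem_cancel_right he).1 h1)

theorem V_ue (he : e ∈ Ea Z α) : Vu Z α (u * e) = Vu Z α u := by
  obtain ⟨s, h1, h2⟩ := h.vs.cj e he
  rw [← h2, ← h.m1.conj_Vu h1, conj_of_mem_norm (h.vs.nY s h1 (by simpa [h2] using he)).2]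

variable [Cnt]

theorem cov (hv : v ∈ Vu Z α u) (hE : v ∉ Ea Z α) : ∃ e ∈ Ea Z α, Tu Ω v = Tu Ω (u * e) := by
  obtain ⟨e, he, h1⟩ := h.vs.cov v hv hE
  obtain ⟨_, _, _, _, h'⟩ := h.m1.cm h.j3 (h.uu_V (h.ue_mem he) (h.ue_not he))
  exact ⟨e, he, h'.T_eq ⟨h1, h.sqV.cent1 (h.ue_mem he) hv⟩ (h.uu_V hv hE).ne⟩

theorem V_eq (hv : v ∈ Vu Z α u) (hE : v ∉ Ea Z α) : Vu Z α v = Vu Z α u := by
  obtain ⟨e, he, h1⟩ := h.cov hv hE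
  rw [Vu, h1]; exact h.V_ue he

theorem Y_eq_v (hv : v ∈ Vu Z α u) (hE : v ∉ Ea Z α) : Yu Z α v = Yu Z α u := by
  obtain ⟨_, _, _, _, h'⟩ := h.m1.cm h.j3 (h.uu_V hv hE)
  exact le_antisymm (le_inf inf_le_left (h'.Y_cent.trans (cent_le_cent1 (h.V_eq hv hE ▸ self_mem_Vu))))
    (le_inf inf_le_left (h.Y_cent.trans (cent_le_cent1 hv)))

theorem mem_Y_of (hv : v ∈ Vu Z α u) (hE : v ∉ Ea Z α) (hs : s ∈ 𝐂(Ea Z α)) (h1 : s * v = v * s) :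
    s ∈ Yu Z α u := h.Y_eq_v hv hE ▸ ⟨hs, mem_cent1.2 h1⟩

theorem R_norm : Ru Z α u ≤ 𝐍(Vu Z α u) := fun s hs => (h.vs.nY s (h.m1.C_le hs.1) hs.2).2

theorem R_normY : Ru Z α u ≤ 𝐍(Yu Z α u) := fun s hs => h.Y_eq ▸ (h.vs.nY s (h.m1.C_le hs.1) hs.2).1

theorem Kα (hk : k ∈ K) : k • α = α := (h.K_D hk).1

theorem K_V : K ≤ 𝐍(Vu Z α u) := fun k hk => conj_eq_self_iff.1 (by rw [h.m1.conj_Vu (h.Kα hk), h.Ku hk])

theorem K_Y : K ≤ 𝐍(Yu Z α u) := fun k hk => conj_eq_self_iff.1 (by rw [h.m1.conj_Yu (h.Kα hk), h.Ku hk])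

theorem K_R : K ≤ 𝐍(Ru Z α u) := fun k hk => conj_eq_self_iff.1 (by rw [h.m1.conj_Ru (h.Kα hk), h.Ku hk])

theorem phi_K (hk : k ∈ K) (s : G) : u⁻¹ * (k * s * k⁻¹ * u * (k * s * k⁻¹)⁻¹) =
    k * (u⁻¹ * (s * u * s⁻¹)) * k⁻¹ := by
  have e := h.Ku hk
  have e' := h.Ku (inv_mem hk)
  calc _ = (k * u * k⁻¹)⁻¹ * (k * s * (k⁻¹ * u * k⁻¹⁻¹) * s⁻¹ * k⁻¹) := by rw [e]; group
    _ = _ := by rw [e']; group

theorem K_cent (hk : k ∈ K) (hv : v ∈ Vu Z α u) : v⁻¹ * (k * v * k⁻¹) ∈ Ea Z α := by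
  obtain ⟨e, he, w, hw, rfl⟩ := h.mem_V.1 hv
  rw [← conj_mul, h.KW hk hw.1]
  have := conj_mem_of_mem_normalizer' (cent_le_norm _ (h.W_C hw.1))
    (mul_mem (inv_mem he) (conj_mem_of_mem_normalizer (h.loc.sing.norm hk) he))
  convert this using 1; group

theorem dich : Ru Z α u = Yu Z α u ∨
    ∀ e ∈ Ea Z α, ∃ s ∈ Ru Z α u, u⁻¹ * (s * u * s⁻¹) = e := by
  refine (em _).imp_right fun H e he => ?_
  obtain ⟨s, hs, h1⟩ := SetLike.not_le_iff_exists.1 fun e => H (le_antisymm e Yu_le_Ru)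
  by_cases h2 : e = 1
  · exact ⟨1, one_mem _, by simp [h2]⟩
  obtain ⟨k, hk, e⟩ := h.loc.sing.tr _ hs.2 (fun e => h1 ((mem_Yu_iff hs.1).2 e)) e he h2
  exact ⟨_, conj_mem_of_mem_normalizer (h.K_R hk) hs, (h.phi_K hk s).trans e⟩

theorem exists_k : ∃ k ∈ K, k ≠ 1 := by
  obtain ⟨a, ha, e⟩ := h.loc.pow
  refine exists_mem_ne_one fun h1 => ?_
  have := h.loc.cardK
  have := Nat.pow_le_pow_right two_pos ha
  rw [h1, card_bot] at *; omega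

theorem mem_Y_of_K (hk : k ∈ K) (k1 : k ≠ 1) (hs : s ∈ Ru Z α u)
    (h1 : s⁻¹ * (k * s * k⁻¹) ∈ Yu Z α u) : s ∈ Yu Z α u := by
  by_contra H
  refine k1 (h.loc.sing.free k hk _ hs.2 (fun e => H ((mem_Yu_iff hs.1).2 e)) ?_)
  have := phi_mul hs.1 (Yu_le_Ru h1)
  rw [mul_inv_cancel_left, h.phi_K hk, (mem_Yu_iff h1.1).1 h1, mul_one] at this
  exact mul_inv_eq_iff_eq_mul.1 this

/-- `R = [R, k] Y` -/
theorem R_gen (hk : k ∈ K) (k1 : k ≠ 1) (hs : s ∈ Ru Z α u) :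
    ∃ r ∈ Ru Z α u, (r⁻¹ * (k * r * k⁻¹))⁻¹ * s ∈ Yu Z α u := by
  rcases h.dich with e | H
  · exact ⟨1, one_mem _, by simpa [e] using hs⟩
  obtain ⟨e, he, h1⟩ := lang (h.loc.sing.norm hk) (fun e he h1 => by_contra fun h2 =>
    k1 (h.loc.sing.free k hk e he h2 h1)) hs.2
  obtain ⟨r, hr, rfl⟩ := H e he
  have h2 := mul_mem (inv_mem hr) (conj_mem_of_mem_normalizer (h.K_R hk) hr)
  refine ⟨r, hr, (mem_Yu_iff (mul_mem (inv_mem h2) hs).1).2 ?_⟩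
  have a1 := phi_mul h2.1 (mul_mem (inv_mem h2) hs)
  have a2 := phi_mul hr.1 h2
  rw [mul_inv_cancel_left] at a1 a2
  rw [h.phi_K hk] at a2
  rw [← h1, a2, inv_mul_cancel_left] at a1
  exact (left_eq_mul.1 a1)

theorem R_cent (hs : s ∈ Ru Z α u) (hv : v ∈ Vu Z α u) : v⁻¹ * (s * v * s⁻¹) ∈ Ea Z α := by
  obtain ⟨k, hk, k1⟩ := h.exists_k
  obtain ⟨r, hr, h1⟩ := h.R_gen hk k1 hs
  have h2 := mem_cent.1 (h.Y_cent h1) v hv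
  have h3 := conj_mem_of_mem_normalizer' (h.K_V hk) hv
  have h4 := h.K_cent hk (conj_mem_of_mem_normalizer (h.R_norm hr) h3)
  have h5 := conj_mem_of_mem_normalizer (cent_le_norm _ hr.1) (h.K_cent (inv_mem hk) hv)
  have h6 := conj_mem_of_mem_normalizer' (cent_le_norm _ hr.1) (mul_mem h5 h4)
  have e : s * v * s⁻¹ = r⁻¹ * (k * r * k⁻¹) * v * (r⁻¹ * (k * r * k⁻¹))⁻¹ := by
    rw [← mul_inv_cancel_left (r⁻¹ * (k * r * k⁻¹)) s, mul_assoc _ _ v, ← h2]; group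
  rw [e]; convert h6 using 1; group

theorem R_eq_v (hv : v ∈ Vu Z α u) (hE : v ∉ Ea Z α) : Ru Z α v = Ru Z α u := by
  obtain ⟨_, _, _, _, h'⟩ := h.m1.cm h.j3 (h.uu_V hv hE)
  exact le_antisymm (fun s hs => ⟨hs.1, h'.R_cent hs (h.V_eq hv hE ▸ self_mem_Vu)⟩)
    fun s hs => ⟨hs.1, h.R_cent hs hv⟩

theorem sq_R (hs : s ∈ Ru Z α u) : s * s ∈ Yu Z α u :=
  (mem_Yu_iff (mul_mem hs hs).1).2 ((phi_mul hs.1 hs).trans (h.m1.sqE _ hs.2))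

theorem sq_mem_E (hs : s ∈ Ru Z α u) (h1 : s ∉ Yu Z α u) (h2 : s * s ∈ Vu Z α u) : s * s ∈ Ea Z α :=
  by_contra fun H => h1 (h.mem_Y_of h2 H hs.1 (mul_assoc s s s).symm)

theorem R_two : IsPGroup 2 (Ru Z α u) := fun s => ⟨3, Subtype.ext (by
  have := h.m1.sqE _ (h.sq_Y (h.sq_R s.2))
  simpa [pow_succ, mul_assoc] using this)⟩

end Cm

end Cfsg.Agent.As
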