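import Cfsg.Agent.As.Cm1

/-! ZD, part 2: the structure common to the slices `L1` and `SZ` (notes/zd2.md), II. -/

set_option autoImplicit false
set_option linter.unusedSectionVars false

namespace Cfsg.Agent.As

open Subgroup MulAction Cfsg.Agent.H1 Cfsg.Agent.L Cfsg.Agent.FT
open Cfsg.Agent.Be (invs sq_of_two inv_of_two two_of_sq ne_one_of_two two_conj conj_smul_smul)
open Cfsg.Agent.Be.P1 (orb self_mem_orb smul_mem_orb orb_mono ncard_orb orb_finite conj_st)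
open Cfsg.Agent.Sg (Sq)
open scoped Pointwise commutatorElement

variable {G Ω : Type} [Group G] [MulAction G Ω] {Z : Set G}
variable {α β γ : Ω} {u t v w g x y s e k : G} {Q K U : Subgroup G} {q j l : ℕ}

local notation "St" => stabilizer G

/-- the points other than `α` on the lines of `V` -/
def Pts (Z : Set G) (α : Ω) (u : G) : Set Ω :=
  {γ | γ ≠ α ∧ ∃ v ∈ Vu Z α u, v ∉ Ea Z α ∧ v • γ = γ}

variable [Finite G] [c : Ctx Ω Z]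

theorem M1.loc_q (m : M1 Ω Z q j) {N E' Q' K' : Subgroup G} {q' j' : ℕ} (hN : Ea Z α ≤ N)
    (h : Loc Z N α β t E' Q' K' q' j') : E' = Ea Z α := by
  ext x
  rw [h.memE, m.memE]
  exact or_congr_right ⟨fun h => ⟨h.1, h.2.2⟩, fun h => ⟨h.1, hN ((m.memE α x).2 (.inr h)), h.2⟩⟩

theorem M1.conj_pts (m : M1 Ω Z q j) (hg : g • α = α) (h : γ ∈ Pts Z α u) :
    g • γ ∈ Pts Z α (g * u * g⁻¹) := by
  obtain ⟨h1, v, h2, h3, h4⟩ := h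
  refine ⟨fun e => h1 ((smul_left_cancel_iff g).1 (e.trans hg.symm)), g * v * g⁻¹,
    m.conj_Vu hg u ▸ conj_mem_conj g h2, fun e => h3 ?_, by simp [mul_smul, h4]⟩
  simpa [mul_assoc] using conj_mem_of_mem_normalizer' (m.nE hg) e

namespace Cm

variable (h : Cm Z α β u t Q K q j)
include h

theorem four_le : 4 ≤ q := by
  obtain ⟨a, ha, e⟩ := h.loc.pow
  exact e ▸ Nat.pow_le_pow_right two_pos ha

theorem two_dvd : 2 ∣ q := by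
  obtain ⟨a, ha, e⟩ := h.loc.pow
  exact e ▸ dvd_pow_self 2 (by omega)

theorem odd_K : Odd #|K| := by
  have := h.loc.cardK
  have := h.two_dvd
  rw [Nat.odd_iff]; omega

theorem exists_e : ∃ e ∈ Ea Z α, e ≠ 1 := exists_mem_ne_one h.loc.sing.ne

theorem Y_two : IsPGroup 2 (Yu Z α u) := fun s => ⟨2, Subtype.ext (by
  simpa [pow_succ, mul_assoc] using h.m1.sqE _ (h.sq_Y s.2))⟩

theorem sylT : IsSylowIn 2 (Tu Ω u) (Wu Ω u) := ⟨inf_le_left, h.vs.sq.two, fun P hP h1 h2 => by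
  obtain ⟨z, hz, z1⟩ := exists_mem_ne_one (inf_cent_ne_bot_of_pgroup Nat.prime_two hP hP
    Subgroup.le_normalizer (ne_bot_of_mem (h1 self_mem_Tu) h.uu.ne))
  have h3 : z ∈ Tu Ω u := ⟨h2 hz.1, cent_le_cent1 (h1 self_mem_Tu) hz.2⟩
  exact le_antisymm ((le_inf h2 (le_cent1_iff.2 hz.2)).trans (h.vs.cT z h3 z1).le) h1⟩

theorem card_Q : #|Q| = q ^ j := by simpa [h.vs.ker, h.vs.qw] using h.loc.cardQ

theorem card_V : #|Vu Z α u| = q * #|Tu Ω u| := by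
  rw [(SDProd.mk_sup (inf_le_left.trans (h.W_C.trans (cent_le_norm _)))
    (eq_bot_iff.2 fun e he => h.EW he.1 he.2.1)).card, h.loc.cardE]

theorem card_Y : #|Yu Z α u| = q ^ j * #|Tu Ω u| := by
  rw [h.Y_eq, (SDProd.mk_sup (le_norm_of_le_cent (inf_le_left.trans (le_cent_symm
    (h.Q_le.trans h.L_cent)))) (eq_bot_iff.2 (h.vs.qw ▸ inf_le_inf_left _ inf_le_left))).card, h.card_Q]

theorem card_R (H : ∀ e ∈ Ea Z α, ∃ s ∈ Ru Z α u, u⁻¹ * (s * u * s⁻¹) = e) :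
    #|Ru Z α u| = q * #|Yu Z α u| := by
  let f : Ru Z α u →* G := MonoidHom.mk' (fun s => u⁻¹ * (s * u * s⁻¹)) fun a b => phi_mul a.2.1 b.2
  have h1 : mim f (Ru Z α u) = Ea Z α := le_antisymm (fun x hx => by
    obtain ⟨s, -, rfl⟩ := mem_mim.1 hx; exact s.2.2) fun e he =>
      let ⟨s, hs, e⟩ := H e he; mem_mim.2 ⟨⟨s, hs⟩, hs, e⟩
  have h2 : mker f ⊓ Ru Z α u = Yu Z α u := le_antisymm
    (fun x hx => (mem_Yu_iff hx.2.1).2 ((coe_mem_mker (x := ⟨x, hx.2⟩)).1 hx.1)) fun x hx =>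
    ⟨(coe_mem_mker (x := ⟨x, Yu_le_Ru hx⟩)).2 ((mem_Yu_iff hx.1).1 hx), Yu_le_Ru hx⟩
  rw [← card_mim_mul f le_rfl, h1, h2, h.loc.cardE]

theorem card_fix : {γ : Ω | γ ≠ α ∧ u • γ = γ}.ncard = q ^ j := by
  have := h.loc.card
  rw [← Set.ncard_sdiff_singleton_add_one (self_mem_orb _ α) (orb_finite _ _)] at this
  rw [← Nat.succ_injective this]
  congr 1; ext γ; simp [h.vs.orb, and_comm]

theorem fix_of_W (hw : w ∈ Wu Ω u) (h1 : w ≠ 1) : w • γ = γ ↔ u • γ = γ :=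
  ⟨(h.vs.ti w hw h1).2.2 γ, mem_Wu.1 hw γ⟩

variable [Cnt]

theorem cm_V (hv : v ∈ Vu Z α u) (hE : v ∉ Ea Z α) : ∃ β t Q K, Cm Z α β v t Q K q j :=
  h.m1.cm h.j3 (h.uu_V hv hE)

theorem mem_pts : γ ∈ Pts Z α u ↔ γ ≠ α ∧ ∃ e ∈ Ea Z α, (u * e) • γ = γ := by
  refine and_congr_right fun _ => ⟨fun ⟨v, h1, h2, h3⟩ => ?_, fun ⟨e, he, h1⟩ =>
    ⟨_, h.ue_mem he, h.ue_not he, h1⟩⟩
  obtain ⟨e, he, h4⟩ := h.vs.cov v h1 h2
  obtain ⟨_, _, _, _, h'⟩ := h.cm_V (h.ue_mem he) (h.ue_not he)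
  exact ⟨e, he, (h'.fix_of_W h4 (h.uu_V h1 h2).ne).1 h3⟩

theorem card_pts : (Pts Z α u).ncard = q * q ^ j := by
  choose! s h1 h2 using h.vs.cj
  have H : ∀ e ∈ Ea Z α, ∀ γ : Ω, (u * e) • s e • γ = s e • γ ↔ u • γ = γ := fun e he γ => by
    simp [← h2 e he, mul_smul]
  have H' : ∀ e ∈ Ea Z α, ∀ γ : Ω, s e • γ = α ↔ γ = α := fun e he γ => by
    rw [← smul_left_cancel_iff (s e) (x := γ), h1 e he]
  rw [← h.card_fix, ← h.loc.cardE, ← Nat.card_coe_set_eq, ← Nat.card_coe_set_eq, ← Nat.card_prod]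
  refine (Nat.card_eq_of_bijective (fun p => ⟨s p.1 • p.2.1, h.mem_pts.2 ⟨fun e => p.2.2.1
    ((H' _ p.1.2 _).1 e), _, p.1.2, (H _ p.1.2 _).2 p.2.2.2⟩⟩) ⟨?_, ?_⟩).symm
  · rintro ⟨⟨a, ha⟩, γ, h3, h4⟩ ⟨⟨b, hb⟩, δ, h5, h6⟩ e
    have e : s a • γ = s b • δ := congrArg Subtype.val e
    obtain rfl : a = b := by
      by_contra n
      refine h3 ((H' a ha γ).1 (h.m1.E_fix (mul_mem (inv_mem ha) hb)
        (fun e => n (inv_mul_eq_one.1 e)) ?_))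
      have a1 := (H a ha γ).2 h4
      have a2 := (H b hb δ).2 h6
      rw [← e] at a2
      have a3 := a2.trans a1.symm
      rw [mul_smul, mul_smul, smul_left_cancel_iff] at a3
      rw [mul_smul, a3, inv_smul_smul]
    simpa using e
  · rintro ⟨γ, hγ⟩
    obtain ⟨h3, e, he, h4⟩ := h.mem_pts.1 hγ
    exact ⟨(⟨e, he⟩, ⟨(s e)⁻¹ • γ, fun n => h3 (by rw [← h1 e he, ← n, smul_inv_smul]),
      (H e he _).1 (by simpa using h4)⟩), by simp⟩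

theorem T_inj (hv : v ∈ Vu Z α u) (hE : v ∉ Ea Z α) (hw : w ∈ Tu Ω v) (h1 : v⁻¹ * w ∈ Ea Z α) :
    v = w :=
  let ⟨_, _, _, _, h'⟩ := h.cm_V hv hE
  inv_mul_eq_one.1 (h'.EW h1 (mul_mem (inv_mem self_mem_Tu.1) hw.1))

/-- an element of `C` normalising two lines centralises `V` -/
theorem mem_Y_of_two (hv : v ∈ Vu Z α u) (hE : v ∉ Ea Z α) (hne : Tu Ω v ≠ Tu Ω u)
    (hg : g ∈ 𝐂(Ea Z α)) (h1 : g ∈ 𝐍(Tu Ω u)) (h2 : g ∈ 𝐍(Tu Ω v)) : g ∈ Yu Z α u := by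
  obtain ⟨_, _, _, _, h'⟩ := h.cm_V hv hE
  obtain ⟨e, he, w, hw, e1⟩ := h'.mem_V.1 ((h.V_eq hv hE).ge self_mem_Vu)
  refine (mem_Yu_iff hg).2 (by_contra fun n => hne ?_)
  refine (h'.T_eq ?_ n).symm.trans (h.T_eq (mul_mem (inv_mem self_mem_Tu)
    (conj_mem_of_mem_normalizer h1 self_mem_Tu)) n)
  have := mul_mem (inv_mem hw) (conj_mem_of_mem_normalizer h2 hw)
  convert this using 1
  rw [← e1, ← mul_assoc g, ← mem_cent.1 hg e he]; group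

theorem norm_L_of (hg : g * u * g⁻¹ ∈ Wu Ω u) : g ∈ 𝐍(Lu Z u) := by
  have := (h.vs.ti _ hg (by simpa using h.uu.ne)).1
  refine mem_norm_of_conj_le (conj_le_iff.2 ((closure_le _).2 fun z hz => mem_conj.2 ?_))
  rw [← this, inv_inv]
  exact mem_ZZ (zconj (Ω := Ω) hz.1 g) (conj_cent1 g u ▸ conj_mem_conj g hz.2)

variable [Be.BeI] [LocE]

theorem L_eq : Lu Z u = Ea Z α ⊔ Ea Z β := by
  have hL : Ea Z α ⊔ Ea Z β ≤ Lu Z u := sup_le h.E_le_L fun x hx => by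
    rcases (h.m1.memE β x).1 hx with rfl | e
    exacts [one_mem _, mem_ZZ e.1 (mem_cent1.2 (mem_cent.1
      (h.m1.cls α β u h.uu.two h.uu.nZ h.uu.cE h.uβ) x hx))]
  have hN := hL.trans (h.L_le.trans h.CN)
  obtain ⟨a, a1, a2⟩ := exists_II c.toRed α
  obtain ⟨b, b1, b2⟩ := exists_II c.toRed β
  obtain ⟨t', t1, -, t2, -, t3⟩ := exists_conj_swap a1 b1 a2 b2 h.ne
  have t4 := t3 _ (mem_sup_left ((h.m1.memE α a).2 (.inr ⟨a1, a2⟩)))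
    (mem_sup_right ((h.m1.memE β b).2 (.inr ⟨b1, b2⟩)))
  have bt : BT Z (Ea Z α ⊔ Ea Z β) α := ⟨fun e => h.loc.bt.ne (top_le_iff.1 (e.ge.trans hN)), by
    obtain ⟨a, ha, b, hb, h1, h2, h3⟩ := h.loc.bt.four
    exact ⟨a, ⟨mem_sup_left ((h.m1.memE α a).2 (.inr ⟨h1, ha.2⟩)), ha.2⟩, b,
      ⟨mem_sup_left ((h.m1.memE α b).2 (.inr ⟨h2, hb.2⟩)), hb.2⟩, h1, h2, h3⟩,
    fun e => h.ne ((e t4).symm.trans t2)⟩
  obtain ⟨E0, Q0, K0, q0, j0, l0⟩ := LocE.ex bt t1 t4 t2 h.ne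
  obtain ⟨E1, Q1, K1, q1, j1, l1⟩ := LocE.ex h.loc.bt t1 (hN t4) t2 h.ne
  have e0 := h.m1.loc_q le_sup_left l0
  have e1 := h.m1.loc_q (le_sup_left.trans hN) l1
  have c0 : (orb (Ea Z α ⊔ Ea Z β) α).ncard = q ^ j0 + 1 := by rw [l0.card, ← l0.cardE, e0, h.loc.cardE]
  have q4 := h.four_le
  have e2 : j = j1 := Nat.pow_right_injective (by omega : 2 ≤ q) (Nat.add_right_cancel (m := 1) (by
    rw [← h.loc.card, l1.card, ← l1.cardE, e1, h.loc.cardE]))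
  have hs : orb (Ea Z α ⊔ Ea Z β) α ⊆ orb 𝐍(Lu Z u) α := fun _ => orb_mono hN
  have le := Set.ncard_le_ncard hs (orb_finite _ _)
  rw [c0, h.loc.card, add_le_add_iff_right, Nat.pow_le_pow_iff_right (by omega)] at le
  have e3 : j = j0 := by
    have a0 := l0.three
    have a1 := l1.three
    rw [e0] at a0
    rw [e1, ← a0] at a1
    have := l0.jj; have := l1.jj; have := h.j3; omega
  have e := Set.eq_of_subset_of_ncard_le hs (by rw [c0, h.loc.card, e3]) (orb_finite _ _)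
  refine le_antisymm ((closure_le _).2 fun z hz => ?_) hL
  obtain ⟨δ, hδ⟩ := exists_fix Ω hz.1
  obtain ⟨g, hg, rfl⟩ := e.ge ((h.vs.orb δ).2 (fix_of_comm hz.1 hδ (mem_cent1.1 hz.2).symm))
  exact conj_le_of_mem hg le_sup_left ((h.m1.conj_E g).ge ((h.m1.memE _ z).2 (.inr ⟨hz.1, hδ⟩)))

theorem DN : St α ⊓ St β ≤ 𝐍(Lu Z u) := fun g hg => conj_eq_self_iff.1 (by
  rw [h.L_eq, conj_sup, h.m1.conj_E, h.m1.conj_E, hg.1, hg.2])

theorem CD : 𝐂(Ea Z α) ⊓ St β = Wu Ω u := le_antisymm (fun g hg => h.vs.ker ▸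
  h.loc.a4 h.j3 g (h.DN ⟨h.m1.C_le hg.1, hg.2⟩) (h.m1.C_le hg.1) hg.2 hg.1) (le_inf h.W_C h.Wβ)

theorem mem_W (hg : g ∈ 𝐂(Ea Z α)) (h1 : g • β = β) : g ∈ Wu Ω u := h.CD ▸ ⟨hg, h1⟩

theorem DK : St α ⊓ St β ≤ 𝐍(K) := (le_inf h.DN le_rfl).trans h.loc.nK

theorem mem_K : k ∈ K ↔ k ∈ invs (core {2}ᶜ (St α ⊓ St β)) t :=
  (h.loc.memK k).trans (and_iff_right_of_imp fun e => h.DN (core_le _ _ e.1))

theorem conjT (hw : UU Z α w) : ∃ g : G, g • α = α ∧ g * w * g⁻¹ ∈ Tu Ω u := by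
  obtain ⟨γ, h1, h2⟩ := Cnt.fix2 hw.two hw.nZ (h.m1.C_le hw.cE)
  obtain ⟨g, h3, rfl⟩ := tr2 c h1 h.ne.symm
  have h4 := h.m1.uu_conj hw h3
  obtain ⟨d, hd, h5⟩ := sylow_exists_conj_le Nat.prime_two h.sylT
    (zpowers_le.2 (h.mem_W h4.cE (by simp [mul_smul, h2]))) (Be.P1.pgroup_zpowers' h4.two)
  exact ⟨d * g, by rw [mul_smul, h3, h.m1.C_le (h.W_C hd)], by
    simpa [mul_assoc] using h5 (conj_mem_conj d (mem_zpowers _))⟩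

theorem fixl (hl : l.Prime) (hd : l ∣ #|K|) (hU : IsSylowIn l U K) (h1 : U ≤ St γ) :
    γ = α ∨ γ = β := by
  have i := iso_stab2 h.loc.tZ h.loc.tα h.ne
  have l2 : l ≠ 2 := fun e => h.odd_K.not_two_dvd_nat (e ▸ hd)
  obtain ⟨P, hP, -, h2⟩ := i.exists_sylow hl l2 bot_le IsPGroup.of_bot (norm_bot.ge trivial)
  refine Cnt.fixK hl ?_ h.loc.tZ h.loc.tα h.ne hP h2 fun k hk => h1 ?_
  · rwa [← ncard_invs_top h.loc.tZ h.loc.tα h.ne, ← Set.ext fun k => h.mem_K (k := k)]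
  have h3 := IsPGroup.le' hP.isPGroup (zpowers_le.2 hk.1)
  have h4 := h.mem_K.2 ⟨i.mem_core (hP.le hk.1) (by
    obtain ⟨n, e⟩ := pgroup_card hl h3
    rw [← Nat.card_zpowers, e]; exact (hl.odd_of_ne_two l2).pow) hk.2, hk.2⟩
  exact sylow_le_of_norm hl hU (zpowers_le.2 h4) h3 (.inr (le_norm_of_le_cent
    ((zpowers_le.2 h4).trans (le_cent_of_le h.loc.sing.comm hU.le)))) (mem_zpowers k)

theorem exists_l : ∃ l U, l.Prime ∧ l ∣ #|K| ∧ IsSylowIn l U K :=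
  let ⟨_, h1, h2⟩ := h.exists_k
  let ⟨l, h3, h4⟩ := exists_prime_dvd_card (ne_bot_of_mem h1 h2)
  let ⟨U, h5⟩ := exists_isSylowIn l K
  ⟨l, U, h3, h4, h5⟩

theorem fixK (h1 : K ≤ St γ) : γ = α ∨ γ = β :=
  let ⟨_, _, h2, h3, h4⟩ := h.exists_l
  h.fixl h2 h3 h4 (h4.le.trans h1)

theorem KF (hl : l.Prime) (hd : l ∣ #|K|) (hU : IsSylowIn l U K) (hy : UU Z α y)
    (hn : U ≤ 𝐍(Vu Z α y)) : ∃ w ∈ Wu Ω u, UU Z α w ∧ Vu Z α w = Vu Z α y := by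
  obtain ⟨_, _, _, _, h'⟩ := h.m1.cm h.j3 hy
  have := finΩ c.toRed
  obtain ⟨γ, ⟨h1, v, h2, h3, h4⟩, h5⟩ := Be.P1.exists_fix (O := Pts Z α y) hl hU.isPGroup
    (Set.toFinite _) (fun k hk γ hγ => by
      have := h.m1.conj_pts (h.Kα (hU.le hk)) hγ
      rwa [Pts, ← h.m1.conj_Vu (h.Kα (hU.le hk)), conj_of_mem_norm (hn hk)] at this) (by
      rw [h'.card_pts, ← pow_succ']
      exact fun e => hl.one_lt.ne' (Nat.dvd_one.1 ((Nat.dvd_add_right hd).1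
        (h.loc.cardK ▸ hl.dvd_of_dvd_pow e))))
  obtain rfl := (h.fixl hl hd hU h5).resolve_left h1
  exact ⟨v, h.mem_W (h'.V_le_Y h2).1 h4, h'.uu_V h2 h3, h'.V_eq h2 h3⟩

theorem KF_cent (hl : l.Prime) (hd : l ∣ #|K|) (hU : IsSylowIn l U K) (hy : UU Z α y)
    (hn : U ≤ 𝐍(Vu Z α y)) (hk : k ∈ K) (hv : v ∈ Vu Z α y) : v⁻¹ * (k * v * k⁻¹) ∈ Ea Z α := by
  obtain ⟨w, h1, h2, e⟩ := h.KF hl hd hU hy hn
  obtain ⟨_, _, _, _, h'⟩ := h.m1.cm h.j3 h2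
  obtain ⟨e, he, x, hx, rfl⟩ := h'.mem_V.1 (e ▸ hv)
  have h3 := (h.vs.ti w h1 h2.ne).2.1 ▸ hx.1
  rw [← conj_mul, h.KW hk h3]
  have := conj_mem_of_mem_normalizer' (cent_le_norm _ (h.W_C h3))
    (mul_mem (inv_mem he) (conj_mem_of_mem_normalizer (h.loc.sing.norm hk) he))
  convert this using 1; group

theorem KF_eq (hl : l.Prime) (hd : l ∣ #|K|) (hU : IsSylowIn l U K) (hy : UU Z α y)
    (hn : U ≤ 𝐍(Vu Z α y)) (hR : Vu Z α y ≤ Ru Z α u) : Vu Z α y = Vu Z α u := by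
  obtain ⟨w, h1, h2, e⟩ := h.KF hl hd hU hy hn
  have h3 := (hR (e ▸ self_mem_Vu)).2
  have h4 : w ∈ Tu Ω u := ⟨h1, ((mem_Yu_iff h2.cE).2 (h.EW h3 (mul_mem (inv_mem self_mem_Tu.1)
    (mul_mem (mul_mem h1 self_mem_Tu.1) (inv_mem h1))))).2⟩
  exact e ▸ h.V_eq (mem_sup_right h4) (h.m1.notE h2)

/-- no involution of `C ∖ E` commutes with its `K`-conjugates, unless `K` centralises it mod `E` -/
theorem KF_comm (hy : UU Z α y) (H : ∀ k ∈ K, k * y * k⁻¹ ∈ 𝐂[y]) (hk : k ∈ K) :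
    y⁻¹ * (k * y * k⁻¹) ∈ Ea Z α := by
  obtain ⟨_, _, _, _, h'⟩ := h.m1.cm h.j3 hy
  obtain ⟨l, U, h1, h2, h3⟩ := h.exists_l
  refine h.KF_cent h1 h2 h3 hy (fun k hk => conj_eq_self_iff.1 ?_) hk self_mem_Vu
  have := h.m1.uu_conj hy (h.Kα (h3.le hk))
  rw [h.m1.conj_Vu (h.Kα (h3.le hk)),
    h'.V_eq (h'.inv_Y ⟨this.cE, H k (h3.le hk)⟩ this.uu) (h.m1.notE this)]

end Cm

end Cfsg.Agent.As
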