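import Cfsg.Agent.As.Cm2

/-! ZD, part 2: the structure common to the slices `L1` and `SZ` (notes/zd2.md), III. -/

set_option autoImplicit false
set_option linter.unusedSectionVars false

namespace Cfsg.Agent.As

open Subgroup MulAction Cfsg.Agent.H1 Cfsg.Agent.L Cfsg.Agent.FT
open Cfsg.Agent.Be (invs sq_of_two inv_of_two two_of_sq ne_one_of_two two_conj conj_smul_smul)
open Cfsg.Agent.Be.P1 (orb self_mem_orb smul_mem_orb orb_mono ncard_orb orb_finite conj_st)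
open Cfsg.Agent.Sg (Sq)
open scoped Pointwise commutatorElement

variable {G Ω : Type} [Group G] [MulAction G Ω] {Z : Set G}
variable {α β γ : Ω} {u t v w g x y s e k : G} {Q K U : Subgroup G} {q j l : ℕ}

local notation "St" => stabilizer G

variable [Finite G]

/-- the odd core modulo a central `2`-subgroup -/
theorem mpre_core_le {E C : Subgroup G} (hE : E ≤ C) (hc : C ≤ 𝐂(E)) (h2 : IsPGroup 2 E) :
    mpre (coset E) (core {2}ᶜ (C /' E)) ≤ E ⊔ core {2}ᶜ C := by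
  have n : E ⊴ C := ⟨hE, hc.trans (cent_le_norm _)⟩
  have n1 := mpre_coset_normal n (core_normal {2}ᶜ _)
  have h1 : HallIn {2} E (mpre (coset E) (core {2}ᶜ (C /' E))) :=
    ⟨le_mpre_coset _, piGrp_of_isPGroup Nat.prime_two h2 rfl, by
      rw [← card_quo (n1.le.trans n.norm), quo_mpre]; exact core_pi _ _⟩
  obtain ⟨H, h3, h4⟩ := h1.exists_sdprod (n1.le.trans n.norm)
  rw [← h3.setProd.sup, h4.eq_core (h3.setProd.sup.ge.trans (sup_le (le_norm_of_le_cent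
    (le_cent_symm (h4.le.trans (n1.le.trans hc)))) Subgroup.le_normalizer))]
  exact sup_le_sup_left (n1.core_le _) _

variable [c : Ctx Ω Z]

namespace Cm

variable (h : Cm Z α β u t Q K q j)
include h

theorem O_inv (hx : x ∈ core {2}ᶜ 𝐂(Ea Z α)) : u * x * u⁻¹ = x⁻¹ := by
  obtain ⟨y, -, rfl⟩ := lang ((core_normal _ _).norm h.uu.cE) (fun y hy e => mem_bot.1
    ((Sg.inf_eq_bot_of_two h.Y_two (Be.odd_core _)).le ⟨hy, core_le _ _ hy, mem_cent1.2 e.symm⟩)) hx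
  calc _ = u * y⁻¹ * u⁻¹ * (u * u * y * (u * u)⁻¹) := by group
    _ = _ := by rw [h.uu.uu]; group

theorem O_comm : core {2}ᶜ 𝐂(Ea Z α) ≤ 𝐂(core {2}ᶜ 𝐂(Ea Z α)) := fun x hx => mem_cent.2 fun y hy => by
  rw [← inv_inj, ← h.O_inv (mul_mem hy hx), ← conj_mul, h.O_inv hx, h.O_inv hy, mul_inv_rev]

theorem iso (H : ∀ x ∈ 𝐂(Ea Z α), x * u * x⁻¹ ∈ Ru Z α u → x ∈ Ru Z α u) (hx : x ∈ 𝐂(Ea Z α)) :
    ∃ k ∈ core {2}ᶜ 𝐂(Ea Z α), k⁻¹ * x ∈ Ru Z α u := by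
  have n := cent_le_norm (Ea Z α)
  have key : ∀ y : 𝐍(Ea Z α), (y : G) ∈ 𝐂(Ea Z α) → (coset _ y ∈ 𝐂[coset _ ⟨u, n h.uu.cE⟩] ↔
      (y : G) ∈ Ru Z α u) := fun y hy => by
    rw [mem_Ru, and_iff_right hy, mem_cent1, ← mul_inv_eq_iff_eq_mul, eq_comm, ← inv_mul_eq_one,
      ← map_inv, ← map_inv, ← map_mul, ← map_mul, ← map_mul, coset_eq_one]
    rfl
  have i : Iso (𝐂(Ea Z α) /' Ea Z α) (coset _ ⟨u, n h.uu.cE⟩) := iso_of_isolated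
    (two_of_sq (by rw [← map_mul, coset_eq_one]; simp [h.uu.uu])
      fun e => h.m1.notE h.uu (coset_eq_one.1 e))
    (Subgroup.le_normalizer (mem_mim_of_mem _ _ h.uu.cE)) fun y hy' e => by
      obtain ⟨y, hy, rfl⟩ := mem_mim.1 hy'
      rw [← map_inv, ← map_mul, ← map_mul] at e
      exact mul_inv_eq_iff_eq_mul.2 (mem_cent1.1 ((key y hy).2 (H y hy ((key _ (mul_mem (mul_mem hy
        h.uu.cE) (inv_mem hy))).1 (mem_cent1.2 e.symm)))))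
  obtain ⟨k, hk, -, -, h1⟩ := i.dec (mem_mim_of_mem _ ⟨x, n hx⟩ hx)
  obtain ⟨k, rfl⟩ := coset_surj _ k
  obtain ⟨e, he, a, ha, h2⟩ := (H1.mem_sup_of_le_normalizer' ((core_le _ _).trans n)).1
    (mpre_core_le h.m1.sqE.cent le_rfl h.m1.sqE.two (coe_mem_mpre.2 hk.1))
  rw [mem_cent.1 (core_le _ _ ha) e he] at h2
  have h3 := mul_mem (core_le _ _ ha) (h.m1.sqE.cent he)
  rw [h2] at h3
  rw [← map_inv, ← map_mul] at h1
  have : (k : G)⁻¹ * x ∈ Ru Z α u := (key (k⁻¹ * ⟨x, n hx⟩) (mul_mem (inv_mem h3) hx)).1 h1.2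
  exact ⟨a, ha, by simpa [← h2, mul_assoc] using mul_mem (h.V_le_R (mem_sup_left he)) this⟩

theorem K_Q : K ≤ 𝐍(Q) := le_norm_iff.2 fun k hk x hx => by
  obtain ⟨h1, h2, n, h3⟩ := (h.loc.memQ x).1 hx
  exact (h.loc.memQ _).2 ⟨mul_mem (mul_mem (h.loc.KL hk) h1) (inv_mem (h.loc.KL hk)),
    (conj_of_mem (H := St α) (h.K_D hk).1).le (conj_mem_conj k h2), n, by simp [conj_pow, h3]⟩

theorem eq_one_of_K (hk : k ∈ K) (k1 : k ≠ 1) (hx : x ∈ Q) (h1 : x⁻¹ * (k * x * k⁻¹) ∈ Wu Ω u) :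
    x = 1 := by
  have h2 : x⁻¹ * (k * x * k⁻¹) = 1 := mem_bot.1
    (h.vs.qw.le ⟨Q.mul_mem (inv_mem hx) (conj_mem_of_mem_normalizer (h.K_Q hk) hx), h1⟩)
  rw [inv_mul_eq_one, eq_mul_inv_iff_mul_eq] at h2
  exact by_contra fun n => k1 (h.loc.sing.free k hk x (h.mem_EW hx (h.loc.fpf k hk k1 x hx (by
    rw [commutatorElement_eq_one_iff_mul_comm.2 h2]; exact one_mem _))) n h2.symm)

variable [Cnt] [Be.BeI] [LocE]

theorem HW (H : Ru Z α u ≠ Yu Z α u) (hg : g ∈ Wu Ω u) (hn : g ∈ 𝐍(Tu Ω u)) : g ∈ Tu Ω u := by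
  by_contra n
  obtain ⟨s, hs, sY⟩ := SetLike.not_le_iff_exists.1 fun e => H (le_antisymm e Yu_le_Ru)
  have gC := h.W_C hg
  have g1 : ∀ w ∈ Tu Ω u, g * w * g⁻¹ = w → w = 1 := fun w hw e => by_contra fun w1 =>
    n ((h.vs.cT w hw w1).le ⟨hg, mem_cent1.2 (mul_inv_eq_iff_eq_mul.1 e)⟩)
  have g2 := conj_mem_of_mem_normalizer hn self_mem_Tu
  have g3 := h.m1.notE (h.m1.uu_conj h.uu (h.m1.C_le gC))
  have gR : g ∈ 𝐍(Ru Z α u) := conj_eq_self_iff.1 (by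
    rw [h.m1.conj_Ru (h.m1.C_le gC), h.R_eq_v (mem_sup_right g2) g3])
  have gY : g ∈ 𝐍(Yu Z α u) := conj_eq_self_iff.1 (by
    rw [h.m1.conj_Yu (h.m1.C_le gC), h.Y_eq_v (mem_sup_right g2) g3])
  have s1 := conj_mem_of_mem_normalizer gR hs
  have s2 : g * s * g⁻¹ ∉ Yu Z α u := fun e =>
    sY (by simpa [mul_assoc] using conj_mem_of_mem_normalizer' gY e)
  obtain ⟨k, hk, e1⟩ := h.loc.sing.tr _ s1.2 (fun e => s2 ((mem_Yu_iff s1.1).2 e)) _ hs.2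
    fun e => sY ((mem_Yu_iff hs.1).2 e)
  have s3 := conj_mem_of_mem_normalizer (h.K_R hk) s1
  have s4 : s⁻¹ * (k * g * s * (k * g)⁻¹) ∈ Yu Z α u := by
    have a := mul_mem (inv_mem hs) s3
    have := phi_mul hs.1 a
    rw [mul_inv_cancel_left, h.phi_K hk, e1, left_eq_mul] at this
    simpa [mul_assoc] using (mem_Yu_iff a.1).2 this
  have k1 : k ≠ 1 := by
    rintro rfl
    have a := mul_mem g2 (inv_mem self_mem_Tu)
    have a1 : g * u * g⁻¹ * u⁻¹ ≠ 1 := fun e => h.uu.ne (g1 u self_mem_Tu (mul_inv_eq_one.1 e))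
    refine sY (h.mem_Y_of (mem_sup_right a) (h.m1.notE (h.uu_T a a1)) hs.1 ?_)
    have b1 := mem_cent.1 (h.Y_cent s4) _ (mem_sup_right g2)
    have b2 := mem_cent.1 gC _ hs.2
    have b3 : (g * u * g⁻¹)⁻¹ * s * (g * u * g⁻¹) * s⁻¹ = u⁻¹ * (s * u * s⁻¹) := by
      calc _ = (g * u * g⁻¹)⁻¹ * s * (g * u * g⁻¹ * (s⁻¹ * (1 * g * s * (1 * g)⁻¹))) * g * s⁻¹ * g⁻¹ := by
            group
        _ = g * (u⁻¹ * (s * u * s⁻¹)) * g⁻¹ := by rw [b1]; group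
        _ = _ := by rw [← b2, mul_inv_cancel_right]
    calc _ = g * u * g⁻¹ * ((g * u * g⁻¹)⁻¹ * s * (g * u * g⁻¹) * s⁻¹) * s * u⁻¹ := by group
      _ = _ := by rw [b3]; group
  have f1 : ∀ y ∈ Yu Z α u, k * g * y = y * (k * g) → y = 1 := fun y hy e => by
    obtain ⟨x, hx, w, hw, rfl⟩ := h.dec_Y hy
    have b1 := mem_cent.1 (h.L_cent (h.Q_le hx)) g hg
    have b2 := conj_mem_of_mem_normalizer hn hw
    have b3 : x⁻¹ * (k * x * k⁻¹) = w * (g * w * g⁻¹)⁻¹ := by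
      rw [← h.KW hk b2.1]
      calc _ = x⁻¹ * k * (x * g) * g⁻¹ * k⁻¹ := by group
        _ = x⁻¹ * (k * g * (x * w)) * w⁻¹ * g⁻¹ * k⁻¹ := by rw [← b1]; group
        _ = _ := by rw [e]; group
    have b4 := h.eq_one_of_K hk k1 hx (b3 ▸ mul_mem hw.1 (inv_mem b2.1))
    subst b4
    simpa using g1 w hw (mul_inv_eq_one.1 (b3.symm.trans (by simp))).symm
  obtain ⟨y, hy, e2⟩ := lang (mul_mem (h.K_Y hk) gY) f1 s4
  have y1 := mul_mem hs (inv_mem (Yu_le_Ru hy))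
  have y2 : s * y⁻¹ ∈ 𝐂[k * g] := mem_cent1.2 (by
    calc _ = s * (s⁻¹ * (k * g * s * (k * g)⁻¹)) * (y⁻¹ * (k * g * y * (k * g)⁻¹))⁻¹ * y⁻¹ * (k * g) := by
          rw [e2]; group
      _ = _ := by group)
  have y3 : s * y⁻¹ ∉ Yu Z α u := fun e => sY ((mul_mem_cancel_right (inv_mem hy)).1 e)
  have sq : Sq (Ru Z α u ⊓ 𝐂[k * g]) := fun x hx => f1 _ (h.sq_R hx.1) (mem_cent1.1 (mul_mem hx.2 hx.2)).symm
  have cK := le_cent1_iff.2 (mul_mem (h.loc.sing.comm hk) (le_cent_symm (h.K_le.trans h.L_cent) hg))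
  refine y3 (h.mem_Y_of_K hk k1 y1 (h.V_le_Y (mem_sup_left (h.KF_comm (h.m1.uu_of (sq _ ⟨y1, y2⟩) y1.1
    fun e => y3 (h.V_le_Y (mem_sup_left e))) (fun k hk => sq.cent1 ⟨y1, y2⟩
      ⟨conj_mem_of_mem_normalizer (h.K_R hk) y1, (conj_of_mem (cK hk)).le (conj_mem_conj k y2)⟩) hk))))

theorem NT_le (H : Ru Z α u = Yu Z α u) : 𝐂(Ea Z α) ⊓ 𝐍(Vu Z α u) ≤ 𝐍(Tu Ω u) := by
  let _ : MulAction G (Subgroup G) := MulAction.compHom _ (MulAut.conj (G := G))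
  set N := 𝐂(Ea Z α) ⊓ 𝐍(Vu Z α u)
  have hY : Yu Z α u ≤ N := le_inf inf_le_left (Yu_le_Ru.trans h.R_norm)
  have syl : IsSylowIn 2 (Yu Z α u) N := ⟨hY, h.Y_two, fun P hP h1 h2 => le_antisymm (by
    have n := cent_le_norm (Ea Z α)
    have hV := (h.V_le_Y.trans inf_le_left).trans n
    obtain ⟨x, hx, x1⟩ := exists_mem_ne_one (inf_cent_ne_bot_of_pgroup Nat.prime_two
      (pgroup_mim h.sqV.two (coset (Ea Z α))) (pgroup_mim hP _) (mim_le_norm _ (h2.trans inf_le_right))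
      fun e => h.m1.notE h.uu ((quo_eq_bot_iff hV).1 e self_mem_Vu))
    obtain ⟨v, hv, rfl⟩ := mem_mim.1 hx.1
    rw [← H, ← h.R_eq_v hv fun e => x1 (coset_eq_one.2 e)]
    refine fun s hs => ⟨(h2 hs).1, ?_⟩
    have := mem_cent.1 hx.2 _ (mem_mim_of_mem _ ⟨s, n (h2 hs).1⟩ hs)
    rwa [← mul_inv_eq_iff_eq_mul, eq_comm, ← inv_mul_eq_one, ← map_inv, ← map_inv, ← map_mul,
      ← map_mul, ← map_mul, coset_eq_one] at this) h1⟩
  have odd := syl.not_dvd_relIndex_of_le (K := St (Tu Ω u)) fun y hy =>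
    conj_of_mem_norm (cent_le_norm _ (cent_anti le_sup_right (h.Y_cent hy)))
  have sub : ∀ n ∈ N, ∃ e ∈ Ea Z α, n ⋆ Tu Ω u = Tu Ω (u * e) := fun n hn => conj_Tu (Ω := Ω) n u ▸ h.cov
    (conj_mem_of_mem_normalizer hn.2 self_mem_Vu) (h.m1.notE (h.m1.uu_conj h.uu (h.m1.C_le hn.1)))
  intro g hg
  by_contra n
  obtain ⟨e, he, e1⟩ := sub g hg
  refine odd (ncard_orb N (Tu Ω u) ▸ ?_)
  have : orb N (Tu Ω u) = (fun e => Tu Ω (u * e)) '' Ea Z α := Set.Subset.antisymm (by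
    rintro _ ⟨n, hn, rfl⟩
    obtain ⟨e, he, e1⟩ := sub n hn
    exact ⟨e, he, e1.symm⟩) (by
    rintro _ ⟨e', he', rfl⟩
    by_cases h1 : e' = 1
    · simpa [h1] using self_mem_orb _ _
    obtain ⟨k, hk, rfl⟩ := h.loc.sing.tr e he
      (fun e2 => n (conj_eq_self_iff.1 (by simpa [e2] using e1))) e' he' h1
    refine ⟨k * g * k⁻¹, ⟨conj_mem_of_mem_normalizer (h.m1.nC (h.Kα hk)) hg.1,
      (conj_of_mem (h.K_V hk)).le (conj_mem_conj k hg.2)⟩, ?_⟩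
    change (k * g * k⁻¹) ⋆ Tu Ω u = Tu Ω _
    rw [mul_conj, mul_conj, conj_Tu k⁻¹, h.Ku (inv_mem hk), e1, conj_Tu, ← conj_mul, h.Ku hk])
  rw [this, Set.InjOn.ncard_image fun a ha b hb e => mul_left_cancel (h.T_inj (h.ue_mem ha)
    (h.ue_not ha) ((show Tu Ω _ = Tu Ω _ from e).ge self_mem_Tu) (by simpa using mul_mem (inv_mem ha) hb))]
  exact (h.loc.cardE ▸ h.two_dvd :)

theorem NV : 𝐂(Ea Z α) ⊓ 𝐍(Vu Z α u) = Ru Z α u := by
  refine le_antisymm (fun g hg => ?_) (le_inf Ru_le h.R_norm)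
  by_cases H : Ru Z α u = Yu Z α u
  · obtain ⟨e, he, e1⟩ := h.exists_e
    have a := h.ue_mem he
    have b := h.ue_not he
    obtain ⟨_, _, _, _, h'⟩ := h.cm_V a b
    exact Yu_le_Ru (h.mem_Y_of_two a b (fun e2 => e1 (by simpa using (h.T_inj self_mem_Vu
      (h.m1.notE h.uu) (e2.le self_mem_Tu) (by simpa using he)))) hg.1 (h.NT_le H hg)
      (h'.NT_le (by rw [h.R_eq_v a b, h.Y_eq_v a b, H]) (by rwa [h.V_eq a b])))
  obtain ⟨e, he, e1⟩ := h.cov (conj_mem_of_mem_normalizer hg.2 self_mem_Vu)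
    (h.m1.notE (h.m1.uu_conj h.uu (h.m1.C_le hg.1)))
  obtain ⟨s, hs, e2⟩ := h.dich.resolve_left H e he
  have n : s⁻¹ * g ∈ 𝐍(Tu Ω u) := conj_eq_self_iff.1 (by
    rw [mul_conj, conj_Tu, e1, ← e2, mul_inv_cancel_left, ← conj_Tu, inv_conj_conj])
  obtain ⟨x, hx, h1⟩ := h.dec (h.norm_L_of (conj_mem_of_mem_normalizer n self_mem_Tu).1)
    (mul_mem (inv_mem hs.1) hg.1)
  have := h.HW H h1 (mul_mem (inv_mem (cent_le_norm _ (cent_anti le_sup_right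
    (h.Y_cent (h.Q_le_Y hx))))) n)
  simpa using mul_mem hs (Yu_le_Ru (mul_mem (h.Q_le_Y hx) (h.T_le_Y this)))

theorem mem_R_of (hx : x ∈ 𝐂(Ea Z α)) (h1 : x * u * x⁻¹ ∈ Vu Z α u) : x ∈ Ru Z α u :=
  h.NV.le ⟨hx, conj_eq_self_iff.1 (by rw [h.m1.conj_Vu (h.m1.C_le hx),
    h.V_eq h1 (h.m1.notE (h.m1.uu_conj h.uu (h.m1.C_le hx)))])⟩

theorem iso_of_inv (H : ∀ y ∈ Ru Z α u, y * y = 1 → y ∈ Vu Z α u) (hx : x ∈ 𝐂(Ea Z α)) :
    ∃ k ∈ core {2}ᶜ 𝐂(Ea Z α), k⁻¹ * x ∈ Ru Z α u :=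
  h.iso (fun _ hx h1 => h.mem_R_of hx (H _ h1 (h.m1.uu_conj h.uu (h.m1.C_le hx)).uu)) hx

end Cm

end Cfsg.Agent.As
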