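import Cfsg.Agent.As.J

/-! Interface for the proof of `ZD`: the consequences of `Full`. -/

set_option autoImplicit false

namespace Cfsg.Agent.As

/-- what `Full` gives (no `Clo` needed) -/
class FullC : Prop where
  odd : ∀ {G Ω : Type} [Group G] [Finite G] [MulAction G Ω] {Z : Set G} [Ctx Ω Z] {a b : G} {x : Ω},
    Full Ω Z → a ∈ Z → b ∈ Z → a • x = x → b • x = x → Odd (orderOf (a * b)) → a = b
  comm : ∀ {G Ω : Type} [Group G] [Finite G] [MulAction G Ω] {Z : Set G} [Ctx Ω Z] {a b : G} {x : Ω},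
    Full Ω Z → a ∈ Z → b ∈ Z → a • x = x → b • x = x → Commute a b
  tr2 : ∀ {G Ω : Type} [Group G] [Finite G] [MulAction G Ω] {Z : Set G} [Ctx Ω Z] {α β γ : Ω},
    Full Ω Z → β ≠ α → γ ≠ α → ∃ g : G, g • α = α ∧ g • β = γ

end Cfsg.Agent.As
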