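import Cfsg.Agent.As.A1
import Cfsg.Agent.As.J2

/-! Section Y of notes/zd1.md: `Z ∪ {1}` is closed under commuting products; simplicity. -/

set_option autoImplicit false
set_option maxHeartbeats 400000

namespace Cfsg.Agent.As.Y

open Subgroup MulAction Cfsg.Agent.H1 Cfsg.Agent.L Cfsg.Agent.FT Cfsg.Agent.FT.B1
open Cfsg.Agent.Be (odd_orderOf_of_mem conj_smul_smul odd_core sq_of_two inv_of_two ne_one_of_two
  comm_inv_le mem_comm_inv)
open Cfsg.Agent.Be.P1 (conj_st swap_norm not_le_of_ne mem_comm_of_inv inv_comm_inv)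
open scoped Pointwise commutatorElement

variable {G Ω : Type} [Group G] [Finite G] [MulAction G Ω] {Z : Set G}
variable {a b d u w y : G} {α β x x' μ : Ω} {O : Subgroup G}

local notation "St" => stabilizer G

omit [Finite G] in
/-- the involution conjugating `w` to `u w u` commutes with `u` -/
theorem exists_mid (uu : u * u = 1) (ww : w * w = 1) (ho : Odd (orderOf (w * (u * w * u)))) :
    ∃ k ∈ zpowers (w * (u * w * u)), Commute (k * w) u ∧ Commute w (u * (k * w)) ∧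
      k * w * (k * w) = 1 := by
  have iu : u⁻¹ = u := inv_eq_of_mul_eq_one_right uu
  have iw : w⁻¹ = w := inv_eq_of_mul_eq_one_right ww
  have w2 : u * w * u * (u * w * u) = 1 := by
    simp only [mul_assoc, ← mul_assoc u u, uu, ← mul_assoc w w, ww, one_mul]
  obtain ⟨k, hk, e⟩ := H6.exists_conj_of_odd ww w2 ho
  have h1 : w * k * w⁻¹ = k⁻¹ := H6.inverts_of_mem_zpowers (H6.inverts_mul_left ww w2) hk
  have h2 : u * k * u⁻¹ = k⁻¹ := H6.inverts_of_mem_zpowers (by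
    simp only [mul_inv_rev, iu, iw, mul_assoc, uu, mul_one]) hk
  have h4 : k * w = w * k⁻¹ := by
    calc k * w = (w * k * w⁻¹)⁻¹⁻¹⁻¹ * w := by rw [h1]; group
      _ = _ := by group
  have h3 : k * w * u = u * (k * w) := by
    calc k * w * u = k⁻¹ * (k * (k * w)) * u := by group
      _ = (u * k * u⁻¹) * (k * w * k⁻¹) * u := by rw [h2, h4, ← mul_assoc k w, ← h4]
      _ = u * (k * w) * (u * u) := by rw [e]; group
      _ = _ := by rw [uu, mul_one]
  refine ⟨k, hk, h3, ?_, ?_⟩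
  · show w * (u * (k * w)) = u * (k * w) * w
    calc w * (u * (k * w)) = u⁻¹ * (u * w * u) * (k * w) := by group
      _ = _ := by rw [← e, iu]; group
  · calc k * w * (k * w) = k * (w * k * w⁻¹) * (w * w) := by group
      _ = 1 := by rw [h1, ww]; group

section Hyp
variable [c : Hyp Ω Z]

/-- `w` is an involution such that `u w` fixes only one point for all `u ∈ Z ∩ C(w)` -/
structure Wy (Z : Set G) (Ω : Type) [MulAction G Ω] (w : G) : Prop where
  two : orderOf w = 2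
  one : ∀ u ∈ Z, Commute u w → ∀ μ ν : Ω, u • μ = μ → (u * w) • ν = ν → ν = μ

theorem Wy.fix (h : Wy Z Ω w) (hu : u ∈ Z) (hc : Commute u w) (hμ : u • μ = μ) (hO : Odd #|O|)
    (nu : u ∈ 𝐍(O)) (nw : w ∈ 𝐍(O)) (hd : d ∈ O) : (d * w * d⁻¹) • μ = μ := by
  have uu := zsq (Ω := Ω) hu
  have iu := zinv (Ω := Ω) hu
  have ww := sq_of_two h.two
  have iw := inv_of_two h.two
  have m : ∀ d ∈ O, d * w * d⁻¹ * w ∈ O := fun d hd => (Be.P1.comm_mem_invs ww nw hd).1
  have m1 : d * w * d⁻¹ * (u * (d * w * d⁻¹) * u) ∈ O := by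
    have := O.mul_mem (m d hd) (O.inv_mem (m _ (conj_mem_of_mem_normalizer nu hd)))
    convert this using 1
    simp only [mul_inv_rev, inv_inv, iu, iw, mul_assoc, ← mul_assoc w w, ww, one_mul]
    rw [← mul_assoc u w, hc.eq]
    simp only [mul_assoc, ← mul_assoc u u, uu, one_mul]
  obtain ⟨k, hk, h1, h2, h3⟩ := exists_mid uu (H6.conj_mul_self ww d) (odd_orderOf_of_mem hO m1)
  have m2 : k * (d * w * d⁻¹) * w ∈ O := by
    rw [mul_assoc]; exact O.mul_mem (zpowers_le.2 m1 hk) (m d hd)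
  generalize k * (d * w * d⁻¹) = v at h1 h2 h3 m2
  obtain ⟨j, hj, e⟩ := H6.exists_conj_of_odd h3 ww (odd_orderOf_of_mem hO m2)
  have h4 : j * u = u * j :=
    mem_cent1.1 (zpowers_le.2 (mem_cent1.2 (h1.mul_left hc.symm).eq : v * w ∈ 𝐂[u]) hj)
  have jμ : j • μ = μ := fix_of_comm hu hμ h4
  have h5 : (u * v) • μ = μ := by rw [mul_smul, fix_of_comm hu hμ h1.eq, hμ]
  have h6 : (u * v) • (d * w * d⁻¹) • μ = (d * w * d⁻¹) • μ := by
    rw [smul_smul, ← h2.eq, mul_smul, h5]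
  have h7 := h.one u hu hc μ (j • (d * w * d⁻¹) • μ) hμ (by
    have := conj_smul_smul h6 j
    rwa [show j * (u * v) * j⁻¹ = u * w by rw [← e, ← mul_assoc, h4]; group] at this)
  rwa [← jμ, smul_left_cancel_iff, jμ] at h7

end Hyp

section Red
variable [c : Red Ω Z]

theorem exists_sw (h2 : orderOf w = 2) (hx : w • x = x) (hx' : w • x' = x') (hne : x ≠ x') :
    ∃ u ∈ Z, u ∈ 𝐂[w] ∧ u • x = x' ∧ u • x' = x := by
  have hp : IsPGroup 2 (zpowers w) := pgroup_of_card_prime (by rw [Nat.card_zpowers, h2])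
  obtain ⟨a, ha, a1, a2⟩ := exists_cent c hp (zpowers_le.2 hx)
  obtain ⟨b, hb, b1, b2⟩ := exists_cent c hp (zpowers_le.2 hx')
  rw [cent_zpowers] at a2 b2
  obtain ⟨v, v1, -, v2, v3, v4⟩ := exists_conj_swap ha hb a1 b1 hne
  exact ⟨v, v1, v4 _ a2 b2, v2, v3⟩

/-- `[O(G_{x x'}), w]` -/
abbrev HH (w : G) (x x' : Ω) : Subgroup G := ⁅core {2}ᶜ (St x ⊓ St x'), zpowers w⁆

omit [Finite G] c in
theorem norm_HH (hu : u ∈ 𝐂[w]) (h1 : u • x = x') (h2 : u • x' = x) : u ∈ 𝐍(HH w x x') :=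
  le_normalizer_commutator (zpowers_le.2 (norm_le_norm_core _ _ (swap_norm h1 h2)))
    (le_norm_zpowers_of_cent (zpowers_le.2 hu)) (mem_zpowers u)

theorem Wy.le (h : Wy Z Ω w) (hx : w • x = x) (hx' : w • x' = x') (hne : x ≠ μ) (hu : u ∈ Z)
    (hc : u ∈ 𝐂[w]) (h1 : u • x = x') (hμ : u • μ = μ) : HH w x x' ≤ HH w x μ := by
  have ww := sq_of_two h.two
  have hc' : Commute u w := mem_cent1.1 hc
  have nw : w ∈ 𝐍(core {2}ᶜ (St x ⊓ St x')) := (core_normal _ _).norm ⟨hx, hx'⟩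
  refine comm_inv_le ww fun d hd => ?_
  have m := (Be.P1.comm_mem_invs ww nw hd).1
  refine mem_comm_of_inv ww (tri' hu hμ hne ⟨h1 ▸ m, ?_⟩) (odd_orderOf_of_mem (odd_core _) m)
    (inv_comm_inv ww d)
  show (d * w * d⁻¹ * w) • μ = μ
  rw [mul_smul, fix_of_comm hu hμ hc'.eq.symm]
  exact h.fix hu hc' hμ (odd_core _) (norm_le_norm_core _ _ (swap_norm h1 (h1 ▸ zsmul hu x))) nw hd

theorem Wy.full (h : Wy Z Ω w) (hα : w • α = α) (hβ : w • β = β) (hne : α ≠ β) : Full Ω Z := by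
  haveI : Finite Ω := finΩ c
  obtain ⟨⟨x, x'⟩, ⟨hx, hx', h0⟩, hmax⟩ := Set.exists_max_image
    {q : Ω × Ω | w • q.1 = q.1 ∧ w • q.2 = q.2 ∧ q.1 ≠ q.2} (fun q => #|HH w q.1 q.2|)
    (Set.toFinite _) ⟨(α, β), hα, hβ, hne⟩
  obtain ⟨u, hu, uw, u1, u2⟩ := exists_sw (Z := Z) h.two hx hx' h0
  obtain ⟨μ, hμ⟩ := exists_fix Ω hu
  have wμ : w • μ = μ := fix_of_comm hu hμ (mem_cent1.1 uw).symm
  have h1 : x ≠ μ := fun e => h0 (by rw [← u1, e, hμ])
  have e := eq_of_le_of_card_le (h.le hx hx' h1 hu uw u1 hμ) (hmax (x, μ) ⟨hx, wμ, h1⟩)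
  obtain ⟨t, ht, tw, t1, t2⟩ := exists_sw (Z := Z) h.two hx wμ h1
  by_cases h2 : HH w x μ = ⊥
  · refine full_of (M := 𝐂[w]) (fun e => norm_ne_top c (X := zpowers w) (by
      simpa using ne_one_of_two h.two) (zpowers_le.2 hx) (top_le_iff.1 ?_)) ?_ uw hu hμ
      (not_le_of_ne tw (t2 ▸ h1)) h1
    · rw [← e, ← cent_zpowers]; exact cent_le_norm _
    · rw [← cent_zpowers]; exact comm_eq_bot_iff.1 h2
  · exact full_of (norm_ne_top c h2 ((comm_le_left (zpowers_le.2 ((core_normal _ _).norm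
      (mem_inf.2 ⟨hx, wμ⟩)))).trans ((core_le _ _).trans inf_le_left))) (left_le_norm_comm _ _)
      (e ▸ norm_HH uw u1 u2) hu hμ (not_le_of_ne (norm_HH tw t1 t2) (t2 ▸ h1)) h1

theorem exists_w (ha : a ∈ Z) (hd : d ∈ Z) (hne : a ≠ d) (hc : Commute a d) (hn : a * d ∉ Z)
    (hα : a • α = α) (hb : b ∈ Z) (hβ : b • β = β) (h0 : α ≠ β) :
    ∃ w : G, Wy Z Ω w ∧ w • α = α ∧ w • β = β ∧ ∃ g : G, w * b = g * (a * d) * g⁻¹ ∧ g • α = β := by
  have bb := zsq (Ω := Ω) hb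
  have yy : a * d * (a * d) = 1 := by
    rw [mul_assoc, ← mul_assoc d, ← hc.eq, mul_assoc, zsq (Ω := Ω) hd, mul_one, zsq (Ω := Ω) ha]
  have yα : (a * d) • α = α := by rw [mul_smul, fix_of_comm ha hα hc.eq.symm, hα]
  have ho : ¬ Odd (orderOf (b * (a * d))) := fun ho => by
    obtain ⟨k, -, e⟩ := H6.exists_conj_of_odd bb yy ho
    exact hn (e ▸ c.conj b hb k)
  obtain ⟨w, -, w2, wb, wy, g, -, e⟩ :=
    H6.exists_central_involution_of_even bb yy (Nat.not_odd_iff_even.1 ho)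
  have wα : w • α = α := fix_mul ha hd hne hc hα (by rw [smul_smul, ← wy.eq, mul_smul, yα])
  have wβ : w • β = β := fix_of_comm hb hβ wb.eq
  rcases e with e | e
  · refine absurd (fix_mul hb (e ▸ c.conj b hb g : w * b ∈ Z)
      (fun e => ne_one_of_two w2 (by simpa using e.symm)) (wb.symm.mul_right (Commute.refl b)) hβ
      (β := α) ?_) h0
    rw [wb.eq, ← mul_assoc, bb, one_mul, wα]
  have key : ∀ ν : Ω, (w * b) • ν = ν → ν = g • α := fun ν hν => by
    rw [← inv_smul_eq_iff]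
    refine fix_mul ha hd hne hc hα ?_
    have := conj_smul_smul hν g⁻¹
    rwa [← e, show g⁻¹ * (g * (a * d) * g⁻¹) * g⁻¹⁻¹ = a * d by group] at this
  have gβ : g • α = β := (key β (by rw [mul_smul, hβ, wβ])).symm
  refine ⟨w, ⟨w2, fun u hu uw μ ν hμ hν => ?_⟩, wα, wβ, g, e.symm, gβ⟩
  obtain ⟨n, hn, rfl⟩ := exists_conj_in (N := 𝐂[w]) hb hβ (mem_cent1.2 wb.eq.symm)
    (not_le_of_ne (mem_cent1.2 wy.eq.symm) fun e => h0 (fix_mul ha hd hne hc hα e).symm) hu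
    (mem_cent1.2 uw.eq)
  rw [fix_unique hu hμ (conj_smul_smul hβ n), ← inv_smul_eq_iff, ← gβ]
  refine key _ ?_
  have := conj_smul_smul hν n⁻¹
  rwa [show n⁻¹ * (n * b * n⁻¹ * w) * n⁻¹⁻¹ = b * (n⁻¹ * (w * n)) by group, ← mem_cent1.1 hn,
    inv_mul_cancel_left, ← wb.eq] at this

/-- the product of all elements of `Z_β` -/
theorem exists_c (hc : ∀ a ∈ II Z β, ∀ b ∈ II Z β, a * b = b * a) (hb : b ∈ II Z β) :
    ∃ z ∈ closure (II Z β), (∀ g : G, g • β = β → g * z * g⁻¹ = z) ∧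
      ∀ F : Subgroup G, (∀ a ∈ II Z β, a * b ∈ F) → z * b ∈ F := by
  classical
  haveI := isMulCommutative_closure hc
  letI : CommGroup (closure (II Z β)) := {
    (inferInstance : Group (closure (II Z β))) with mul_comm := fun x y => mul_comm' x y }
  haveI := Fintype.ofFinite (II Z β)
  let f : II Z β → closure (II Z β) := fun a => ⟨a, subset_closure a.2⟩
  have m : ∀ g : G, g • β = β → ∀ a ∈ II Z β, g * a * g⁻¹ ∈ II Z β := fun g hg a ha =>
    ⟨c.conj a ha.1 g, by simpa [hg] using conj_smul_smul ha.2 g⟩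
  refine ⟨(∏ a, f a : closure (II Z β)), Subtype.prop _, fun g hg => ?_, fun F hF => ?_⟩
  · have hn : g ∈ 𝐍(closure (II Z β)) := mem_norm_of_conj_le (by
      rw [conj_eq_map, MonoidHom.map_closure, closure_le]
      rintro _ ⟨a, ha, rfl⟩
      exact subset_closure (m g hg a ha))
    let φ := (closure (II Z β)).normalizerMonoidHom ⟨g, hn⟩
    have e : φ (∏ a, f a) = ∏ a, f a := by
      rw [map_prod]
      refine Fintype.prod_bijective (fun a : II Z β => (⟨g * a * g⁻¹, m g hg a a.2⟩ : II Z β))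
        (Finite.injective_iff_bijective.1 ?_) _ _ fun a => rfl
      intro a a' e
      exact Subtype.ext (by simpa using congrArg Subtype.val e)
    exact congrArg Subtype.val e
  · have h1 : ∏ a, (f a * f ⟨b, hb⟩) ∈ F.subgroupOf (closure (II Z β)) :=
      Subgroup.prod_mem _ fun a _ => hF a a.2
    obtain ⟨k, hk⟩ := odd_ncard_II (Z := Z) β
    have h2 : f ⟨b, hb⟩ ^ 2 = 1 := Subtype.ext (by simpa [sq, f] using zsq (Ω := Ω) hb.1)
    rw [Finset.prod_mul_distrib, Finset.prod_const, Finset.card_univ, ← Nat.card_eq_fintype_card,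
      Nat.card_coe_set_eq, hk, pow_succ, pow_mul, h2, one_pow, one_mul] at h1
    exact h1

end Red

theorem clo [FullC] (c : Ctx Ω Z) : Clo Z := ⟨fun a ha d hd hne hc => by
  by_contra hn
  haveI := c.nontriv
  obtain ⟨α, hα⟩ := exists_fix Ω ha
  obtain ⟨β, h0⟩ := exists_ne α
  obtain ⟨b, hb, hβ⟩ := exists_II c.toRed β
  obtain ⟨w, hw, wα, wβ, g, e, gα⟩ := exists_w ha hd hne hc hn hα hb hβ h0.symm
  have hF := hw.full wα wβ h0.symm
  have cm : ∀ a ∈ II Z β, ∀ b ∈ II Z β, a * b = b * a := fun a ha b hb =>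
    (FullC.comm hF ha.1 hb.1 ha.2 hb.2).eq
  haveI := isMulCommutative_closure cm
  obtain ⟨z, hz, z1, z2⟩ := exists_c cm ⟨hb, hβ⟩
  set E := closure (II Z β)
  set K := core {2}ᶜ (St β ⊓ St α)
  have bb := zsq (Ω := Ω) hb
  have m : ∀ g : G, g • β = β → ∀ a ∈ II Z β, g * a * g⁻¹ ∈ II Z β := fun g hg a ha =>
    ⟨c.conj a ha.1 g, by simpa [hg] using conj_smul_smul ha.2 g⟩
  have KE : K ≤ 𝐍(E) := fun g hg => mem_norm_of_conj_le (by
    rw [conj_eq_map, MonoidHom.map_closure, closure_le]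
    rintro _ ⟨a, ha, rfl⟩
    exact subset_closure (m g (core_le _ _ hg).1 a ha))
  have sqE : ∀ x ∈ E, x * x = 1 := fun x hx => by
    induction hx using closure_induction with
    | mem x hx => exact zsq (Ω := Ω) hx.1
    | one => exact one_mul 1
    | mul x y hx hy h1 h2 =>
      rw [mul_assoc, ← mul_assoc y, setLike_mul_comm hy hx, mul_assoc, h2, mul_one, h1]
    | inv x _ h => rw [← mul_inv_rev, h, inv_one]
  have cop : (#|K|).Coprime #|E| := (pgroup_coprime Nat.prime_two (H := E)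
    (fun x => ⟨1, Subtype.ext (by simpa [sq] using sqE x x.2)⟩) fun h =>
      Nat.not_even_iff_odd.2 (odd_core _) (even_iff_two_dvd.2 h)).symm
  obtain ⟨t, ht, t1, -⟩ := exists_swap_top c.toRed h0
  have key : ∀ a ∈ II Z β, a * b ∈ ⁅E, K⁆ := fun a ha => by
    obtain ⟨k, hk, rfl, -⟩ := exists_invs_conj ht t1 h0 hb hβ ha.1 ha.2
    rw [Subgroup.commutator_comm]
    have := commutator_mem_commutator hk.1 (subset_closure (k := II Z β) ⟨hb, hβ⟩)
    rwa [commutatorElement_def, zinv (Ω := Ω) hb] at this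
  have a1 : g * a * g⁻¹ ∈ II Z β := ⟨c.conj a ha g, gα ▸ conj_smul_smul hα g⟩
  have d1 : g * d * g⁻¹ ∈ II Z β :=
    ⟨c.conj d hd g, gα ▸ conj_smul_smul (fix_of_comm ha hα hc.eq.symm) g⟩
  have bE : b ∈ E := subset_closure ⟨hb, hβ⟩
  have e' : w * b = g * a * g⁻¹ * (g * d * g⁻¹) := by rw [e]; group
  have wb : w * b ∈ ⁅E, K⁆ := by
    have := mul_mem (key _ a1) (key _ d1)
    rwa [mul_assoc, ← mul_assoc b, setLike_mul_comm bE (subset_closure d1 : _ ∈ E), mul_assoc _ b b,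
      bb, mul_one, ← e'] at this
  have wE : w ∈ E := (E.mul_mem_cancel_right bE).1 (comm_le_left KE wb)
  have wK : w ∈ 𝐂(K) := mem_cent.2 fun k hk => commutatorElement_eq_one_iff_mul_comm.1 (by
    have h1 : ⁅k, w⁆ ∈ E := mul_mem (conj_mem_of_mem_normalizer (KE hk) wE) (inv_mem wE)
    have h2 : ⁅k, w⁆ ∈ K := by
      simpa [commutatorElement_def, mul_assoc] using
        mul_mem hk ((core_normal _ _).conj_mem (g := w) ⟨wβ, wα⟩ (inv_mem hk))
    exact Sz.eq_one_of_odd_of_sq (odd_orderOf_of_mem (odd_core _) h2) (sqE _ h1))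
  have zK : z ∈ 𝐂(K) := mem_cent.2 fun k hk => mul_inv_eq_iff_eq_mul.1 (z1 k (core_le _ _ hk).1)
  have h3 : z * w⁻¹ ∈ E ⊓ 𝐂(K) ⊓ ⁅E, K⁆ :=
    ⟨⟨E.mul_mem hz (E.inv_mem wE), (𝐂(K)).mul_mem zK ((𝐂(K)).inv_mem wK)⟩, by
      simpa [mul_assoc] using mul_mem (z2 _ key) (inv_mem wb)⟩
  rw [inf_centralizer_inf_commutator_eq_bot KE cop, mem_bot, mul_inv_eq_one] at h3
  subst h3
  refine ne_one_of_two hw.two (c.faith z fun γ => ?_)
  by_cases e : γ = β
  · rw [e, wβ]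
  · obtain ⟨k, k1, rfl⟩ := FullC.tr2 hF h0.symm e
    rw [← z1 k k1]; exact conj_smul_smul wα k⟩

theorem simple (c : Red Ω Z) [Clo Z] : IsSimpleGroup G := by
  obtain ⟨a, -, b, -, ha, -, hne, -⟩ := c.four
  haveI : Nontrivial G := ⟨a, b, hne⟩
  refine ⟨fun L hL => ?_⟩
  by_cases h : ∀ z ∈ Z, z ∉ L
  · exact .inl (eq_bot_iff.2 fun x hx => c.faith x fun α => le_stab_of_disj h
      ((four_stab c α).mono (le_inf (by rw [normalizer_eq_top]; exact le_top) le_rfl)) hx)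
  · push Not at h
    obtain ⟨z, hz, hzL⟩ := h
    obtain ⟨α, hα⟩ := exists_fix Ω hz
    refine .inr (eq_top_iff.2 (c.gen ▸ (closure_le L).2 fun y hy => ?_))
    obtain ⟨n, -, rfl⟩ := exists_conj_in hz hα (mem_top z)
      (fun e => stab_ne_top c α (top_le_iff.1 e)) hy (mem_top y)
    exact hL.conj_mem z hzL n

end Cfsg.Agent.As.Y
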