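import Cfsg.Agent.As.P
import Cfsg.Agent.As.Y

/-! ZD, part 2: the slice `Cnt` (notes/zd2.md). -/

set_option autoImplicit false

namespace Cfsg.Agent.As

open Subgroup MulAction Cfsg.Agent.H1 Cfsg.Agent.L Cfsg.Agent.FT Cfsg.Agent.FT.B1
open Cfsg.Agent.Be (invs sq_of_two inv_of_two two_of_sq ne_one_of_two odd_orderOf_of_mem odd_core
  le_core_of_odd conj_smul_smul two_conj)
open Cfsg.Agent.Be.P1 (orb conj_st conj_st2 le_st_smul swap_norm not_le_of_ne self_mem_orb smul_mem_orb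
  comm_mem_invs Fix3 orb_rel orb_symm orb_trans orb_mono odd_sup smul_ne' le_st_orb card_mod)
open Cfsg.Agent.Be.PL (odd_pgroup mem_norm_inf)
open scoped Pointwise commutatorElement

theorem ncard_double {A B : Type*} {s : Set A} {t : Set B} (hs : s.Finite) (ht : t.Finite)
    (r : A → B → Prop) {m n : ℕ} (hm : ∀ a ∈ s, {b ∈ t | r a b}.ncard = m)
    (hn : ∀ b ∈ t, {a ∈ s | r a b}.ncard = n) : s.ncard * m = t.ncard * n := by
  classical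
  lift s to Finset A using hs
  lift t to Finset B using ht
  simp only [Set.ncard_coe_finset]
  refine Finset.card_mul_eq_card_mul r (fun a ha => ?_) fun b hb => ?_
  · rw [← hm a ha, ← Set.ncard_coe_finset, Finset.coe_bipartiteAbove]; rfl
  · rw [← hn b hb, ← Set.ncard_coe_finset, Finset.coe_bipartiteBelow]; rfl

variable {G Ω : Type} [Group G] [MulAction G Ω] {Z : Set G} [Finite G]
variable {a b e s t g u w : G} {α β γ δ : Ω} {N X U P : Subgroup G} {p : ℕ}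

local notation "St" => stabilizer G

omit [Finite G] in
theorem fx_conj (g u : G) : fx Ω (g * u * g⁻¹) = fx Ω u :=
  (Set.ncard_congr (fun γ _ => g • γ) (fun _ h => conj_smul_smul h g)
    (fun _ _ _ _ h => (smul_left_cancel_iff g).1 h) fun γ h => ⟨g⁻¹ • γ, show u • _ = _ by
      simpa [mul_assoc] using conj_smul_smul h g⁻¹, by simp⟩).symm

section Hyp
variable [c : Hyp Ω Z]

theorem ncard_swaps (ht : t ∈ Z) (htN : t ∈ N) (h1 : t • α = β) (hne : α ≠ β) :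
    {z | (z ∈ Z ∧ z ∈ N) ∧ z • α = β}.ncard = (invs (N ⊓ core {2}ᶜ (St α ⊓ St β)) t).ncard := by
  have tt := zsq (Ω := Ω) ht
  refine Set.ncard_congr (fun z _ => t * z) (fun z hz => ?_) (fun _ _ _ _ => mul_left_cancel)
    fun k hk => ⟨t * k, ⟨⟨mul_inv_mem (Ω := Ω) ht hk.2 (odd_orderOf_of_mem (odd_core _) hk.1.2),
      mul_mem htN hk.1.1⟩, by rw [mul_smul, show k • α = α from (core_le _ _ hk.1.2).1, h1]⟩,
      by rw [← mul_assoc, tt, one_mul]⟩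
  have hi : t * (t * z) * t = (t * z)⁻¹ := by
    rw [← mul_assoc, tt, one_mul, mul_inv_rev, zinv (Ω := Ω) ht, zinv (Ω := Ω) hz.1.1]
  exact ⟨⟨mul_mem htN hz.1.2, (iso_stab2 ht h1 hne).mem_core ⟨show (t * z) • α = α by
    rw [mul_smul, hz.2, ← h1, zsmul ht], show (t * z) • β = β by
    rw [mul_smul, ← hz.2, zsmul hz.1.1, h1, hz.2]⟩ (odd_swap ht hz.1.1 hne h1 hz.2) hi⟩, hi⟩

/-- an involution preserving `{α, β}` centralises a swap -/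
theorem swap_of (uu : u * u = 1) (ht : t ∈ Z) (h1 : t • α = β) (h2 : (u * t * u) • α = β)
    (hne : α ≠ β) : ∃ z ∈ Z, z ∈ 𝐂[u] ∧ z • α = β := by
  have tt := zsq (Ω := Ω) ht
  have hu : u * t * u ∈ Z := by simpa [inv_eq_of_mul_eq_one_right uu] using c.conj t ht u
  have ho := odd_swap ht hu hne h1 h2
  obtain ⟨k, hk, h3, -, h4⟩ := Y.exists_mid uu tt ho
  have hi : t * k * t = k⁻¹ := eq_inv_of_mul_eq_one_right (by simpa [mul_assoc] using h4)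
  refine ⟨k * t, ?_, mem_cent1.2 h3.eq, ?_⟩
  · simpa [← mul_assoc, tt, zinv (Ω := Ω) ht] using c.conj _ (mul_inv_mem (Ω := Ω) ht hi
      (ho.of_dvd_nat (orderOf_dvd_of_mem_zpowers hk))) t
  · rw [mul_smul, h1]
    exact zpowers_le.2 (show t * (u * t * u) ∈ St β by
      rw [mem_stabilizer_iff, mul_smul, ← h2, zsmul hu, h1, h2]) hk

theorem card_core2 (ht : t ∈ Z) (htN : t ∈ N) (h1 : t • α = β) (hne : α ≠ β) :
    #|N ⊓ core {2}ᶜ (St α ⊓ St β)| = (invs (N ⊓ core {2}ᶜ (St α ⊓ St β)) t).ncard *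
      #|N ⊓ core {2}ᶜ (St α ⊓ St β) ⊓ 𝐂[t]| :=
  Be.card_invs (odd_of_le (odd_core _) inf_le_right) (zsq (Ω := Ω) ht)
    (mem_norm_inf (le_normalizer htN) (iso_stab2 ht h1 hne).normO)

end Hyp

section Red
variable [c : Red Ω Z]

theorem fix1 (c : Red Ω Z) (h : IsPGroup 2 X) : ∃ α : Ω, X ≤ St α := by
  haveI := finΩ c
  haveI := c.nontriv
  obtain ⟨α, -⟩ := exists_pair_ne Ω
  obtain ⟨a, ha, h1⟩ := exists_II c α
  obtain ⟨x, -, hx⟩ := Be.P1.exists_fix (O := (Set.univ : Set Ω)) Nat.prime_two h (Set.toFinite _)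
    (fun _ _ _ _ => trivial) (Be.P1.card_mod_one Nat.prime_two (Be.P1.pgroup_zpowers' (c.two a ha))
      (Set.toFinite _) (fun _ _ _ _ => trivial) trivial (zpowers_le.2 h1)
      fun _ _ hx => fix_unique ha (hx (mem_zpowers a)) h1)
  exact ⟨x, hx⟩

theorem swap_cent (c : Red Ω Z) (uu : u * u = 1) (h1 : u • α = α) (h2 : u • β = β) (hne : α ≠ β) :
    ∃ t ∈ Z, t ∈ 𝐂[u] ∧ t • α = β :=
  let ⟨_, ht, h, _⟩ := exists_swap_top c hne
  swap_of uu ht h (by rw [mul_smul, mul_smul, h1, h, h2]) hne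

theorem swap_move (c : Red Ω Z) (uu : u * u = 1) (hne : u • α ≠ α) :
    ∃ t ∈ Z, t ∈ 𝐂[u] ∧ t • α = u • α :=
  let ⟨_, ht, h, h'⟩ := exists_swap_top c hne.symm
  swap_of uu ht h (by rw [mul_smul, mul_smul, h']) hne.symm

theorem exists_cent1 (c : Red Ω Z) (uu : u * u = 1) (h : u • α = α) : ∃ a, a ∈ II Z α ∩ 𝐂[u] :=
  let ⟨a, h1, h2, h3⟩ := exists_cent c (abelem_pgroup (abelem_zpowers (by rw [pow_two, uu])))
    (zpowers_le.2 h)
  ⟨a, ⟨h1, h2⟩, cent_zpowers u ▸ h3⟩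

theorem exists_moved (c : Red Ω Z) (h : u ≠ 1) : ∃ γ : Ω, u • γ ≠ γ :=
  not_forall.1 fun e => h (c.faith u e)

theorem cent1_ne_top (c : Red Ω Z) (h1 : u ≠ 1) (h : u • α = α) : 𝐂[u] ≠ ⊤ := fun e =>
  norm_ne_top c (zpowers_ne_bot.2 h1) (zpowers_le.2 h)
    (top_le_iff.1 (e ▸ le_norm_zpowers_of_cent le_rfl))

theorem ncard_II_cent (uu : u * u = 1) (h1 : u • α = α) (h2 : u • β = β) :
    (II Z β ∩ 𝐂[u]).ncard = (II Z α ∩ 𝐂[u]).ncard := by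
  rcases eq_or_ne α β with rfl | hne
  · rfl
  obtain ⟨t, -, h3, rfl⟩ := swap_cent c uu h1 h2 hne
  exact ncard_II_smul h3 α

theorem exists_conj_cent (uu : u * u = 1) (h1 : u • α = α) (h2 : u • β = β) (hne : α ≠ β) (ha : a ∈ Z)
    (h3 : a ∈ 𝐂[u]) (hb : b ∈ Z) (h4 : b ∈ 𝐂[u]) : ∃ n ∈ 𝐂[u], n * a * n⁻¹ = b := by
  obtain ⟨δ, h⟩ := exists_fix Ω ha
  obtain ⟨t, ht, h5, h6⟩ := swap_cent c uu h1 h2 hne
  refine exists_conj_in ha h h3 (fun e => ?_) hb h4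
  have h7 := fix_of_comm ha h (mem_cent1.1 h3).symm
  rcases eq_or_ne δ α with rfl | h8
  · exact hne ((e h5).symm.trans h6)
  · obtain ⟨t, -, h5, h6⟩ := swap_cent c uu h7 h1 h8
    exact h8 ((e h5).symm.trans h6)

theorem fix2 (u2 : orderOf u = 2) (hZ : u ∉ Z) (h : u • α = α) : ∃ β, β ≠ α ∧ u • β = β := by
  by_contra! h0
  haveI := c.nontriv
  have uu := sq_of_two u2
  obtain ⟨γ, hγ⟩ := exists_ne α
  obtain ⟨t, ht, h1, h2⟩ := swap_move c uu (h0 γ hγ)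
  obtain ⟨δ, h3⟩ := exists_fix Ω ht
  have tt := zsq (Ω := Ω) ht
  have tu := mem_cent1.1 h1
  obtain rfl : δ = α := by_contra fun e => h0 δ e (fix_of_comm ht h3 tu.symm)
  have ww : u * t * (u * t) = 1 := by rw [mul_assoc, ← mul_assoc t, tu, mul_assoc, tt, mul_one, uu]
  obtain ⟨γ', h4⟩ := exists_moved (u := u * t) c fun e =>
    hZ (by rwa [eq_inv_of_mul_eq_one_left e, zinv (Ω := Ω) ht])
  obtain ⟨z, hz, h5, h6⟩ := swap_move c ww h4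
  obtain ⟨n, hn, e⟩ := exists_conj_cent (α := δ) ww (by rw [mul_smul, h3, h])
    (by rw [mul_smul, h2, smul_smul, uu, one_smul]) hγ.symm ht
    (mem_cent1.2 (by rw [← mul_assoc, tu])) hz h5
  have e1 : n * u * n⁻¹ = u * t * z := by
    rw [← e, ← mul_assoc, ← mul_assoc, ← mem_cent1.1 hn]; simp [mul_assoc, tt]
  have e2 : n⁻¹ • γ' = δ := by_contra fun e' => h0 _ e' (by
    rw [eq_inv_smul_iff, smul_smul, smul_smul, e1, mul_smul, h6, smul_smul, ww, one_smul])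
  refine h4 (h6.symm.trans ?_)
  rw [← e, mul_smul, mul_smul, e2, h3, ← e2, smul_inv_smul]

theorem cent1_not_le (u2 : orderOf u = 2) (hZ : u ∉ Z) (h : u • α = α) : ¬ 𝐂[u] ≤ St α :=
  let ⟨_, h1, h2⟩ := fix2 u2 hZ h
  let ⟨_, _, h3, h4⟩ := swap_cent c (sq_of_two u2) h h2 h1.symm
  not_le_of_ne h3 (h4 ▸ h1)

theorem orb_cent1 (c : Red Ω Z) (uu : u * u = 1) (h : u • α = α) : orb 𝐂[u] α = {γ | u • γ = γ} := by
  ext γ
  refine ⟨fun ⟨g, hg, e⟩ => ?_, fun e => ?_⟩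
  · rw [← e, Set.mem_ofPred_eq, smul_smul, ← mem_cent1.1 hg, mul_smul, h]
  rcases eq_or_ne α γ with rfl | hne
  · exact self_mem_orb _ _
  · obtain ⟨t, -, h1, h2⟩ := swap_cent c uu h e hne
    exact ⟨t, h1, h2⟩

theorem ncard_cent (uu : u * u = 1) (h : u • α = α) :
    (Z ∩ 𝐂[u]).ncard = fx Ω u * (II Z α ∩ 𝐂[u]).ncard := by
  haveI := finΩ c
  rw [← mul_one (Set.ncard _)]
  refine (ncard_double (Set.toFinite _) (Set.toFinite _) (fun γ z => z • γ = γ) (fun γ hγ => ?_)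
    fun z hz => ?_).symm
  · rw [← ncard_II_cent uu h hγ]; congr 1; ext z; exact and_right_comm
  · obtain ⟨δ, h1⟩ := exists_fix Ω hz.1
    exact Set.ncard_eq_one.2 ⟨δ, Set.eq_singleton_iff_unique_mem.2 ⟨⟨fix_of_comm hz.1 h1
      (mem_cent1.1 hz.2).symm, h1⟩, fun _ h2 => fix_unique hz.1 h2.2 h1⟩⟩

end Red

variable [c : Ctx Ω Z] [Be.BeI]

/-- an odd subgroup moving `α` is normalised by at most one element of `Z_α` -/
theorem eq_of_odd (ha : a ∈ II Z α) (hb : b ∈ II Z α) (hX : Odd #|X|) (na : a ∈ 𝐍(X))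
    (nb : b ∈ 𝐍(X)) (h : ¬ X ≤ St α) : a = b := by
  induction hn : #|X| using Nat.strong_induction_on generalizing X with
  | _ n ih =>
  have nd : ∀ {g : G}, g ∈ 𝐍(X) → g ∈ 𝐍(⁅X, X⁆) := fun hg =>
    le_normalizer_commutator le_rfl le_rfl hg
  have lt := der1_lt (Be.sol_odd hX) fun e => h (e ▸ bot_le)
  by_cases hd : ⁅X, X⁆ ≤ St α
  swap
  · exact ih _ (hn ▸ card_lt_of_lt lt) (odd_of_le hX lt.le) (nd na) (nd nb) hd rfl
  obtain ⟨_, ⟨x, hx, rfl⟩, h1⟩ := Be.P1.exists_ne_of_not_le h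
  have key : ∀ {a : G}, a ∈ II Z α → a ∈ 𝐍(X) → a • x • α = x⁻¹ • α := fun ha na => by
    have : _ ∈ St α := (Be.inverts_mod (B := X ⊓ St α) (zsq (Ω := Ω) ha.1) hX inf_le_left (le_inf lt.le hd) na
      (mem_norm_inf na (le_normalizer ha.2)) (inf_le_inf_left _ (cent1_le_stab ha.1 ha.2)) hx).2
    rwa [mem_stabilizer_iff, mul_smul, mul_smul, mul_smul, zinv (Ω := Ω) ha.1, ha.2,
      ← eq_inv_smul_iff] at this
  exact b4 ha.1 hb.1 ha.2 hb.2 (by rw [mul_smul, key hb nb, ← key ha na, zsmul ha.1]) h1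

theorem eq_of_not_four (hN : ¬ N ≤ St α) (h4 : ¬ FourZ Z (N ⊓ St α)) (ha : a ∈ II Z α ∩ N)
    (hb : b ∈ II Z α ∩ N) : a = b :=
  eq_of_odd ha.1 hb.1 (odd_core N) ((core_normal _ _).norm ha.2) ((core_normal _ _).norm hb.2)
    fun e => hN fun x hx => by
      obtain ⟨k, hk, -, -, h⟩ := (iso_of_not_four ha.1.1 ha.1.2 ha.2 h4).dec hx
      simpa using mul_mem (e hk.1) (cent1_le_stab ha.1.1 ha.1.2 h.2)

theorem comm_of_ne_top (h0 : N ≠ ⊤) (hN : ¬ N ≤ St α) (ha : a ∈ II Z α ∩ N) (hb : b ∈ II Z α ∩ N) :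
    a * b = b * a := by
  by_cases h4 : FourZ Z (N ⊓ St α)
  swap
  · rw [eq_of_not_four hN h4 ha hb]
  have h : BT Z N α := ⟨h0, h4, hN⟩
  obtain ⟨β, h1, h2⟩ := Be.P1.exists_ne_of_not_le hN
  have := b4 ha.1.1 (c.conj a ha.1.1 b) ha.1.2 (hb.1.2 ▸ conj_smul_smul ha.1.2 b) (by
    simpa [mul_assoc, zinv (Ω := Ω) hb.1.1] using (mem_Ker.1 (h.core_le
      (h.sq_mul_mem ha.1.1 ha.2 ha.1.2 hb.1.1 hb.2 hb.1.2))).2 β h1) h2
  exact eq_mul_inv_iff_mul_eq.1 this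

section U
variable (u2 : orderOf u = 2) (hZ : u ∉ Z) (h : u • α = α)
include u2 hZ h

theorem comm_cent (ha : a ∈ II Z α ∩ 𝐂[u]) (hb : b ∈ II Z α ∩ 𝐂[u]) : a * b = b * a :=
  comm_of_ne_top (cent1_ne_top c.toRed (ne_one_of_two u2) h) (cent1_not_le u2 hZ h) ha hb

theorem bt_cent (h1 : (II Z α ∩ 𝐂[u]).ncard ≠ 1) : BT Z 𝐂[u] α := by
  refine ⟨cent1_ne_top c.toRed (ne_one_of_two u2) h, by_contra fun h4 => h1 ?_, cent1_not_le u2 hZ h⟩
  obtain ⟨a, ha⟩ := exists_cent1 c.toRed (sq_of_two u2) h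
  exact Set.ncard_eq_one.2 ⟨a, Set.eq_singleton_iff_unique_mem.2
    ⟨ha, fun _ hb => eq_of_not_four (cent1_not_le u2 hZ h) h4 hb ha⟩⟩

omit h c in
theorem mul_notMem (c : Ctx Ω Z) (he : e ∈ Z) (hc : e ∈ 𝐂[u]) : orderOf (u * e) = 2 ∧ u * e ∉ Z := by
  have ee := zsq (Ω := Ω) he
  have eu := mem_cent1.1 hc
  refine ⟨two_of_sq (by rw [mul_assoc, ← mul_assoc e, eu, mul_assoc, ee, mul_one, sq_of_two u2])
    fun e1 => hZ (by rwa [eq_inv_of_mul_eq_one_left e1, zinv (Ω := Ω) he]), fun e1 => hZ ?_⟩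
  simpa [mul_assoc, ee] using (clo c).mul _ e1 e he (fun e2 => ne_one_of_two u2 (by simpa using e2))
    (show u * e * e = e * (u * e) by rw [← mul_assoc, eu])

theorem II_cent_mul (he : e ∈ II Z α ∩ 𝐂[u]) : II Z α ∩ 𝐂[u * e] = II Z α ∩ 𝐂[u] := by
  have key : ∀ {u : G}, orderOf u = 2 → u ∉ Z → u • α = α → e ∈ 𝐂[u] →
      II Z α ∩ 𝐂[u] ⊆ II Z α ∩ 𝐂[u * e] := fun u2 hZ h hc a ha => ⟨ha.1, mem_cent1.2 (by
    rw [← mul_assoc, mem_cent1.1 ha.2, mul_assoc, comm_cent u2 hZ h ha ⟨he.1, hc⟩, mul_assoc])⟩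
  obtain ⟨h1, h2⟩ := mul_notMem u2 hZ c he.1.1 he.2
  refine (key u2 hZ h he.2).antisymm' ?_
  simpa [mul_assoc, zsq (Ω := Ω) he.1.1] using key h1 h2 (by rw [mul_smul, he.1.2, h])
    (mem_cent1.2 (by rw [← mul_assoc, mem_cent1.1 he.2]))

/-- `r = m (q_u - 1)` -/
theorem ncard_II_eq [BW] (hγ : u • γ ≠ γ) : (II Z α).ncard =
    {z | (z ∈ Z ∧ z ∈ 𝐂[u]) ∧ z • γ = u • γ}.ncard * (II Z α ∩ 𝐂[u]).ncard := by
  have uu := sq_of_two u2
  obtain ⟨t, ht, h1, h2⟩ := swap_move c.toRed uu hγ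
  obtain ⟨δ, h3⟩ := exists_fix Ω ht
  have tt := zsq (Ω := Ω) ht
  have tu := mem_cent1.1 h1
  have h4 := fix_of_comm ht h3 tu.symm
  have ww := sq_of_two (mul_notMem u2 hZ c ht h1).1
  have w1 : (u * t) • γ = γ := by rw [mul_smul, h2, smul_smul, uu, one_smul]
  have wt : t * (u * t) = u * t * t := by rw [← mul_assoc, tu]
  obtain ⟨s, hs⟩ := exists_cent1 c.toRed ww w1
  have e1 := card_core2 ht (mem_top t) h2 hγ.symm
  have e2 := card_core2 ht (mem_cent1.2 wt) h2 hγ.symm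
  have e3 := card_core2 ht h1 h2 hγ.symm
  have e4 := BW.bw (odd_core (St γ ⊓ St (u • γ))) ((core_normal _ _).norm ⟨w1, show _ = _ by
    rw [smul_smul, mul_assoc, tu, ← mul_assoc, uu, one_mul, h2]⟩) (iso_stab2 ht h2 hγ.symm).normO ww tt
    wt.symm
  rw [ncard_invs ht (mem_cent1.2 wt) h2 hγ.symm hs.1.1 hs.1.2 hs.2, ncard_II_cent ww
    (by rw [mul_smul, h3, h4] : (u * t) • δ = δ) w1, II_cent_mul u2 hZ h4 ⟨⟨ht, h3⟩, h1⟩,
    ncard_II_cent uu h h4, inf_comm] at e2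
  rw [top_inf_eq, ncard_invs_top ht h2 hγ.symm α] at e1
  rw [← ncard_swaps ht h1 h2 hγ.symm, inf_comm] at e3
  have e5 : ∀ X : Subgroup G, X ⊓ 𝐂[u] ⊓ 𝐂[t] = X ⊓ 𝐂[u * t] ⊓ 𝐂[t] := fun X => by
    ext x
    refine and_congr_left fun hx => and_congr_right fun _ => mem_cent1.trans (mem_cent1.trans ?_).symm
    rw [mul_assoc, ← mem_cent1.1 hx, ← mul_assoc, ← mul_assoc, mul_left_inj]
  rw [mul_assoc u, tt, mul_one, e1, e2, e3, e5] at e4
  generalize core {2}ᶜ (St γ ⊓ St (u • γ)) = X at e4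
  refine Nat.eq_of_mul_eq_mul_right (Nat.mul_pos (Nat.card_pos (α := (X ⊓ 𝐂[t] : Subgroup G)))
    (Nat.pow_pos (n := 2) (Nat.card_pos (α := (X ⊓ 𝐂[u * t] ⊓ 𝐂[t] : Subgroup G))))) ?_
  linear_combination e4

theorem cnt [BW] (he : e ∈ II Z α ∩ 𝐂[u]) : ∃ m, (II Z α).ncard = m * (II Z α ∩ 𝐂[u]).ncard ∧
    m * Nat.card Ω + fx Ω u * (II Z α ∩ 𝐂[u]).ncard =
      m * fx Ω u + fx Ω u * fx Ω (u * e) * (II Z α ∩ 𝐂[u]).ncard ∧
    ∀ p : ℕ, p.Prime → p ∣ m → ∃ a ∈ Z, ∃ b ∈ Z, a ∈ 𝐂[u] ∧ b ∈ 𝐂[u] ∧ p ∣ orderOf (a * b) := by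
  haveI := finΩ c.toRed
  have uu := sq_of_two u2
  obtain ⟨γ, hγ⟩ := exists_moved c.toRed (ne_one_of_two u2)
  obtain ⟨β, h1, h2⟩ := fix2 u2 hZ h
  have e1 := ncard_II_eq u2 hZ h hγ
  refine ⟨_, e1, ?_, fun p hp hd => ?_⟩
  · generalize Set.ncard {z | (z ∈ Z ∧ z ∈ 𝐂[u]) ∧ z • γ = u • γ} = m at e1
    have pos : 0 < fx Ω (u * e) := (Set.ncard_pos (Set.toFinite _)).2 ⟨α, by
      rw [Set.mem_ofPred_eq, mul_smul, he.1.2, h]⟩
    have e2 := ncard_double (s := {γ : Ω | u • γ = γ}ᶜ) (t := Z ∩ 𝐂[u]) (m := m)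
      (n := fx Ω (u * e) - 1) (Set.toFinite _) (Set.toFinite _) (fun γ z => z • γ = u • γ)
      (fun γ hγ => Nat.eq_of_mul_eq_mul_right ((Set.ncard_pos (Set.toFinite _)).2 ⟨e, he⟩)
        ((ncard_II_eq u2 hZ h hγ).symm.trans e1)) fun z hz => by
      obtain ⟨n, hn, e2⟩ := exists_conj_cent uu h h2 h1.symm he.1.1 he.2 hz.1 hz.2
      obtain ⟨δ, h3⟩ := exists_fix Ω hz.1
      have h4 := fix_of_comm hz.1 h3 (mem_cent1.1 hz.2).symm
      have h5 : ∀ γ : Ω, (u * z) • γ = γ ↔ z • γ = u • γ := fun γ => by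
        rw [mul_smul, ← eq_inv_smul_iff, inv_of_two u2]
      rw [← fx_conj n, show n * (u * e) * n⁻¹ = u * z by rw [← e2, ← mul_assoc n, mem_cent1.1 hn]; group,
        fx, ← Set.ncard_sdiff_singleton_of_mem (s := {γ | (u * z) • γ = γ}) ((h5 δ).2 (h3.trans h4.symm))]
      congr 1
      ext γ
      refine ⟨fun h6 => ⟨(h5 γ).2 h6.2, fun e3 => h6.1 (e3 ▸ h4)⟩, fun h6 =>
        ⟨fun e3 => h6.2 (fix_unique hz.1 (((h5 γ).1 h6.1).trans e3) h3), (h5 γ).1 h6.1⟩⟩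
    rw [ncard_cent uu h] at e2
    have e3 := Set.ncard_add_ncard_compl {γ : Ω | u • γ = γ}
    obtain ⟨k, hk⟩ := Nat.exists_eq_succ_of_ne_zero pos.ne'
    rw [hk, Nat.succ_sub_one] at e2
    rw [hk, ← e3, Nat.succ_eq_add_one]
    change m * (fx Ω u + _) + _ = _
    linear_combination e2
  · obtain ⟨t, ht, h3, h4⟩ := swap_move c.toRed uu hγ
    have hp2 : p ≠ 2 := fun e2 => Nat.not_even_iff_odd.2 (odd_ncard_II (Z := Z) α)
      (even_iff_two_dvd.2 (e1 ▸ (e2 ▸ hd).mul_right _))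
    have ho : Odd #|𝐂[u] ⊓ core {2}ᶜ (St γ ⊓ St (u • γ))| := odd_of_le (odd_core _) inf_le_right
    have hi := iso_of_odd ho (zsq (Ω := Ω) ht)
      (mem_norm_inf (le_normalizer h3) (iso_stab2 ht h4 hγ.symm).normO)
    obtain ⟨P, hP, -, h5⟩ := hi.exists_sylow hp hp2 bot_le IsPGroup.of_bot (by rw [normalizer_eq_top]; trivial)
    have e2 := hi.ncard_sylow hp hp2 hP h5
    rw [(core_le _ _).antisymm (le_core_of_odd (NormalIn.refl _) ho), ← ncard_swaps ht h3 h4 hγ.symm] at e2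
    obtain ⟨k, hk, k1⟩ := (Set.one_lt_ncard_iff_nontrivial.1 (e2 ▸ Nat.one_lt_pow
      (hp.factorization_pos_of_dvd (fun e3 => (one_lt_ncard_II (Z := Z) α).ne_bot
        (by rw [e1, e3, zero_mul]; rfl)) hd).ne' hp.one_lt)).exists_ne 1
    refine ⟨t, ht, t * k, mul_inv_mem (Ω := Ω) ht hk.2 (odd_orderOf_of_mem ho (hP.le hk.1)), h3,
      mul_mem h3 (hP.le hk.1).1, ?_⟩
    haveI := Fact.mk hp
    obtain ⟨i, hi⟩ := IsPGroup.iff_orderOf.1 hP.isPGroup ⟨k, hk.1⟩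
    rw [← mul_assoc, zsq (Ω := Ω) ht, one_mul, ← Subgroup.orderOf_mk k hk.1, hi]
    exact dvd_pow_self p fun e3 => k1 (by simpa [e3] using hi)

end U

theorem not_good' (hp : p.Prime) (h3 : p ∣ (II Z α).ncard) : ¬ Good Z α p U t := by
  have hp2 : p ≠ 2 := fun e => Nat.not_even_iff_odd.2 (odd_ncard_II (Z := Z) α)
    (even_iff_two_dvd.2 (e ▸ h3))
  refine not_good hp hp2 fun U t hU x hx h4 a ha haN h5 => ?_
  have oU := odd_pgroup hp hp2 hU.pg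
  obtain ⟨y, hy, h6, -⟩ := hU.fix.third x x
  obtain ⟨k, hk, k1⟩ := (Set.one_lt_ncard_iff_nontrivial.1 ((Nat.one_lt_pow (hp.factorization_pos_of_dvd
    (one_lt_ncard_II α).ne_bot h3).ne' hp.one_lt).trans_le hU.big)).exists_ne 1
  exact k1 (eq_one_of_inv hU.tz hk.2 (odd_orderOf_of_mem oU hk.1) ha h5 (mul_inv_eq_iff_eq_mul.1
    (b4 (c.conj a ha k) ha (hx hk.1 ▸ conj_smul_smul h5 k) h5
      (hy (comm_mem_invs (zsq (Ω := Ω) ha) haN hk.1).1) h6)) h4)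

theorem fixK (hp : p.Prime) (h3 : p ∣ (II Z α).ncard) (ht : t ∈ Z) (h1 : t • α = β) (hne : α ≠ β)
    (hP : IsSylowIn p P (St α ⊓ St β)) (hn : t ∈ 𝐍(P)) (h : ∀ k ∈ invs P t, k • γ = γ) :
    γ = α ∨ γ = β := by
  by_contra! h0
  have hp2 : p ≠ 2 := fun e => Nat.not_even_iff_odd.2 (odd_ncard_II (Z := Z) α)
    (even_iff_two_dvd.2 (e ▸ h3))
  refine not_good' (U := P ⊓ (St γ ⊓ St (t • γ))) hp h3 ⟨hP.isPGroup.to_le inf_le_left,
    ⟨α, β, γ, hne, h0.1.symm, h0.2.symm, fun _ hx => (hP.le hx.1).1, fun _ hx => (hP.le hx.1).2,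
      fun _ hx => hx.2.1⟩, ht, mem_norm_inf hn (swap_norm rfl (zsmul ht γ)),
    (n3 hp hp2 ht h1 hne hP hn α).ge.trans (Set.ncard_le_ncard (fun k hk => ⟨⟨hk.1, h k hk, ?_⟩, hk.2⟩)
      (Set.toFinite _))⟩
  show k • _ = _
  rw [← smul_left_cancel_iff t, smul_smul, smul_smul, hk.2, zsmul ht,
    inv_smul_eq_iff, h k hk]

theorem modp (hp : p.Prime) (h3 : p ∣ (II Z α).ncard) : Nat.card Ω ≡ 2 [MOD p] := by
  haveI := finΩ c.toRed
  haveI := c.nontriv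
  obtain ⟨β, hβ⟩ := exists_ne α
  obtain ⟨P, hP⟩ := exists_isSylowIn p (St α ⊓ St β)
  obtain ⟨t, h1, ht, h2, -⟩ := stype c.toRed hp (fun e => Nat.not_even_iff_odd.2
    (odd_ncard_II (Z := Z) α) (even_iff_two_dvd.2 (e ▸ h3))) hβ.symm hP
  have := card_mod (O := (Set.univ : Set Ω)) hp hP.isPGroup (Set.toFinite _) fun _ _ _ _ => trivial
  rwa [Set.ncard_univ, show {x | x ∈ Set.univ ∧ P ≤ St x} = {α, β} from Set.ext fun γ =>
    ⟨fun e => fixK hp h3 ht h2 hβ.symm hP h1 fun _ hk => e.2 hk.1, by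
      rintro (rfl | rfl)
      exacts [⟨trivial, hP.le.trans inf_le_left⟩, ⟨trivial, hP.le.trans inf_le_right⟩]⟩,
    Set.ncard_pair hβ.symm] at this

omit [Finite G] c in
instance instCnt [BW] : Cnt where
  fix1 := fun {_ _} _ _ _ {_} c {_} => fix1 c.toRed
  fix2 := fix2
  swap := fun {_ _} _ _ _ {_} c {_ _ _} => swap_cent c.toRed
  cnt u2 hZ h he := ⟨by rw [II_cent_mul u2 hZ h he], cnt u2 hZ h he⟩
  fixK := fixK
  modp := modp

end Cfsg.Agent.As
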