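import Cfsg.Agent.As.P
import Cfsg.Agent.Sz.Fld

/-! The determinant on a homocyclic group of exponent `4` and odd rank. -/

set_option autoImplicit false
set_option linter.style.haveILetI false

namespace Cfsg.Agent.As.Dt

open Subgroup Cfsg.Agent.H1 Cfsg.Agent.L Cfsg.Agent.FT
open scoped Pointwise commutatorElement

theorem exists_equiv {V : Type} [AddCommGroup V] [Finite V] [Module (ZMod 4) V] {a : ℕ}
    (h2 : Nat.card {x : V // x + x = 0} = 2 ^ a) (h4 : Nat.card V = 4 ^ a) :
    Nonempty ((Fin a → ZMod 4) ≃ₗ[ZMod 4] V) := by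
  let d : V →+ V := AddMonoidHom.id V + AddMonoidHom.id V
  have hd : ∀ x, d x = x + x := fun _ => rfl
  have c1 : Nat.card d.ker = 2 ^ a := h2
  have le : d.range ≤ d.ker := by
    rintro _ ⟨x, rfl⟩
    have : ((4 : ℕ) : ZMod 4) • x = 0 := by rw [ZMod.natCast_self, zero_smul]
    rw [Nat.cast_smul_eq_nsmul] at this
    rw [AddMonoidHom.mem_ker, hd, hd, ← this]; abel
  have c2 : Nat.card d.range = 2 ^ a := by
    have := d.ker.card_mul_index
    rw [AddSubgroup.index_ker, c1, h4, show 4 = 2 * 2 from rfl, mul_pow] at this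
    exact Nat.eq_of_mul_eq_mul_left (by positivity) this
  have eq := AddSubgroup.eq_of_le_of_card_ge le (by rw [c1, c2])
  letI : Module (ZMod 2) d.ker := AddCommGroup.zmodModule fun x => Subtype.ext (by
    rw [two_nsmul]; exact x.2)
  haveI := Fact.mk Nat.prime_two
  have fr : Module.finrank (ZMod 2) d.ker = a := by
    have := Module.natCard_eq_pow_finrank (K := ZMod 2) (V := d.ker)
    rw [c1, Nat.card_zmod] at this
    exact (Nat.pow_right_injective le_rfl this).symm
  let b := Module.finBasisOfFinrankEq (ZMod 2) d.ker fr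
  have hb : ∀ n : Fin a → ℕ, ∑ i, n i • (b i : V) = 0 → ∀ i, 2 ∣ n i := fun n h i =>
    (ZMod.natCast_eq_zero_iff _ _).1 (Fintype.linearIndependent_iff.1 b.linearIndependent
      (fun i => (n i : ZMod 2)) (Subtype.ext (by simpa [Nat.cast_smul_eq_nsmul] using h)) i)
  choose y hy using fun i => eq.ge (b i).2
  let φ : (Fin a → ZMod 4) →ₗ[ZMod 4] V := Fintype.linearCombination (ZMod 4) y
  have inj : Function.Injective φ := (injective_iff_map_eq_zero φ).2 fun c hc => by
    have h0 : ∑ i, (c i).val • y i = 0 := by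
      rw [← hc, Fintype.linearCombination_apply]
      exact Finset.sum_congr rfl fun i _ => by rw [← Nat.cast_smul_eq_nsmul (ZMod 4), ZMod.natCast_zmod_val]
    choose m hm using hb (fun i => (c i).val) (by
      have := congrArg d h0
      simpa only [map_sum, map_nsmul, hy, map_zero] using this)
    choose l hl using hb m (by
      rw [← h0]
      exact Finset.sum_congr rfl fun i _ => by rw [hm, ← hy, hd, mul_nsmul', two_nsmul, smul_add])
    funext i
    rw [← ZMod.natCast_zmod_val (c i), hm, hl, ← mul_assoc, Nat.cast_mul]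
    exact mul_eq_zero_of_left (ZMod.natCast_self 4) _
  exact ⟨LinearEquiv.ofBijective φ (inj.bijective_of_nat_card_le (by simp [h4]))⟩

instance instDet : Det where
  det := fun {G} _ _ {Y E M a} hY hE h2 cE cY ha hM => by
    obtain ⟨V, _, _, π, ρ, p1, p2, p3, p4⟩ := Sz.exists_secRep (bot_le (a := Y))
      (comm_eq_bot_iff.2 hY).le M.subtype (fun m => hM m.2) fun m => norm_bot.ge (mem_top _)
    have p0 : π 1 = 0 := (p2 1 Y.one_mem).2 rfl
    have pi : ∀ x ∈ Y, π x⁻¹ = -π x := fun x hx => eq_neg_of_add_eq_zero_left (by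
      rw [← p1 _ (Y.inv_mem hx) _ hx, inv_mul_cancel, p0])
    have bij : Function.Bijective fun x : Y => π x := ⟨fun x y e => Subtype.ext (inv_mul_eq_one.1
      ((p2 _ (Y.mul_mem (Y.inv_mem x.2) y.2)).1 (by
        rw [p1 _ (Y.inv_mem x.2) _ y.2, pi _ x.2, neg_add_eq_zero]; exact e))),
      fun c => let ⟨x, hx, e⟩ := p3 c; ⟨⟨x, hx⟩, e⟩⟩
    have dd : ∀ x ∈ Y, π x + π x = 0 ↔ x ∈ E := fun x hx => by
      rw [← p1 x hx x hx, p2 _ (Y.mul_mem hx hx), hE, mem_bot, and_iff_right hx]
    letI : Module (ZMod 4) V := AddCommGroup.zmodModule fun c => by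
      obtain ⟨x, hx, rfl⟩ := p3 c
      rw [← (dd _ (Y.mul_mem hx hx)).2 (h2 x hx), p1 x hx x hx]; abel
    obtain ⟨e⟩ := exists_equiv (V := V) (a := a) (by
      rw [← cE]
      refine (Nat.card_eq_of_bijective (fun x : E => (⟨π x, (dd _ ((hE _).1 x.2).1).2 x.2⟩ :
        {x : V // x + x = 0})) ⟨fun x y e => Subtype.ext (Subtype.mk.inj
          (bij.1 (a₁ := ⟨x, ((hE _).1 x.2).1⟩) (a₂ := ⟨y, ((hE _).1 y.2).1⟩) (congrArg Subtype.val e))),
        fun c => ?_⟩).symm
      obtain ⟨x, hx, e⟩ := p3 c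
      exact ⟨⟨x, (dd x hx).1 (e ▸ c.2)⟩, Subtype.ext e⟩) (cY ▸ (Nat.card_eq_of_bijective _ bij).symm)
    haveI := Module.Free.of_equiv e
    haveI : Fact (1 < 4) := ⟨by norm_num⟩
    have fr : Module.finrank (ZMod 4) V = a := by rw [← e.finrank_eq, Module.finrank_fin_fun]
    let r : M →* Module.End (ZMod 4) V :=
      { toFun := fun m => AddMonoidHom.toZModLinearMap 4 (ρ m)
        map_one' := by rw [map_one]; rfl
        map_mul' := fun m n => by rw [map_mul]; rfl }
    let δ := (LinearMap.det.comp r).toHomUnits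
    have hδ : ∀ m : M, (m : G) ∈ mker δ ↔ LinearMap.det (r m) = 1 := fun m =>
      coe_mem_mker.trans Units.ext_iff
    refine ⟨mker δ, mker_le δ, (comm_le_mker_iff le_rfl le_rfl).2 (le_cent_iff.2 fun x _ y _ =>
      mul_comm _ _), fun g hg => (hδ ⟨g, hg.1⟩).2 ?_, fun u hu hi e => ?_⟩
    · rw [show r ⟨g, hg.1⟩ = LinearMap.id from LinearMap.ext fun c => ?_, LinearMap.det_id]
      obtain ⟨x, hx, rfl⟩ := p3 c
      exact (p4 ⟨g, hg.1⟩ x hx).symm.trans (congrArg π (mul_inv_eq_iff_eq_mul.2 (mem_cent.1 hg.2 x hx).symm))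
    · have := (hδ ⟨u, hu⟩).1 e
      rw [show r ⟨u, hu⟩ = (-1 : ZMod 4) • LinearMap.id from LinearMap.ext fun c => ?_,
        LinearMap.det_smul, LinearMap.det_id, fr, ha.neg_one_pow] at this
      · exact absurd this (by decide)
      obtain ⟨x, hx, rfl⟩ := p3 c
      exact (p4 ⟨u, hu⟩ x hx).symm.trans ((congrArg π (hi x hx)).trans ((pi x hx).trans (by simp)))

end Cfsg.Agent.As.Dt
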