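import Cfsg.Agent.As.P
import Cfsg.Agent.Sz.Co

/-! ZD, part 2: Singer cycles. -/

set_option autoImplicit false

namespace Cfsg.Agent.As

open Subgroup Cfsg.Agent.H1 Cfsg.Agent.L Cfsg.Agent.FT Cfsg.Agent.Sg
open Cfsg.Agent.Sz (exists_secRep exists_field rho_mul card_eq_pow_fix mem_zpowers_of_fix dedekind_inj)
open scoped Pointwise commutatorElement

/-- field coordinates on a Singer pair -/
structure Coord {G : Type} [Group G] (E K : Subgroup G) (s : G) (F : Type) [Field F] where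
  ε : F → G
  κ : Fˣ →* G
  char2 : CharP F 2
  ε_add : ∀ x y, ε (x + y) = ε x * ε y
  ε_inj : Function.Injective ε
  ε_mem : ∀ x, ε x ∈ E
  ε_one : ε 1 = s
  ε_surj : ∀ u ∈ E, ∃ x, ε x = u
  κ_mem : ∀ a, κ a ∈ K
  κ_surj : ∀ k ∈ K, ∃ a, κ a = k
  κ_ε : ∀ a x, κ a * ε x * (κ a)⁻¹ = ε (a * x)

variable {G : Type} [Group G] {E K P : Subgroup G} {s g : G}

theorem Sing.exists_coord [Finite G] (h : Sing E K) (hs : s ∈ E) (s1 : s ≠ 1) :
    ∃ (F : Type) (_ : Field F) (_ : Fintype F), Nonempty (Coord E K s F) := by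
  have hn : ∀ d : K, K.subtype d ∈ 𝐍(E) := fun d => h.norm d.2
  obtain ⟨V, _, _, π, ρ, πm, π0, πs, πρ⟩ := exists_secRep (X := E) (Y := ⊥) bot_le
    (comm_eq_bot_iff.2 h.sq.cent).le K.subtype hn (fun _ => by rw [norm_bot]; trivial)
  have πi : ∀ x ∈ E, ∀ y ∈ E, π x = π y → x = y := fun x hx y hy e => by
    have h1 := πm x hx y hy
    rw [e, ← πm y hy y hy, h.sq y hy, (π0 1 E.one_mem).2 (mem_bot.2 rfl),
      π0 _ (E.mul_mem hx hy), mem_bot, ← h.sq y hy] at h1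
    exact mul_right_cancel h1
  have h0 : π s ≠ 0 := fun h => s1 ((π0 _ hs).1 h)
  have htr : ∀ u c, u ≠ 0 → c ≠ 0 → ∃ k : K, ρ k u = c := fun u c hu hc => by
    obtain ⟨x, hx, rfl⟩ := πs c
    obtain ⟨y, hy, rfl⟩ := πs u
    obtain ⟨a, ha, e⟩ := h.tr y hy (fun h => hu ((π0 y hy).2 h)) x hx (fun h => hc ((π0 x hx).2 h))
    exact ⟨⟨a, ha⟩, by rw [← πρ _ _ hy, ← e]; rfl⟩
  obtain ⟨F, _, _, ι, χ, ι1, ιχ⟩ := exists_field ρ
    (fun a b => by
      rw [← map_mul, ← map_mul, show a * b = b * a from Subtype.ext (mem_cent.1 (h.comm b.2) a a.2)])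
    (π s) h0 (fun U hU => by
      rw [or_iff_not_imp_left]
      intro hU0
      obtain ⟨⟨u, hu⟩, u0⟩ := AddSubgroup.ne_bot_iff_exists_ne_zero.1 hU0
      rw [eq_top_iff]
      intro c _
      by_cases hc : c = 0
      · exact hc ▸ U.zero_mem
      obtain ⟨k, rfl⟩ := htr u c (fun h => u0 (Subtype.ext h)) hc
      exact hU k u hu)
  choose e he πe using fun x : F => πs (ι x)
  have e_add : ∀ x y, e (x + y) = e x * e y := fun x y =>
    πi _ (he _) _ (E.mul_mem (he _) (he _)) (by rw [πm _ (he _) _ (he _), πe, πe, πe, map_add])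
  have e_inj : Function.Injective e := fun x y h => ι.injective (by rw [← πe, ← πe, h])
  have e_one : e 1 = s := πi _ (he _) _ hs (by rw [πe, ι1])
  have e0 : e 0 = 1 := by simpa using e_add 0 0
  have P2 : ∀ (k : K) x, k * e x * (k : G)⁻¹ = e (χ k * x) := fun k x =>
    πi _ ((mem_normalizer_iff.1 (hn k) _).1 (he x)) _ (he _)
      (by rw [πe, ιχ, ← πe]; exact πρ k _ (he x))
  have hb : Function.Bijective χ := by
    refine ⟨(injective_iff_map_eq_one χ).2 fun k hk => Subtype.ext (h.free k k.2 s hs s1 ?_),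
      fun a => ?_⟩
    · have := P2 k 1
      rwa [hk, Units.val_one, mul_one, e_one, mul_inv_eq_iff_eq_mul] at this
    · obtain ⟨k, hk, e1⟩ := h.tr s hs s1 (e a) (he a) fun h => a.ne_zero (e_inj (h.trans e0.symm))
      exact ⟨⟨k, hk⟩, Units.ext (e_inj (by rw [← e1, ← e_one, P2 ⟨k, hk⟩, mul_one]))⟩
  let χ' := MulEquiv.ofBijective χ hb
  refine ⟨F, inferInstance, inferInstance, ⟨⟨e, K.subtype.comp χ'.symm.toMonoidHom, ?_, e_add, e_inj,
    he, e_one, fun u hu => ?_, fun a => (χ'.symm a).2, fun k hk => ⟨χ' ⟨k, hk⟩, by simp⟩,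
    fun a x => ?_⟩⟩⟩
  · exact CharTwo.of_one_ne_zero_of_two_eq_zero one_ne_zero
      (e_inj (by rw [← one_add_one_eq_two, e_add, e_one, h.sq s hs, e0]))
  · obtain ⟨x, hx⟩ := ι.surjective (π u)
    exact ⟨x, πi _ (he _) _ hu (by rw [πe, hx])⟩
  · have := P2 (χ'.symm a) x
    rwa [show χ (χ'.symm a) = a from χ'.apply_symm_apply a] at this

namespace Coord

variable {F : Type} [Field F] (c : Coord E K s F)

theorem ε_zero : c.ε 0 = 1 := by simpa using c.ε_add 0 0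

theorem ε_eq_one {x : F} : c.ε x = 1 ↔ x = 0 :=
  ⟨fun h => c.ε_inj (h.trans c.ε_zero.symm), fun h => h ▸ c.ε_zero⟩

theorem κ_inj : Function.Injective c.κ := fun a b h =>
  Units.ext (by simpa using c.ε_inj (show c.ε (a * 1) = c.ε (b * 1) by rw [← c.κ_ε, ← c.κ_ε, h]))

include c in
theorem cyc [Fintype F] : IsCyclic K := by
  have : c.κ.range = K := le_antisymm (by rintro _ ⟨a, rfl⟩; exact c.κ_mem a) c.κ_surj
  exact this ▸ isCyclic_of_surjective c.κ.rangeRestrict c.κ.rangeRestrict_surjective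

theorem exists_σ [Fintype F] (hg : g ∈ 𝐍(E) ⊓ 𝐍(K) ⊓ 𝐂[s]) : ∃ σ : F ≃+* F,
    (∀ x, g * c.ε x * g⁻¹ = c.ε (σ x)) ∧
    ∀ a, g * c.κ a * g⁻¹ = c.κ (Units.map (σ : F →* F) a) := by
  choose f hf using fun x => c.ε_surj _ ((mem_normalizer_iff.1 hg.1.1 _).1 (c.ε_mem x))
  have gs : g * s * g⁻¹ = s := by rw [mem_cent1.1 hg.2]; group
  have key : ∀ a : Fˣ, ∃ b : Fˣ, (b : F) = f a ∧ g * c.κ a * g⁻¹ = c.κ b := fun a => by
    obtain ⟨b, hb⟩ := c.κ_surj _ ((mem_normalizer_iff.1 hg.1.2 _).1 (c.κ_mem a))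
    refine ⟨b, c.ε_inj ?_, hb.symm⟩
    rw [hf, ← mul_one (b : F), ← c.κ_ε, hb, ← mul_one (a : F), ← c.κ_ε, c.ε_one]
    calc _ = g * c.κ a * g⁻¹ * (g * s * g⁻¹) * (g * c.κ a * g⁻¹)⁻¹ := by rw [gs]
      _ = _ := by group
  have f0 : f 0 = 0 := c.ε_inj (by simp [hf, c.ε_zero])
  let σ : F →+* F :=
    { toFun := f
      map_one' := c.ε_inj (by rw [hf, c.ε_one, gs])
      map_zero' := f0
      map_add' := fun x y => c.ε_inj (by rw [c.ε_add, hf, hf, hf, c.ε_add]; group)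
      map_mul' := fun x y => by
        by_cases hx : x = 0
        · simp [hx, f0]
        lift x to Fˣ using Ne.isUnit hx
        obtain ⟨b, hb, e⟩ := key x
        refine c.ε_inj ?_
        rw [← hb, ← c.κ_ε, ← e, hf, hf, ← c.κ_ε]; group }
  refine ⟨RingEquiv.ofBijective σ (Finite.injective_iff_bijective.1 σ.injective),
    fun x => (hf x).symm, fun a => ?_⟩
  obtain ⟨b, hb, e⟩ := key a
  rw [e]; exact congrArg _ (Units.ext hb)

theorem σ_pow {σ : F ≃+* F} (h : ∀ x, g * c.ε x * g⁻¹ = c.ε (σ x)) (n : ℕ) (x : F) :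
    g ^ n * c.ε x * (g ^ n)⁻¹ = c.ε ((σ ^ n) x) := by
  induction n with
  | zero => simp
  | succ n ih =>
    rw [pow_succ', pow_succ', RingAut.mul_apply, ← h, ← ih]; group

theorem mem_cent_iff : g ∈ 𝐂(E) ↔ ∀ x, g * c.ε x * g⁻¹ = c.ε x := by
  refine ⟨fun h x => by rw [← mem_cent.1 h _ (c.ε_mem x)]; group, fun h => mem_cent.2 fun u hu => ?_⟩
  obtain ⟨x, rfl⟩ := c.ε_surj u hu
  exact (mul_inv_eq_iff_eq_mul.1 (h x)).symm

theorem σ_eq_one {σ : F ≃+* F} (h : ∀ x, g * c.ε x * g⁻¹ = c.ε (σ x)) : g ∈ 𝐂(E) ↔ σ = 1 :=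
  c.mem_cent_iff.trans ⟨fun h' => RingEquiv.ext fun x => c.ε_inj (by rw [← h, h']; rfl),
    fun h' x => by rw [h, h']; rfl⟩

include c in
theorem card_E [Fintype F] : #|E| = Fintype.card F := by
  rw [← Nat.card_eq_fintype_card]
  exact (Nat.card_congr (Equiv.ofBijective (fun x : F => (⟨c.ε x, c.ε_mem x⟩ : E))
    ⟨fun x y h => c.ε_inj (congrArg Subtype.val h), fun u =>
      (c.ε_surj u u.2).imp fun _ => Subtype.ext⟩)).symm

theorem card_fix {σ : F ≃+* F} (h : ∀ x, g * c.ε x * g⁻¹ = c.ε (σ x)) :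
    #|E ⊓ 𝐂[g]| = Nat.card {x : F // σ x = x} := by
  refine (Nat.card_congr (Equiv.ofBijective (fun x : {x : F // σ x = x} =>
    (⟨c.ε x, c.ε_mem _, ?_⟩ : ↥(E ⊓ 𝐂[g])))
    ⟨fun x y h => Subtype.ext (c.ε_inj (congrArg Subtype.val h)), fun u => ?_⟩)).symm
  · have := h x
    rw [x.2, mul_inv_eq_iff_eq_mul] at this
    exact mem_cent1.2 this.symm
  · obtain ⟨x, hx⟩ := c.ε_surj u u.2.1
    exact ⟨⟨x, c.ε_inj (by rw [← h, hx, ← mem_cent1.1 u.2.2]; group)⟩, Subtype.ext hx⟩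

theorem card_fixK [Fintype F] {σ : F ≃+* F}
    (h : ∀ a, g * c.κ a * g⁻¹ = c.κ (Units.map (σ : F →* F) a)) :
    #|K ⊓ 𝐂[g]| + 1 = Nat.card {x : F // σ x = x} := by
  classical
  have e1 : #|K ⊓ 𝐂[g]| = Nat.card {a : Fˣ // σ a = a} := by
    refine (Nat.card_congr (Equiv.ofBijective (fun a : {a : Fˣ // σ a = a} =>
      (⟨c.κ a, c.κ_mem _, ?_⟩ : ↥(K ⊓ 𝐂[g])))
      ⟨fun x y h => Subtype.ext (c.κ_inj (congrArg Subtype.val h)), fun u => ?_⟩)).symm
    · have := h a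
      rw [show Units.map (σ : F →* F) a = a from Units.ext a.2, mul_inv_eq_iff_eq_mul] at this
      exact mem_cent1.2 this.symm
    · obtain ⟨a, ha⟩ := c.κ_surj u u.2.1
      refine ⟨⟨a, ?_⟩, Subtype.ext ha⟩
      have : c.κ (Units.map (σ : F →* F) a) = c.κ a := by
        rw [← h, ha, ← mem_cent1.1 u.2.2]; group
      exact congrArg Units.val (c.κ_inj this)
  rw [e1, ← Finite.card_option]
  refine Nat.card_congr (Equiv.ofBijective (fun o => o.elim ⟨0, map_zero σ⟩ fun a => ⟨a.1, a.2⟩)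
    ⟨?_, fun x => ?_⟩)
  · rintro (_ | a) (_ | b) e
    · rfl
    · exact (b.1.ne_zero (congrArg Subtype.val e).symm).elim
    · exact (a.1.ne_zero (congrArg Subtype.val e)).elim
    · exact congrArg some (Subtype.ext (Units.ext (congrArg Subtype.val e)))
  · by_cases hx : (x : F) = 0
    · exact ⟨none, Subtype.ext hx.symm⟩
    · exact ⟨some ⟨Units.mk0 x hx, x.2⟩, rfl⟩

end Coord

theorem cyc_ringAut (F : Type) [Field F] [Fintype F] [CharP F 2] : IsCyclic (F ≃+* F) := by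
  refine ⟨⟨frobeniusEquiv F 2, fun τ => mem_zpowers_of_fix _ τ fun x hx => ?_⟩⟩
  rw [frobeniusEquiv_def] at hx
  by_cases h : x = 0
  · rw [h, map_zero]
  · rw [show x = 1 from mul_left_cancel₀ h (by rw [← sq, hx, mul_one]), map_one]

theorem hilbert90 {F : Type} [Field F] {σ : F ≃+* F} {l : ℕ} (hl : orderOf σ = l) (h0 : 0 < l)
    (T : F →+ F) {δ : F} (hδ : δ ≠ 0) (hT : ∀ x, T x = δ * σ x) (hl' : ∀ x, T^[l] x = x) :
    ∃ x, x ≠ 0 ∧ T x = x := by
  have h1 : ∀ i : ℕ, ∃ d, d ≠ 0 ∧ ∀ x, T^[i] x = d * (σ ^ i) x := fun i => by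
    induction i with
    | zero => exact ⟨1, one_ne_zero, fun x => by simp⟩
    | succ i ih =>
      obtain ⟨d, h, h'⟩ := ih
      exact ⟨δ * σ d, mul_ne_zero hδ ((map_ne_zero σ).2 h), fun x => by
        rw [Function.iterate_succ_apply', h', hT, pow_succ', RingAut.mul_apply, map_mul, mul_assoc]⟩
  choose d hd hd' using h1
  by_contra hcon
  push Not at hcon
  refine hd 0 (dedekind_inj (fun i : Fin l => ((σ ^ (i : ℕ) : F ≃+* F) : F →* F)) (fun i j e => ?_)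
    (fun i => d i) (fun x => ?_) ⟨0, h0⟩)
  · refine Fin.ext (pow_injOn_Iio_orderOf (x := σ) (hl ▸ i.2) (hl ▸ j.2) ?_)
    exact RingEquiv.ext fun x => DFunLike.congr_fun e x
  · by_contra h
    refine hcon _ h ?_
    have : ∀ i : Fin l, d i * ((σ ^ (i : ℕ) : F ≃+* F) : F →* F) x = T^[i] x := fun i => (hd' i x).symm
    simp only [this]
    rw [map_sum, Fin.sum_univ_eq_sum_range (fun i => T (T^[i] x)),
      Fin.sum_univ_eq_sum_range (fun i => T^[i] x)]
    have h2 := Finset.sum_range_succ' (fun i => T^[i] x) l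
    rw [Finset.sum_range_succ, hl'] at h2
    simp only [Function.iterate_succ_apply', Function.iterate_zero_apply] at h2
    exact (add_right_cancel h2).symm

instance instFld : Fld where
  cyc := fun {G} _ _ {E K} h => by
    obtain ⟨⟨s, hs⟩, s1⟩ := ne_bot_iff_exists_ne_one.1 h.ne
    obtain ⟨F, _, _, ⟨c⟩⟩ := h.exists_coord hs fun e => s1 (Subtype.ext e)
    exact c.cyc
  gal := fun {G} _ _ {E K P e} h he e1 hP => by
    obtain ⟨F, _, _, ⟨c⟩⟩ := h.exists_coord he e1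
    haveI := c.char2
    haveI := cyc_ringAut F
    haveI : Finite (F ≃+* F) := Finite.of_injective (fun f : F ≃+* F => (f : F → F))
      DFunLike.coe_injective
    let H : Subgroup (F ≃+* F) :=
      { carrier := {σ | ∃ g ∈ P, ∀ x, g * c.ε x * g⁻¹ = c.ε (σ x)}
        one_mem' := ⟨1, one_mem _, fun x => by simp⟩
        mul_mem' := fun {σ τ} ⟨g, hg, h⟩ ⟨g', hg', h'⟩ => ⟨g * g', mul_mem hg hg', fun x => by
          rw [RingAut.mul_apply, ← h, ← h']; group⟩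
        inv_mem' := fun {σ} ⟨g, hg, h⟩ => ⟨g⁻¹, inv_mem hg, fun x => by
          have := h (σ⁻¹ x)
          rw [← RingAut.mul_apply, mul_inv_cancel, RingAut.one_apply] at this
          rw [← this]; group⟩ }
    obtain ⟨⟨σ, g, hg, hσ⟩, hgen⟩ := IsCyclic.exists_monoid_generator (α := H)
    refine ⟨g, hg, fun x hx => ?_⟩
    obtain ⟨τ, hτ, -⟩ := c.exists_σ (hP hx)
    obtain ⟨n, hn⟩ := hgen ⟨τ, x, hx, hτ⟩
    have hn' : σ ^ n = τ := congrArg Subtype.val hn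
    refine ⟨n, c.mem_cent_iff.2 fun y => ?_⟩
    obtain ⟨z, rfl⟩ := τ.surjective y
    conv_lhs => rw [← hn', ← c.σ_pow hσ]
    rw [← hτ]; group
  h90 := fun {G} _ _ {E K g l} h hl hg hgl h0 => by
    obtain ⟨⟨s, hs⟩, s1⟩ := ne_bot_iff_exists_ne_one.1 h.ne
    replace s1 : s ≠ 1 := fun e => s1 (Subtype.ext e)
    obtain ⟨F, _, _, ⟨c⟩⟩ := h.exists_coord hs s1
    obtain ⟨k, hk, e⟩ := h.tr s hs s1 _ ((mem_normalizer_iff.1 hg.1 _).1 hs)
      (fun e => s1 (by simpa [mul_inv_eq_iff_eq_mul] using e))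
    obtain ⟨σ, hσ, -⟩ := c.exists_σ (g := k⁻¹ * g) ⟨⟨𝐍(E).mul_mem (inv_mem (h.norm hk)) hg.1,
      𝐍(K).mul_mem (inv_mem (le_normalizer hk)) hg.2⟩, mem_cent1.2 (by
        rw [mul_assoc, show g * s = k * s * k⁻¹ * g by rw [e]; group]; group)⟩
    refine ⟨k, hk, (c.σ_eq_one hσ).2 (by_contra fun h1 => ?_)⟩
    obtain ⟨δ, rfl⟩ := c.κ_surj k hk
    let T : F →+ F := AddMonoidHom.mk' (fun x => δ * σ x) fun x y => by rw [map_add, mul_add]
    have hT : ∀ x, g * c.ε x * g⁻¹ = c.ε (T x) := fun x => by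
      change _ = c.ε (δ * σ x)
      rw [← c.κ_ε, ← hσ]; group
    have hTi : ∀ (n : ℕ) x, g ^ n * c.ε x * (g ^ n)⁻¹ = c.ε (T^[n] x) := fun n x => by
      induction n with
      | zero => simp
      | succ n ih => rw [Function.iterate_succ_apply', ← hT, ← ih, pow_succ']; group
    have hTl : ∀ x, T^[l] x = x := fun x => c.ε_inj (by rw [← hTi, c.mem_cent_iff.1 hgl])
    have h2 : ∀ (i : ℕ) x, T^[i] x = T^[i] 1 * (σ ^ i) x := fun i x => by
      induction i with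
      | zero => simp
      | succ i ih =>
        rw [Function.iterate_succ_apply', ih, Function.iterate_succ_apply', pow_succ',
          RingAut.mul_apply]
        change δ * σ _ = δ * σ _ * _
        rw [map_mul, mul_assoc]
    haveI := Fact.mk hl
    obtain ⟨x, x0, hx⟩ := hilbert90 (orderOf_eq_prime (p := l) (RingEquiv.ext fun x => by
      have := h2 l x
      rw [hTl, hTl, one_mul] at this
      exact this.symm) h1) hl.pos T δ.ne_zero (fun _ => rfl) hTl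
    have : c.ε x ∈ E ⊓ 𝐂[g] := ⟨c.ε_mem x, mem_cent1.2 (by
      have := hT x
      rw [hx, mul_inv_eq_iff_eq_mul] at this
      exact this.symm)⟩
    rw [h0, mem_bot, c.ε_eq_one] at this
    exact x0 this
  fix := fun {G} _ _ {E K e g l} h he e1 hl hg hgl hg1 => by
    obtain ⟨F, _, _, ⟨c⟩⟩ := h.exists_coord he e1
    obtain ⟨σ, hσ, hκ⟩ := c.exists_σ hg
    haveI := Fact.mk hl
    rw [c.card_fix hσ, c.card_fixK hκ, c.card_E, card_eq_pow_fix σ,
      orderOf_eq_prime ((c.σ_eq_one (c.σ_pow hσ l)).1 hgl) fun e => hg1 ((c.σ_eq_one hσ).2 e)]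
    exact ⟨rfl, rfl⟩

end Cfsg.Agent.As
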