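import Cfsg.Agent.Be.I
import Cfsg.Agent.FT.Basic4
import Cfsg.Prelude.Def_TwoFusion

/-! Interface for Aschbacher's criterion (S1175) and its consequence S1174. -/

set_option autoImplicit false

namespace Cfsg.Agent.As

open Subgroup Cfsg.Agent.H1 Cfsg.Agent.L Cfsg.Agent.FT
open scoped Pointwise commutatorElement

/-- Theorem ZD (S1175), universe `0` -/
class ZD : Prop where
  se : ∀ {G : Type} [Group G] [Finite G] [IsSimpleGroup G] (M : Subgroup G) (z : G), M ≠ ⊤ →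
    orderOf z = 2 → z ∈ M → (∃ S : Sylow 2 G, z ∈ S ∧ ∀ s ∈ S, Commute s z) →
    (∀ g : G, g * z * g⁻¹ ∈ M → g ∈ M) →
    (∀ g : G, Commute z (g * z * g⁻¹) → g * z * g⁻¹ ≠ z → 𝐂[z * (g * z * g⁻¹)] ≤ M) →
    ∃ H : Subgroup G, IsStronglyEmbedded H

/-- S1174 for abelian `T`, universe `0` (what Goldschmidt's theorem needs) -/
class ZA : Prop where
  se : ∀ {G : Type} [Group G] [Finite G] [IsSimpleGroup G] (S : Sylow 2 G) (T M : Subgroup G),
    T ≠ ⊥ → IsElementaryAbelian 2 T → IsStronglyClosed T (S : Subgroup G) → M ≠ ⊤ →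
    (∀ t ∈ T, t ≠ 1 → 𝐂[t] ≤ M) → ∃ H : Subgroup G, IsStronglyEmbedded H

variable {G : Type*} [Group G] [Finite G]

theorem zd [h : ZD] [IsSimpleGroup G] (M : Subgroup G) (hM : M ≠ ⊤) (z : G) (hz : orderOf z = 2)
    (hzM : z ∈ M) (h1 : ∃ S : Sylow 2 G, z ∈ S ∧ ∀ s ∈ S, Commute s z)
    (h2 : ∀ g : G, g * z * g⁻¹ ∈ M → g ∈ M)
    (h3 : ∀ g : G, Commute z (g * z * g⁻¹) → g * z * g⁻¹ ≠ z → 𝐂[z * (g * z * g⁻¹)] ≤ M) :
    ∃ H : Subgroup G, IsStronglyEmbedded H := by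
  obtain ⟨K, _, _, ⟨e⟩⟩ := Be.exists_small G
  have : IsSimpleGroup K := e.symm.isSimpleGroup
  obtain ⟨S, hS, hc⟩ := h1
  obtain ⟨H, hH⟩ := h.se (M.comap e.symm.toMonoidHom) (e z)
    (fun h => hM (eq_top_iff.2 fun x _ => by
      have : e x ∈ M.comap e.symm.toMonoidHom := h ▸ mem_top _
      simpa using this))
    (by rw [e.orderOf_eq, hz]) (by simpa using hzM)
    ⟨S.mapSurjective (f := e.toMonoidHom) e.surjective, ⟨z, hS, rfl⟩, by
      rintro _ ⟨s, hs, rfl⟩; exact (hc s hs).map e⟩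
    (fun g hg => h2 _ (by simpa using hg))
    (fun g h4 h5 x hx => h3 (e.symm g) (by simpa using h4.map e.symm)
      (fun h => h5 (e.symm.injective (by simpa using h)))
      (mem_cent1.2 (by simpa using congrArg e.symm (mem_cent1.1 hx))))
  exact ⟨_, Be.SE_map e.symm.toMonoidHom e.symm.surjective hH
    (by rw [(MonoidHom.ker_eq_bot_iff _).2 e.symm.injective]; exact bot_le)
    (by rw [(MonoidHom.ker_eq_bot_iff _).2 e.symm.injective]; simp)⟩

/-- S1174 from S1175 -/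
theorem s1174 [ZD] [IsSimpleGroup G] (S : Sylow 2 G) (T : Subgroup G) (hT1 : T ≠ ⊥)
    (hT : IsStronglyClosed T (S : Subgroup G))
    (hprop : (⨆ t : {t : G // t ∈ T ∧ orderOf t = 2}, 𝐂[(t : G)]) ≠ ⊤) :
    ∃ H : Subgroup G, IsStronglyEmbedded H := by
  set Γ := ⨆ t : {t : G // t ∈ T ∧ orderOf t = 2}, 𝐂[(t : G)] with hΓ
  have le : ∀ t ∈ T, orderOf t = 2 → 𝐂[t] ≤ Γ := fun t ht t2 =>
    le_iSup (fun t : {t : G // t ∈ T ∧ orderOf t = 2} => 𝐂[(t : G)]) ⟨t, ht, t2⟩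
  have nT : ∀ g ∈ 𝐍((S : Subgroup G)), ∀ t ∈ T, g * t * g⁻¹ ∈ T := fun g hg t ht =>
    hT.2 t ht g (conj_mem_of_mem_normalizer hg (hT.1 ht))
  have nΓ : 𝐍((S : Subgroup G)) ≤ 𝐍(Γ) := le_norm_of_conj fun g hg => by
    rw [conj_le_iff, hΓ]
    refine iSup_le fun t => ?_
    rw [← conj_le_iff, conj_cent1]
    exact le _ (nT g hg _ t.2.1) (by rw [orderOf_conj', t.2.2])
  have hp : IsPGroup 2 T := S.2.to_le hT.1
  obtain ⟨z, hz, z2⟩ := exists_mem_orderOf_eq Nat.prime_two (pgroup_dvd_card Nat.prime_two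
    (hp.to_le inf_le_left) (inf_cent_ne_bot_of_pgroup Nat.prime_two hp S.2
      (le_norm_iff.2 fun g hg => nT g (le_normalizer hg)) hT1))
  have Sz : (S : Subgroup G) ≤ 𝐂[z] := le_cent1_iff.2 hz.2
  have SΓ := Sz.trans (le z hz.1 z2)
  have syl : ∀ X : Subgroup G, (S : Subgroup G) ≤ X → IsSylowIn 2 (S : Subgroup G) X :=
    fun X hX => (isSylowIn_top S).of_le hX le_top
  have key : ∀ g : G, g * z * g⁻¹ ∈ T → g ∈ 𝐍(Γ) := fun g hg => by
    obtain ⟨c, hc, e⟩ := sylow_exists_conj_le Nat.prime_two (syl Γ SΓ) (X := g ⋆ (S : Subgroup G))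
      ((conj_mono g Sz).trans (by rw [conj_cent1]; exact le _ hg (by rw [orderOf_conj', z2])))
      (pgroup_conj S.2 g)
    rw [← mul_conj] at e
    exact (mul_mem_cancel_left (le_normalizer hc)).1 (nΓ (mem_norm_of_conj_le e))
  have zz : ∀ g : G, IsPGroup 2 (zpowers (g * z * g⁻¹)) := fun g =>
    pgroup_of_card_prime (by rw [Nat.card_zpowers, orderOf_conj', z2])
  have ne : 𝐍(Γ) ≠ ⊤ := fun e => by
    rcases (normalizer_eq_top_iff.1 e).eq_bot_or_eq_top with h | h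
    · exact hT1 (eq_bot_iff.2 (h ▸ hT.1.trans SΓ))
    · exact hprop h
  refine zd 𝐍(Γ) ne z z2 (le_normalizer (SΓ (hT.1 hz.1))) ⟨S, hT.1 hz.1, fun s hs => hz.2 s hs⟩
    (fun g hg => ?_) fun g hc hne => ?_
  · obtain ⟨m, hm, e⟩ := sylow_exists_conj_le Nat.prime_two (syl _ (SΓ.trans le_normalizer))
      (zpowers_le.2 hg) (zz g)
    rw [conj_zpowers, zpowers_le] at e
    have e' : (m * g) * z * (m * g)⁻¹ ∈ (S : Subgroup G) := by simpa [mul_assoc] using e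
    exact (mul_mem_cancel_left hm).1 (key _ (hT.2 z hz.1 _ e'))
  · obtain ⟨c, hc', e⟩ := sylow_exists_conj_le Nat.prime_two (syl _ Sz)
      (zpowers_le.2 (mem_cent1.2 hc.eq.symm)) (zz g)
    rw [conj_zpowers, zpowers_le] at e
    have e' : (c * g) * z * (c * g)⁻¹ ∈ (S : Subgroup G) := by simpa [mul_assoc] using e
    have h1 := T.mul_mem hz.1 (hT.2 z hz.1 _ e')
    have h2 : z * (c * g * z * (c * g)⁻¹) = c * (z * (g * z * g⁻¹)) * c⁻¹ := by
      simp only [← mul_assoc, mem_cent1.1 hc', mul_inv_rev]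
    have zz' := Be.sq_of_two z2
    have h3 : orderOf (z * (g * z * g⁻¹)) = 2 := Be.two_of_sq (by
      rw [mul_assoc, ← mul_assoc (g * z * g⁻¹), ← hc.eq]; simp [mul_assoc, ← mul_assoc z z, zz'])
      fun h => hne (by rw [eq_inv_of_mul_eq_one_right h, inv_eq_of_mul_eq_one_right zz'])
    have h4 := le _ h1 (by rw [h2, orderOf_conj', h3])
    rw [h2, ← conj_cent1, conj_le_iff, conj_of_mem (Γ.inv_mem (le z hz.1 z2 hc'))] at h4
    exact h4.trans le_normalizer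

instance zaOfZd [ZD] : ZA where
  se := fun S T _ h1 _ hT hM h => s1174 S T h1 hT fun e => hM (top_le_iff.1 (e ▸ iSup_le fun t =>
    h t t.2.1 (Be.ne_one_of_two t.2.2)))

theorem za [h : ZA] [IsSimpleGroup G] (S : Sylow 2 G) (T M : Subgroup G) (h1 : T ≠ ⊥)
    (he : IsElementaryAbelian 2 T) (hT : IsStronglyClosed T (S : Subgroup G)) (hM : M ≠ ⊤)
    (hc : ∀ t ∈ T, t ≠ 1 → 𝐂[t] ≤ M) : ∃ H : Subgroup G, IsStronglyEmbedded H := by
  obtain ⟨K, _, _, ⟨e⟩⟩ := Be.exists_small G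
  have : IsSimpleGroup K := e.symm.isSimpleGroup
  obtain ⟨H, hH⟩ := h.se (S.mapSurjective (f := e.toMonoidHom) e.surjective) (T.map e.toMonoidHom)
    (M.comap e.symm.toMonoidHom) (fun h => h1 ((map_eq_bot_iff_of_injective _ e.injective).1 h))
    (abelem_map he _) ⟨map_mono hT.1, by
      rintro _ ⟨t, ht, rfl⟩ g ⟨s, hs, e'⟩
      have : s = e.symm g * t * (e.symm g)⁻¹ := e.injective (by simpa using e')
      exact ⟨s, this ▸ hT.2 t ht _ (this ▸ hs), e'⟩⟩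
    (fun h => hM (eq_top_iff.2 fun x _ => by
      have : e x ∈ M.comap e.symm.toMonoidHom := h ▸ mem_top _
      simpa using this))
    (by
      rintro _ ⟨t, ht, rfl⟩ h x hx
      exact hc t ht (fun h' => h (by simp [h'])) (mem_cent1.2
        (by simpa using congrArg e.symm (mem_cent1.1 hx))))
  exact ⟨_, Be.SE_map e.symm.toMonoidHom e.symm.surjective hH
    (by rw [(MonoidHom.ker_eq_bot_iff _).2 e.symm.injective]; exact bot_le)
    (by rw [(MonoidHom.ker_eq_bot_iff _).2 e.symm.injective]; simp)⟩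

end Cfsg.Agent.As
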