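import Cfsg.Agent.As.I
import Cfsg.Agent.Be.P1M

/-! Interface for the proof of `ZD` (see notes/zd.md): the minimal counterexample and the slices. -/

set_option autoImplicit false

namespace Cfsg.Agent.As

open Subgroup MulAction Cfsg.Agent.H1 Cfsg.Agent.L Cfsg.Agent.FT

section Defs
variable {G : Type} [Group G]

/-- the inherited hypothesis -/
class Hyp (Ω : Type) [MulAction G Ω] (Z : Set G) : Prop where
  two : ∀ a ∈ Z, orderOf a = 2
  conj : ∀ a ∈ Z, ∀ g : G, g * a * g⁻¹ ∈ Z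
  fix1 : ∀ a ∈ Z, ∃! α : Ω, a • α = α
  odd : ∀ a ∈ Z, ∀ b ∈ Z, ∀ α β : Ω, a • α = α → (a * b) • β = β → β ≠ α → Odd (orderOf (a * b))

/-- `H` contains two distinct commuting elements of `Z` -/
def FourZ (Z : Set G) (H : Subgroup G) : Prop :=
  ∃ a ∈ H, ∃ b ∈ H, a ∈ Z ∧ b ∈ Z ∧ a ≠ b ∧ Commute a b

/-- the reduced situation -/
class Red (Ω : Type) [MulAction G Ω] (Z : Set G) : Prop extends Hyp Ω Z where
  faith : ∀ g : G, (∀ α : Ω, g • α = α) → g = 1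
  trans : IsPretransitive G Ω
  nontriv : Nontrivial Ω
  gen : closure Z = ⊤
  four : FourZ Z ⊤

/-- the minimal counterexample -/
class Ctx (Ω : Type) [MulAction G Ω] (Z : Set G) : Prop extends Red Ω Z where
  ind : ∀ (K : Type) [Group K] [Finite K] (Δ : Type) [MulAction K Δ] (Y : Set K),
    Nat.card K < Nat.card G → Red Δ Y → ∀ δ : Δ, IsStronglyEmbedded (stabilizer K δ)

/-- `Z ∪ {1}` is closed under products of commuting elements -/
class Clo (Z : Set G) : Prop where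
  mul : ∀ a ∈ Z, ∀ b ∈ Z, a ≠ b → Commute a b → a * b ∈ Z

/-- a proper subgroup contains all elements of `Z` fixing `m` and moves `m` -/
def Full (Ω : Type) [MulAction G Ω] (Z : Set G) : Prop :=
  ∃ (M : Subgroup G) (m : Ω), M ≠ ⊤ ∧ (∀ a ∈ Z, a • m = m → a ∈ M) ∧ ¬ M ≤ stabilizer G m

end Defs

/-- slice T -/
class PropT : Prop where
  full : ∀ {G Ω : Type} [Group G] [Finite G] [MulAction G Ω] {Z : Set G} [Ctx Ω Z] [Clo Z] {p : ℕ}
    {a : G} {δ φ : Ω} {U : Subgroup G}, p.Prime → p ≠ 2 → a ∈ Z → a • δ = δ → φ ≠ δ →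
    IsSylowIn p U (stabilizer G φ ⊓ stabilizer G (a • φ)) → a ∈ 𝐍(U) → U ≤ stabilizer G δ →
    a ∉ 𝐂(U) → Full Ω Z

/-- slice L -/
class PropL : Prop where
  full : ∀ {G Ω : Type} [Group G] [Finite G] [MulAction G Ω] {Z : Set G} [Ctx Ω Z] [Clo Z] {p : ℕ}
    {t : G} {δ : Ω} {R : Subgroup G}, p.Prime → p ≠ 2 → IsPGroup p R →
    FourZ Z (𝐍(R) ⊓ stabilizer G δ) → ¬ 𝐍(R) ≤ stabilizer G δ → t ∈ Z → t ∈ 𝐍(R) → t ∉ 𝐂(R) →
    Full Ω Z

/-- the output of Part 1 -/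
class Part1 : Prop where
  clo : ∀ {G Ω : Type} [Group G] [Finite G] [MulAction G Ω] {Z : Set G}, Ctx Ω Z → Clo Z
  simple : ∀ {G Ω : Type} [Group G] [Finite G] [MulAction G Ω] {Z : Set G}, Ctx Ω Z → IsSimpleGroup G
  b4 : ∀ {G Ω : Type} [Group G] [Finite G] [MulAction G Ω] {Z : Set G} [Ctx Ω Z] {a b : G} {α β : Ω},
    a ∈ Z → b ∈ Z → a • α = α → b • α = α → (a * b) • β = β → β ≠ α → a = b
  tr2 : ∀ {G Ω : Type} [Group G] [Finite G] [MulAction G Ω] {Z : Set G}, Ctx Ω Z → ∀ {α β γ : Ω},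
    β ≠ α → γ ≠ α → ∃ g : G, g • α = α ∧ g • β = γ

/-- the output of Part 2 (may use `[Be.BeI] [Part1]`) -/
class Part2 : Prop where
  fix : ∀ {G Ω : Type} [Group G] [Finite G] [MulAction G Ω] {Z : Set G}, Ctx Ω Z → ∀ {u : G} {α β : Ω},
    orderOf u = 2 → u • α = α → u • β = β → α = β

end Cfsg.Agent.As
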