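import Cfsg.Agent.As.A2
import Cfsg.Agent.Be.L2

/-! Slice L of notes/zd1.md, part 1: proper subgroups of Bender type and the group `Ê`. -/

set_option autoImplicit false
set_option maxHeartbeats 400000

namespace Cfsg.Agent.As.PL

open Subgroup MulAction Cfsg.Agent.H1 Cfsg.Agent.L Cfsg.Agent.FT Cfsg.Agent.FT.B1
open Cfsg.Agent.Be (odd_orderOf_of_mem conj_smul_smul sol_odd)
open Cfsg.Agent.Be.PL (Oc odd_Oc le_Oc odd_pgroup mem_norm_inf mem_of_odd_pow)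
open Cfsg.Agent.Be.P1 (conj_st)
open scoped Pointwise commutatorElement

variable {G Ω : Type} [Group G] [Finite G] [MulAction G Ω] {Z : Set G}
variable {H N X S P : Subgroup G} {δ : Ω} {a b g x y : G} {p : ℕ}

local notation "St" => stabilizer G

theorem four_frattini [c : Hyp Ω Z] (hp : p.Prime) (hX : Odd #|X|) (hXH : X ≤ St δ)
    (h4 : FourZ Z (𝐍(X) ⊓ St δ)) (hP : IsSylowIn p P X) : FourZ Z (𝐍(P) ⊓ St δ) := by
  have := Fact.mk hp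
  obtain ⟨a, ha, b, hb, a2, b2, hne, hc⟩ := h4
  have h2 : IsPGroup 2 (zpowers a ⊔ zpowers b : Subgroup G) :=
    pgroup_sup (pgroup_of_card_prime (by rw [Nat.card_zpowers, c.two a a2]))
      (pgroup_of_card_prime (by rw [Nat.card_zpowers, c.two b b2]))
      (.inl (le_norm_zpowers_of_cent (zpowers_le.2 (mem_cent1.2 hc.eq))))
  obtain ⟨Q, hQ, hn⟩ := exists_invariant_isSylowIn p (sup_le (zpowers_le.2 ha.1) (zpowers_le.2 hb.1))
    (pgroup_coprime Nat.prime_two h2 fun h => Nat.not_even_iff_odd.2 hX (even_iff_two_dvd.2 h))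
    (.inl (sol_of_pgroup Nat.prime_two h2))
  obtain ⟨g, hg, rfl⟩ := sylow_exists_conj_eq hp hQ hP
  have := FourZ.conj (N := 𝐍(Q) ⊓ St δ) ⟨a, ⟨hn (mem_sup_left (mem_zpowers a)), ha.2⟩, b,
    ⟨hn (mem_sup_right (mem_zpowers b)), hb.2⟩, a2, b2, hne, hc⟩ Ω g
  rwa [conj_inf, conj_norm, conj_of_mem (hXH hg)] at this

/-- a proper subgroup of Bender type -/
structure Bt (Z : Set G) (N : Subgroup G) (δ : Ω) : Prop where
  ne_top : N ≠ ⊤
  four : FourZ Z (N ⊓ St δ)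
  nle : ¬ N ≤ St δ

namespace Bt
variable [c : Ctx Ω Z] (h : Bt Z N δ)
include h

theorem Oc_le : Oc N ≤ St δ := core_le_stab h.four

omit [Finite G] in
theorem smul (hg : g ∈ N) : Bt Z N (g • δ) := by
  refine ⟨h.ne_top, h.four.smul hg, fun e => h.nle ?_⟩
  rwa [← conj_st, le_conj_iff, conj_of_mem (N.inv_mem hg)] at e

variable [Be.BeI]

theorem sq (ha : a ∈ Z) (hb : b ∈ Z) (h1 : a ∈ N ⊓ St δ) (h2 : b ∈ N ⊓ St δ) :
    a * b * (a * b) ∈ Oc N :=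
  BT.sq_mul_mem ⟨h.ne_top, h.four, h.nle⟩ ha h1.1 h1.2 hb h2.1 h2.2

theorem tr2 (hx : x ∈ N) (hy : y ∈ N) (h1 : x • δ ≠ δ) (h2 : y • δ ≠ δ) :
    ∃ n ∈ N, n • δ = δ ∧ n • x • δ = y • δ :=
  let ⟨n, hn, e⟩ := BT.two_trans ⟨h.ne_top, h.four, h.nle⟩ ⟨x, hx, rfl⟩ ⟨y, hy, rfl⟩ h1 h2
  ⟨n, ZZ_le hn, e⟩

variable [Clo Z]

theorem prod (ha : a = 1 ∨ a ∈ Z) (hb : b = 1 ∨ b ∈ Z) (h1 : a ∈ N ⊓ St δ) (h2 : b ∈ N ⊓ St δ) :
    ∃ d ∈ N ⊓ St δ, (d = 1 ∨ d ∈ Z) ∧ a * b * d ∈ Oc N := by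
  rcases ha with rfl | ha
  · refine ⟨b, h2, hb, ?_⟩
    rcases hb with rfl | hb
    · simp
    · rw [one_mul, zsq (Ω := Ω) hb]; exact one_mem _
  rcases hb with rfl | hb
  · exact ⟨a, h1, .inr ha, by rw [mul_one, zsq (Ω := Ω) ha]; exact one_mem _⟩
  have hs := h.sq ha hb h1 h2
  by_cases ho : Odd (orderOf (a * b))
  · exact ⟨1, one_mem _, .inl rfl, by rw [mul_one]; exact Sz.mem_of_sq_mem_of_odd ho hs⟩
  obtain ⟨w, hw, w2, wa, -, d, -, e⟩ := H6.exists_central_involution_of_even (zsq (Ω := Ω) ha)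
    (zsq (Ω := Ω) hb) (Nat.not_odd_iff_even.1 ho)
  have hz : w * a ∈ Z := by rcases e with e | e <;> rw [← e] <;> apply c.conj <;> assumption
  have hwZ := Clo.mul _ hz a ha (fun e => Be.ne_one_of_two w2 (by simpa using e))
    (wa.mul_left (Commute.refl a))
  rw [mul_assoc, zsq (Ω := Ω) ha, mul_one] at hwZ
  refine ⟨w, zpowers_le.2 (mul_mem h1 h2) hw, .inr hwZ, ?_⟩
  obtain ⟨k, rfl⟩ := mem_zpowers_iff.1 hw
  have e2 : ∀ j : ℤ, (a * b) ^ (2 * j) ∈ Oc N := fun j => by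
    rw [zpow_mul, zpow_two]; exact zpow_mem hs j
  rcases Int.even_or_odd' k with ⟨j, rfl | rfl⟩
  · have := odd_orderOf_of_mem (odd_Oc N) (e2 j)
    rw [w2] at this
    exact absurd this (by decide)
  · have := e2 (j + 1)
    rwa [show 2 * (j + 1) = 1 + (2 * j + 1) by ring, zpow_one_add] at this

/-- the preimage of the elementary group generated by `Z_δ ∩ N` -/
def E : Subgroup G where
  carrier := {x | x ∈ N ⊓ St δ ∧ ∃ a ∈ N ⊓ St δ, (a = 1 ∨ a ∈ Z) ∧ x * a ∈ Oc N}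
  one_mem' := ⟨one_mem _, 1, one_mem _, .inl rfl, by rw [one_mul]; exact one_mem _⟩
  mul_mem' := fun {x y} ⟨hx, a, a1, a2, a3⟩ ⟨hy, b, b1, b2, b3⟩ => ⟨mul_mem hx hy, by
    obtain ⟨d, d1, d2, d3⟩ := h.prod a2 b2 a1 b1
    have aa : a * a = 1 := a2.elim (fun e => by rw [e, one_mul]) (zsq (Ω := Ω))
    have bb : b * b = 1 := b2.elim (fun e => by rw [e, one_mul]) (zsq (Ω := Ω))
    refine ⟨d, d1, d2, ?_⟩
    have := mul_mem (mul_mem a3 ((core_normal _ N).conj_mem' a1.1 b3)) d3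
    simpa only [mul_assoc, mul_inv_cancel_left, ← mul_assoc a a, aa, ← mul_assoc b b, bb,
      one_mul] using this⟩
  inv_mem' := fun {x} ⟨hx, a, a1, a2, a3⟩ => ⟨inv_mem hx, a, a1, a2, by
    have aa : a⁻¹ = a := a2.elim (fun e => by rw [e, inv_one]) (zinv (Ω := Ω))
    have := (core_normal _ N).conj_mem' hx.1 (inv_mem a3)
    rw [mul_inv_rev, aa] at this
    simpa only [mul_assoc, inv_mul_cancel, mul_one] using this⟩

theorem E_normal : h.E ⊴ N ⊓ St δ :=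
  ⟨fun _ hx => hx.1, le_norm_iff.2 fun g hg x ⟨hx, a, a1, a2, a3⟩ =>
    ⟨mul_mem (mul_mem hg hx) (inv_mem hg), g * a * g⁻¹, mul_mem (mul_mem hg a1) (inv_mem hg),
      a2.imp (fun e => by rw [e, mul_one, mul_inv_cancel]) (c.conj a · g), by
      simpa [mul_assoc] using (core_normal _ N).conj_mem hg.1 a3⟩⟩

theorem Oc_le_E : Oc N ≤ h.E := fun _ hx =>
  ⟨⟨core_le _ N hx, h.Oc_le hx⟩, 1, one_mem _, .inl rfl, by rwa [mul_one]⟩

theorem mem_E (hx : x ∈ N) (x2 : x ∈ Z) (hδ : x • δ = δ) : x ∈ h.E :=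
  ⟨⟨hx, hδ⟩, x, ⟨hx, hδ⟩, .inr x2, by rw [zsq (Ω := Ω) x2]; exact one_mem _⟩

theorem sq_mem (hx : x ∈ h.E) : x * x ∈ Oc N := by
  obtain ⟨-, a, a1, a2, a3⟩ := hx
  have aa : a * a = 1 := a2.elim (fun e => by rw [e, one_mul]) (zsq (Ω := Ω))
  have := mul_mem a3 ((core_normal _ N).conj_mem a1.1 a3)
  simpa only [mul_assoc, mul_inv_cancel, mul_one, ← mul_assoc a a, aa, one_mul] using this

theorem comm (hx : x ∈ h.E) (hy : y ∈ h.E) : ⁅x, y⁆ ∈ Oc N := by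
  have := mul_mem (mul_mem (h.sq_mem (mul_mem hx hy)) ((core_normal _ N).conj_mem' hy.1.1
    (inv_mem (h.sq_mem hx)))) (inv_mem (h.sq_mem hy))
  simpa [commutatorElement_def, mul_assoc] using this

theorem mem_Oc (hx : x ∈ h.E) (ho : Odd (orderOf x)) : x ∈ Oc N :=
  Sz.mem_of_sq_mem_of_odd ho (h.sq_mem hx)

/-- the involutions of `Ê` lie in `Z` -/
theorem mem_Z (hx : x ∈ h.E) (x2 : orderOf x = 2) : x ∈ Z := by
  obtain ⟨-, a, -, a2, a3⟩ := hx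
  have ho := odd_orderOf_of_mem (odd_Oc N) a3
  rcases a2 with rfl | a2
  · rw [mul_one, x2] at ho
    exact absurd ho (by decide)
  obtain ⟨d, -, e⟩ := H6.exists_conj_of_odd (Be.sq_of_two x2) (zsq (Ω := Ω) a2) ho
  have := c.conj a a2 d⁻¹
  rwa [← e, show d⁻¹ * (d * x * d⁻¹) * d⁻¹⁻¹ = x by group] at this

theorem inf_le (hX : ∀ z ∈ Z, z ∉ X) : h.E ⊓ X ≤ Oc N := fun x hx => h.mem_Oc hx.1 (by
  by_contra ho
  obtain ⟨n, hn⟩ := Be.exists_two_of_even ho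
  exact hX _ (h.mem_Z (pow_mem hx.1 n) hn) (pow_mem hx.2 n))

theorem sol (hp : p.Prime) (hS : IsPGroup p S) (hle : S ≤ N ⊓ St δ) :
    Group.IsSolvable (h.E ⊔ S : Subgroup G) := by
  rw [sup_comm]
  refine isSolvable_sup (hle.trans h.E_normal.norm) (sol_of_pgroup hp hS)
    (sol_of_der1 (sol_of_le (sol_odd (odd_Oc N)) ?_))
  exact commutator_le.2 fun x hx y hy => h.comm hx hy

theorem pow_mem_E (hp : p.Prime) (hS : IsPGroup p S) (hle : S ≤ N ⊓ St δ) (hx : x ∈ h.E ⊔ S) :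
    ∃ n : ℕ, x ^ p ^ n ∈ h.E := by
  have hn := hle.trans h.E_normal.norm
  have := (NormalIn.sup_left hn).normal_subgroupOf
  have h1 : x ^ h.E.relIndex (h.E ⊔ S) ∈ h.E :=
    pow_index_mem (H := h.E.subgroupOf (h.E ⊔ S)) ⟨x, hx⟩
  obtain ⟨n, e⟩ := pgroup_relIndex hp hS h.E
  rw [relIndex_sup_of_norm hn, e] at h1
  exact ⟨n, h1⟩

theorem no4 (hp : p.Prime) (hp2 : p ≠ 2) (hS : IsPGroup p S)
    (hle : S ≤ N ⊓ St δ) : ∀ x ∈ h.E ⊔ S, ¬ 4 ∣ orderOf x := fun x hx h4 => by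
  obtain ⟨n, h1⟩ := h.pow_mem_E hp hS hle hx
  have h2 := odd_orderOf_of_mem (odd_Oc N) (h.sq_mem h1)
  have h3 := pow_orderOf_eq_one (x ^ p ^ n * x ^ p ^ n)
  generalize orderOf (x ^ p ^ n * x ^ p ^ n) = m at h2 h3
  rw [← _root_.sq, ← pow_mul, ← pow_mul] at h3
  have h5 := h4.trans (orderOf_dvd_of_pow_eq_one h3)
  have h6 : Odd (p ^ n * m) := ((hp.odd_of_ne_two hp2).pow).mul h2
  rw [show p ^ n * (2 * m) = 2 * (p ^ n * m) by ring] at h5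
  obtain ⟨j, hj⟩ := h6
  omega

theorem sylow (hp : p.Prime) (hp2 : p ≠ 2) (hS : IsSylowIn p S X) (hO : Oc N ≤ X)
    (hle : S ≤ N ⊓ St δ) : IsSylowIn p S (h.E ⊔ S) :=
  ⟨le_sup_right, hS.isPGroup, fun Q hQ h1 h2 => hS.maximal Q hQ h1 fun y hy => by
    obtain ⟨e, he, s, hs, rfl⟩ := (h.E_normal.mem_sup hle).1 (h2 hy)
    exact mul_mem (hO (h.mem_Oc he (odd_orderOf_of_mem (odd_pgroup hp hp2 hQ)
      ((Q.mul_mem_cancel_right (h1 hs)).1 hy)))) (hS.le hs)⟩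

end Bt

/-- a `p'`-subgroup of `Y S` with `S` a `p`-group normalising `Y` lies in `Y` -/
theorem le_of_not_dvd {Y : Subgroup G} (hp : p.Prime) (hS : IsPGroup p S) (hn : S ≤ 𝐍(Y))
    (hX : X ≤ Y ⊔ S) (hp' : ¬ p ∣ #|X|) : X ≤ Y := fun x hx => by
  have := (NormalIn.sup_left hn).normal_subgroupOf
  have h1 : x ^ Y.relIndex (Y ⊔ S) ∈ Y := pow_index_mem (H := Y.subgroupOf (Y ⊔ S)) ⟨x, hX hx⟩
  obtain ⟨n, e⟩ := pgroup_relIndex hp hS Y
  rw [relIndex_sup_of_norm hn, e] at h1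
  have h2 : (p ^ n).Coprime (orderOf x) := Nat.Coprime.pow_left _
    ((hp.coprime_iff_not_dvd.2 hp').coprime_dvd_right (orderOf_dvd_natCard X hx))
  obtain ⟨m, hm⟩ := exists_pow_eq_self_of_coprime h2
  rw [← hm]
  exact pow_mem h1 m

end Cfsg.Agent.As.PL
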