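import Cfsg.Agent.As.Loc1

/-! LocE, part 2: the quotient `L / (L ∩ W)` and the action of `N` on it. -/

set_option autoImplicit false
set_option linter.unusedSectionVars false
set_option linter.style.haveILetI false

namespace Cfsg.Agent.As.Lc

open Subgroup MulAction Cfsg.Agent.H1 Cfsg.Agent.L Cfsg.Agent.FT Cfsg.Agent.FT.B1
open Cfsg.Agent.Be (invs sq_of_two inv_of_two two_of_sq ne_one_of_two odd_orderOf_of_mem odd_core
  le_core_of_odd conj_smul_smul two_conj)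
open Cfsg.Agent.Be.P1 (orb conj_st conj_st2 le_st_smul swap_norm not_le_of_ne self_mem_orb smul_mem_orb)
open scoped Pointwise commutatorElement

section Xt
variable {G X : Type*} [Group G] [Group X] {D H : Subgroup G} {f : D →* X} {x y : G}

open Classical in
/-- a homomorphism on a subgroup as a function on the whole group -/
noncomputable def xt (f : D →* X) (x : G) : X := if h : x ∈ D then f ⟨x, h⟩ else 1

theorem xt_eq (f : D →* X) (h : x ∈ D) : xt f x = f ⟨x, h⟩ := dif_pos h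

theorem xt_mul (hx : x ∈ D) (hy : y ∈ D) : xt f (x * y) = xt f x * xt f y := by
  rw [xt_eq f hx, xt_eq f hy, xt_eq f (D.mul_mem hx hy), ← map_mul]; rfl

theorem xt_one (f : D →* X) : xt f 1 = 1 := by rw [xt_eq f D.one_mem, ← map_one f]; rfl

theorem xt_inv (hx : x ∈ D) : xt f x⁻¹ = (xt f x)⁻¹ := by
  rw [xt_eq f hx, xt_eq f (D.inv_mem hx), ← map_inv]; rfl

theorem xt_pow (hx : x ∈ D) (n : ℕ) : xt f (x ^ n) = xt f x ^ n := by
  rw [xt_eq f hx, xt_eq f (D.pow_mem hx n), ← map_pow]; rfl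

theorem xt_conj (hx : x ∈ D) (hy : y ∈ D) : xt f (x * y * x⁻¹) = xt f x * xt f y * (xt f x)⁻¹ := by
  rw [xt_mul (D.mul_mem hx hy) (D.inv_mem hx), xt_mul hx hy, xt_inv hx]

theorem xt_mim (f : D →* X) (hx : x ∈ H) (h : x ∈ D) : xt f x ∈ mim f H :=
  xt_eq f h ▸ mem_mim_of_mem f ⟨x, h⟩ hx

theorem of_mim {z : X} (h : z ∈ mim f H) : ∃ x ∈ H, x ∈ D ∧ xt f x = z :=
  let ⟨x, hx, e⟩ := mem_mim.1 h; ⟨x, hx, x.2, (xt_eq f x.2).trans e⟩

theorem xt_orderOf (hx : x ∈ D) : orderOf (xt f x) ∣ orderOf x :=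
  orderOf_dvd_of_pow_eq_one (by rw [← xt_pow hx, pow_orderOf_eq_one, xt_one])

theorem exists_act {N : Subgroup G} (hN : N ≤ 𝐍(D)) (hf : Function.Surjective f)
    (hk : ∀ g ∈ N, ∀ x ∈ D, xt f x = 1 → xt f (g * x * g⁻¹) = 1) :
    ∃ ρ : N →* MulAut X, ∀ g ∈ N, ∀ x ∈ D, xt ρ g (xt f x) = xt f (g * x * g⁻¹) := by
  have cm := le_norm_iff.1 hN
  choose s hs using hf
  have hs' : ∀ z, xt f (s z) = z := fun z => (xt_eq f (s z).2).trans (hs z)
  let r : G → X → X := fun g z => xt f (g * s z * g⁻¹)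
  have hr : ∀ g ∈ N, ∀ x ∈ D, r g (xt f x) = xt f (g * x * g⁻¹) := fun g hg x hx => by
    have m := (s (xt f x)).2
    have := hk g hg _ (D.mul_mem (D.inv_mem hx) m) (by
      rw [xt_mul (D.inv_mem hx) m, xt_inv hx, hs', inv_mul_cancel])
    rw [show g * (x⁻¹ * s (xt f x)) * g⁻¹ = (g * x * g⁻¹)⁻¹ * (g * s (xt f x) * g⁻¹) by group,
      xt_mul (D.inv_mem (cm g hg x hx)) (cm g hg _ m), xt_inv (cm g hg x hx), inv_mul_eq_one] at this
    exact this.symm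
  have hm : ∀ g ∈ N, ∀ g' ∈ N, ∀ z, r g (r g' z) = r (g * g') z := fun g hg g' hg' z => by
    rw [show r g' z = _ from rfl, hr g hg _ (cm g' hg' _ (s z).2)]
    exact congrArg (xt f) (by group)
  have h1 : ∀ z, r 1 z = z := fun z => by simpa [r] using hs' z
  let ρ : N → MulAut X := fun g =>
    { toFun := r g
      invFun := r (g : G)⁻¹
      left_inv := fun z => by rw [hm _ (N.inv_mem g.2) _ g.2, inv_mul_cancel, h1]
      right_inv := fun z => by rw [hm _ g.2 _ (N.inv_mem g.2), mul_inv_cancel, h1]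
      map_mul' := fun z z' => by
        conv_lhs => rw [← hs' z, ← hs' z', ← xt_mul (s z).2 (s z').2,
          hr _ g.2 _ (D.mul_mem (s z).2 (s z').2), ← conj_mul,
          xt_mul (cm _ g.2 _ (s z).2) (cm _ g.2 _ (s z').2)] }
  exact ⟨MonoidHom.mk' ρ fun a b => MulEquiv.ext fun z => (hm _ a.2 _ b.2 z).symm,
    fun g hg x hx => by rw [xt_eq _ hg]; exact hr g hg x hx⟩

end Xt

variable {G Ω : Type} [Group G] [MulAction G Ω] {Z : Set G}
variable {a b t g k x y : G} {α β γ : Ω} {N : Subgroup G}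

local notation "St" => stabilizer G

/-- the data of `LocE` -/
structure Su (Z : Set G) (N : Subgroup G) (α β : Ω) (t : G) : Prop where
  bt : BT Z N α
  tZ : t ∈ Z
  tN : t ∈ N
  tα : t • α = β
  ne : α ≠ β

variable [Finite G] [c : Ctx Ω Z] [Be.BeI]

namespace Su
variable (h : Su Z N α β t)
include h

theorem tβ : t • β = α := h.tα ▸ zsmul h.tZ α

theorem βo : β ∈ orb N α := ⟨t, h.tN, h.tα⟩

theorem tL : t ∈ ZZ Z N := mem_ZZ h.tZ h.tN

theorem tne : t • α ≠ α := h.tα ▸ h.ne.symm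

theorem eq_of_W (ha : a ∈ Z) (haN : a ∈ N) (hb : b ∈ Z) (e : a * b ∈ Ker N α) : a = b := by
  obtain ⟨δ, hδ⟩ := exists_fix Ω ha
  have m := (mem_Ker.1 e).2
  have h1 := m δ (h.bt.mem_orb ha haN hδ)
  have h2 : b • δ = δ := by rw [← zsmul ha (b • δ), ← mul_smul a b, h1, hδ]
  by_cases e : α = δ
  · exact b4 ha hb hδ h2 (m β h.βo) (e ▸ h.ne.symm)
  · exact b4 ha hb hδ h2 (m α (self_mem_orb N α)) e

theorem cent : ZZ Z N ≤ 𝐂(Ker N α) := (closure_le _).2 fun a ha => mem_cent.2 fun x hx => by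
  have := h.eq_of_W ha.1 ha.2 (c.conj a ha.1 x) (by
    have m := mul_mem (le_norm_iff.1 Ker_normal.norm a ha.2 x hx) (inv_mem hx)
    rwa [zinv (Ω := Ω) ha.1, mul_assoc, mul_assoc, ← mul_assoc x] at m)
  exact (mul_inv_eq_iff_eq_mul.1 this.symm)

theorem eq_one (ha : a ∈ ZZ Z N) (a2 : a * a = 1) (hy : y ∈ Ker N α) (e : a * y * a = y⁻¹)
    (ho : Odd (orderOf y)) : y = 1 := Sz.eq_one_of_odd_of_sq ho (by
  rw [← mem_cent.1 (h.cent ha) y hy, mul_assoc, a2, mul_one] at e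
  exact mul_eq_one_iff_eq_inv.2 e)

theorem comm (ha : a ∈ Z) (haN : a ∈ N) (h1 : a • α = α) (hb : b ∈ Z) (hbN : b ∈ N)
    (h2 : b • α = α) : a * b = b * a := by
  have := h.bt.core_le (h.bt.sq_mul_mem ha haN h1 hb hbN h2)
  rw [show a * b * (a * b) = a * (b * a * b⁻¹) by rw [zinv (Ω := Ω) hb]; group] at this
  exact eq_mul_inv_iff_mul_eq.1 (h.eq_of_W ha haN (c.conj a ha b) this)

theorem exists_E : ∃ E : Subgroup G, ∀ x, x ∈ E ↔ x = 1 ∨ (x ∈ Z ∧ x ∈ N ∧ x • α = α) :=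
  ⟨{ carrier := {x | x = 1 ∨ (x ∈ Z ∧ x ∈ N ∧ x • α = α)}
     one_mem' := Or.inl rfl
     mul_mem' := by
      rintro a b (rfl | ha) hb
      · rwa [one_mul]
      rcases hb with rfl | hb
      · rw [mul_one]; exact Or.inr ha
      by_cases e : a = b
      · exact Or.inl (e ▸ zsq (Ω := Ω) ha.1)
      exact Or.inr ⟨(clo c).mul a ha.1 b hb.1 e (h.comm ha.1 ha.2.1 ha.2.2 hb.1 hb.2.1 hb.2.2),
        N.mul_mem ha.2.1 hb.2.1, by rw [mul_smul, hb.2.2, ha.2.2]⟩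
     inv_mem' := by
      rintro a (rfl | ha)
      · exact Or.inl inv_one
      · rw [zinv (Ω := Ω) ha.1]; exact Or.inr ha }, fun _ => Iff.rfl⟩

theorem swapK (ha : a ∈ Z) (h1 : a • α = β) : t * a ∈ invs (core {2}ᶜ (St α ⊓ St β)) t := by
  have e : t * (t * a) * t = (t * a)⁻¹ := by
    rw [← mul_assoc, zsq (Ω := Ω) h.tZ, one_mul, mul_inv_rev, zinv (Ω := Ω) ha, zinv (Ω := Ω) h.tZ]
  refine ⟨(iso_stab2 h.tZ h.tα h.ne).mem_core (mem_inf.2 ⟨?_, ?_⟩) (odd_swap h.tZ ha h.ne h.tα h1) e, e⟩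
  · rw [mem_stabilizer_iff, mul_smul, h1, h.tβ]
  · rw [mem_stabilizer_iff, mul_smul, ← h1, zsmul ha, h.tα, h1]

theorem K_odd (hk : k ∈ invs (core {2}ᶜ (St α ⊓ St β)) t) : Odd (orderOf k) :=
  odd_orderOf_of_mem (odd_core _) hk.1

theorem K_D (hk : k ∈ invs (core {2}ᶜ (St α ⊓ St β)) t) : k • α = α ∧ k • β = β :=
  core_le _ _ hk.1

theorem K_Z (hk : k ∈ invs (core {2}ᶜ (St α ⊓ St β)) t) : t * k ∈ Z :=
  mul_inv_mem (Ω := Ω) h.tZ hk.2 (h.K_odd hk)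

theorem K_L (hk : k ∈ invs (core {2}ᶜ (St α ⊓ St β)) t) (hN : k ∈ N) : k ∈ ZZ Z N :=
  (mul_mem_cancel_left h.tL).1 (mem_ZZ (h.K_Z hk) (N.mul_mem h.tN hN))

theorem mem_W (hg : g ∈ N) (e : ∀ a ∈ Z, a ∈ N → a * (g * a * g⁻¹) ∈ Ker N α) : g ∈ Ker N α :=
  mem_Ker.2 ⟨hg, fun δ hδ => by
    obtain ⟨a, haN, ha, h1⟩ := (h.bt.smul hδ).exists_II
    exact fix_of_conj ha h1 (h.eq_of_W ha haN (c.conj a ha g) (e a ha haN) ▸ h1)⟩

theorem perf : ⁅ZZ Z N, ZZ Z N⁆ = ZZ Z N := by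
  refine le_antisymm (der1_le _) ((closure_le _).2 fun x hx => ?_)
  obtain ⟨a, ha, b, hb, a2, b2, hne, hc⟩ := h.bt.four
  have aL := mem_ZZ a2 ha.1
  have key : ∀ y ∈ Z, y ∈ N → y * a⁻¹ ∈ ⁅ZZ Z N, ZZ Z N⁆ := fun y hy hN => by
    obtain ⟨n, hn, rfl⟩ := exists_conj_in a2 ha.2 aL (fun e => h.tne (e h.tL)) hy (mem_ZZ hy hN)
    exact commutator_mem_commutator hn aL
  have h1 := key _ ((clo c).mul b b2 a a2 hne.symm hc.symm) (N.mul_mem hb.1 ha.1)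
  rw [mul_inv_cancel_right] at h1
  have h2 := mul_mem (inv_mem h1) (key b b2 hb.1)
  rw [inv_mul_cancel_left] at h2
  exact (mul_mem_cancel_right h2).1 (key x hx.1 hx.2)

end Su

/-- the simple quotient of `L` with the action of `N` -/
structure Lf (Z : Set G) (N : Subgroup G) (α β : Ω) (t : G) {X : Type} [Group X] (S : Sz.Sys X)
    (f : ZZ Z N →* X) (ρ : N →* MulAut X) : Prop extends Su Z N α β t where
  surj : ∀ y, ∃ x ∈ ZZ Z N, xt f x = y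
  one : ∀ x ∈ ZZ Z N, xt f x = 1 ↔ x ∈ Ker N α
  st : ∀ x ∈ ZZ Z N, xt f x ∈ S.H ↔ x • α = α
  ft : xt f t = S.t
  act : ∀ g ∈ N, ∀ x ∈ ZZ Z N, xt ρ g (xt f x) = xt f (g * x * g⁻¹)

theorem Su.exists_lf (h : Su Z N α β t) : ∃ (X : Type) (_ : Group X) (_ : Finite X)
    (_ : IsSimpleGroup X) (S : Sz.Sys X) (f : ZZ Z N →* X) (ρ : N →* MulAut X),
    Lf Z N α β t S f ρ := by
  obtain ⟨X, _, _, f, S, hf, hk, hm, hr, -, ht⟩ := h.bt.exists_sys h.tZ h.tN h.tne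
  have one : ∀ x ∈ ZZ Z N, xt f x = 1 ↔ x ∈ Ker N α := fun x hx => xt_eq f hx ▸ hk ⟨x, hx⟩
  have nL := (ZZ_normal Ω (Z := Z) (N := N)).norm
  obtain ⟨ρ, hρ⟩ := exists_act nL hf fun g hg x hx e => (one _ (le_norm_iff.1 nL g hg x hx)).2
    (le_norm_iff.1 Ker_normal.norm g hg x ((one x hx).1 e))
  have hL : S.L = ⊤ := by
    rw [eq_top_iff, ← map_top_of_surjective f hf, map_le_iff_le_comap]
    refine closure_closure_coe_preimage.ge.trans ((closure_le _).2 fun (x : ZZ Z N) hx => ?_)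
    obtain ⟨g, hg⟩ := S.exists_conj_Q (v := f x) (by
      rw [← map_mul, ← map_one f]; exact congrArg f (Subtype.ext (zsq (Ω := Ω) hx.1)))
    show f x ∈ S.L
    simpa [mul_assoc] using S.L_normal.conj_mem _ (S.Q_le_L hg) g⁻¹
  have hs := hr.L_simple (eq_bot_iff.2 fun y hy => by
    obtain ⟨x, rfl⟩ := hf y
    refine (hk x).2 (mem_Ker.2 ⟨ZZ_le x.2, fun δ hδ => ?_⟩)
    obtain ⟨g, hg, rfl⟩ := h.bt.orb_ZZ hδ
    have := hy (f ⟨g, hg⟩⁻¹)
    rw [← map_inv, ← map_mul, ← map_mul] at this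
    simpa [mul_assoc] using conj_smul_smul ((hm _).1 this) g)
  rw [hL] at hs
  exact ⟨X, inferInstance, inferInstance, topEquiv.symm.isSimpleGroup, S, f, ρ, h,
    fun y => let ⟨x, e⟩ := hf y; ⟨x, x.2, (xt_eq f x.2).trans e⟩, one,
    fun x hx => xt_eq f hx ▸ hm ⟨x, hx⟩, (xt_eq f h.tL).trans ht.symm, hρ⟩

end Cfsg.Agent.As.Lc
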