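import Cfsg.Agent.As.Cnt
import Cfsg.Agent.As.NumA
import Cfsg.Agent.As.BW

/-! ZD, part 2: the slice `Num` (notes/zd2.md). -/

set_option autoImplicit false

namespace Cfsg.Agent.As

open Subgroup MulAction Cfsg.Agent.H1 Cfsg.Agent.L Cfsg.Agent.FT Cfsg.Agent.FT.B1
open Cfsg.Agent.Be (invs sq_of_two inv_of_two two_of_sq ne_one_of_two odd_core conj_smul_smul)
open Cfsg.Agent.Be.P1 (orb ncard_orb smul_mem_orb self_mem_orb Cj)
open Cfsg.Agent.Be.PL (mem_norm_inf)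
open Cfsg.Agent.Sg (Sq)
open scoped Pointwise commutatorElement

variable {G Ω : Type} [Group G] [MulAction G Ω] {Z : Set G}
variable {a b e s t g u w x : G} {α β γ δ : Ω} {N X H P E Q K : Subgroup G} {p q j : ℕ}

local notation "St" => stabilizer G

theorem card_orb (X : Subgroup G) (α : Ω) : #|X| = (orb X α).ncard * #|X ⊓ St α| := by
  rw [ncard_orb, ← card_inf_mul_relIndex (St α) X, mul_comm, inf_comm]

theorem card_conj {S : Set G} (h : ∀ y, y ∈ S ↔ ∃ g ∈ H, g * x * g⁻¹ = y) :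
    #|H| = S.ncard * #|H ⊓ 𝐂[x]| := by
  have := card_orb (Ω := Cj G) H x
  rwa [show orb (Ω := Cj G) H x = S from Set.ext fun y => (h y).symm, show @stabilizer G (Cj G) _ _ x = 𝐂[x]
    from Subgroup.ext fun g => (mul_inv_eq_iff_eq_mul (a := g * x)).trans mem_cent1.symm] at this

variable [Finite G]

theorem card_le_sq (sq : Sq E) (uu : u * u = 1) (hu : u ∈ 𝐍(E)) : #|E| ≤ #|E ⊓ 𝐂[u]| ^ 2 := by
  rw [card_conj (H := E) (x := u) (S := {y | ∃ g ∈ E, g * u * g⁻¹ = y}) fun _ => Iff.rfl, pow_two]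
  refine Nat.mul_le_mul_right _ (Set.ncard_le_ncard_of_injOn (· * u) ?_ (fun _ _ _ _ => mul_right_cancel)
    (Set.toFinite ((E ⊓ 𝐂[u] : Subgroup G) : Set G)))
  rintro _ ⟨g, hg, rfl⟩
  have h := (Be.P1.comm_mem_invs uu hu hg)
  exact ⟨h.1, mem_cent1.2 (by
    have := h.2
    rw [sq.inv h.1, ← mul_left_inj u, mul_assoc, uu, mul_one] at this
    exact this.symm)⟩

namespace Loc
variable (l : Loc Z N α β t E Q K q j)
include l

omit [Finite G] in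
theorem coe_E : (E : Set G) = insert 1 (II Z α ∩ N) :=
  Set.ext fun x => (l.memE x).trans (or_congr_right ⟨fun h => ⟨⟨h.1, h.2.2⟩, h.2.1⟩,
    fun h => ⟨h.1.1, h.2, h.1.2⟩⟩)

omit [Finite G] in
theorem four_le : 4 ≤ q := by
  obtain ⟨a, h, rfl⟩ := l.pow
  exact Nat.pow_le_pow_right (n := 2) (by decide) h

omit [Finite G] in
theorem K_le : K ≤ N ⊓ (St α ⊓ St β) := fun k hk =>
  ⟨((l.memK k).1 hk).1, core_le _ _ ((l.memK k).1 hk).2.1⟩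

variable [c : Hyp Ω Z]

theorem ncard_II : (II Z α ∩ N).ncard = q - 1 := by
  rw [← l.cardE, ← SetLike.coe_sort_coe, Nat.card_coe_set_eq, l.coe_E, Set.ncard_insert_of_notMem
    (fun h => ne_one_of_two (c.two 1 h.1.1) rfl), Nat.add_sub_cancel]

theorem norm_E : N ⊓ St α ≤ 𝐍(E) := fun g hg => mem_norm_of_conj_le fun x hx => by
  obtain ⟨y, hy, rfl⟩ := mem_conj'.1 hx
  rcases (l.memE y).1 hy with rfl | h
  · simp
  · exact (l.memE _).2 (Or.inr ⟨c.conj y h.1 g, mul_mem (mul_mem hg.1 h.2.1) (inv_mem hg.1),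
      hg.2 ▸ conj_smul_smul h.2.2 g⟩)

end Loc

theorem card_idx [c : Hyp Ω Z] (ht : t ∈ Z) (h1 : t • α = β) (hne : α ≠ β) (hs : s ∈ II Z α)
    (htN : t ∈ N) (hsN : s ∈ N) : #|core {2}ᶜ (St α ⊓ St β) ⊓ N| =
      (II Z α ∩ N).ncard * #|core {2}ᶜ (St α ⊓ St β) ⊓ 𝐂[s] ⊓ N| := by
  rw [inf_right_comm]
  refine card_conj fun y => ⟨fun hy => ?_, ?_⟩
  · obtain ⟨k, hk, e, h⟩ := exists_invs_conj ht h1 hne hs.1 hs.2 hy.1.1 hy.1.2
    exact ⟨k, ⟨hk.1, h N htN hsN hy.2⟩, e⟩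
  · rintro ⟨g, hg, rfl⟩
    exact ⟨⟨c.conj s hs.1 g, (core_le _ _ hg.1).1 ▸ conj_smul_smul hs.2 g⟩,
      mul_mem (mul_mem hg.2 hsN) (inv_mem hg.2)⟩

/-- the Brauer-Wielandt formula for `r` -/
theorem ncard_bw [c : Red Ω Z] (hne : α ≠ β) (uu : u * u = 1) (ww : w * w = 1) (hc : u * w = w * u)
    (hu : u ∈ St α ⊓ St β) (hw : w ∈ St α ⊓ St β) :
    (II Z α).ncard * (II Z α ∩ (𝐂[u] ⊓ 𝐂[w] : Subgroup G)).ncard ^ 2 =
      (II Z α ∩ 𝐂[u]).ncard * (II Z α ∩ 𝐂[w]).ncard * (II Z α ∩ 𝐂[u * w]).ncard := by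
  have hA : IsPGroup 2 (zpowers u ⊔ zpowers w : Subgroup G) :=
    (abelem_pgroup (abelem_zpowers (by rw [pow_two, uu]))).to_sup_of_normal_left'
      (abelem_pgroup (abelem_zpowers (by rw [pow_two, ww])))
      (le_norm_zpowers_of_cent (zpowers_le.2 (mem_cent1.2 hc.symm)))
  have hD : zpowers u ⊔ zpowers w ≤ St α ⊓ St β := sup_le (zpowers_le.2 hu) (zpowers_le.2 hw)
  obtain ⟨s, hs, s1, s2⟩ := exists_cent c hA (hD.trans inf_le_left)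
  obtain ⟨b, hb, b1, b2⟩ := exists_cent c hA (hD.trans inf_le_right)
  obtain ⟨t, ht, -, t1, -, t2⟩ := exists_conj_swap hs hb s1 b1 hne
  have cu : 𝐂(zpowers u ⊔ zpowers w) ≤ 𝐂[u] := cent_zpowers u ▸ cent_anti le_sup_left
  have cw : 𝐂(zpowers u ⊔ zpowers w) ≤ 𝐂[w] := cent_zpowers w ▸ cent_anti le_sup_right
  have cuw : 𝐂(zpowers u ⊔ zpowers w) ≤ 𝐂[u * w] := cent_zpowers (u * w) ▸ cent_anti
    (zpowers_le.2 (mul_mem (mem_sup_left (mem_zpowers u)) (mem_sup_right (mem_zpowers w))))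
  have key : ∀ N : Subgroup G, 𝐂(zpowers u ⊔ zpowers w) ≤ N → _ := fun N hN =>
    card_idx (N := N) ht t1 hne ⟨hs, s1⟩ (hN (t2 _ s2 b2)) (hN s2)
  have hO := core_normal {2}ᶜ (St α ⊓ St β)
  have e1 := BW.bw (odd_core _) (hO.norm hu) (hO.norm hw) uu ww hc
  have e2 := BW.bw (odd_of_le (odd_core (St α ⊓ St β)) inf_le_left)
    (mem_norm_inf (hO.norm hu) (le_normalizer (mem_cent1.2 (mem_cent1.1 (cu s2)).symm)))
    (mem_norm_inf (hO.norm hw) (le_normalizer (mem_cent1.2 (mem_cent1.1 (cw s2)).symm))) uu ww hc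
  have e3 := key ⊤ le_top
  rw [inf_top_eq, inf_top_eq, coe_top, Set.inter_univ] at e3
  rw [inf_assoc] at e1
  rw [inf_assoc _ 𝐂[u]] at e2
  rw [e3, key _ cu, key _ cw, key _ cuw, key _ (le_inf cu cw)] at e1
  generalize core {2}ᶜ (St α ⊓ St β) ⊓ 𝐂[s] = X at e1 e2
  refine Nat.eq_of_mul_eq_mul_right (Nat.mul_pos (Nat.card_pos (α := X))
    (Nat.pow_pos (n := 2) (Nat.card_pos (α := (X ⊓ (𝐂[u] ⊓ 𝐂[w]) : Subgroup G))))) ?_
  nth_rw 2 [e2]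
  linear_combination e1

variable [c : Ctx Ω Z] [Be.BeI] [LocE] (u2 : orderOf u = 2) (hZ : u ∉ Z) (h : u • α = α)
include u2 hZ h

theorem exists_loc (h1 : (II Z α ∩ 𝐂[u]).ncard ≠ 1) (hβ : u • β = β) (hne : α ≠ β) :
    ∃ t E Q K q j, Loc Z 𝐂[u] α β t E Q K q j :=
  let ⟨t, h2, h3, h4⟩ := swap_cent c.toRed (sq_of_two u2) h hβ hne
  ⟨t, LocE.ex (bt_cent u2 hZ h h1) h2 h3 h4 hne⟩

variable (l : Loc Z 𝐂[u] α β t E Q K q j)
include l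

theorem star (he : e ∈ E) : ∃ g ∈ St α ⊓ 𝐍(E), g * u * g⁻¹ = u * e := by
  rcases eq_or_ne e 1 with rfl | e1
  · exact ⟨1, one_mem _, by simp⟩
  have hI : e ∈ II Z α ∩ 𝐂[u] := (l.coe_E.subset he).resolve_left e1
  obtain ⟨w2, wZ⟩ := mul_notMem u2 hZ c hI.1.1 hI.2
  have hw : (u * e) • α = α := by rw [mul_smul, hI.1.2, h]
  have h4 := l.four_le
  obtain ⟨γ, h1, h2⟩ := fix2 w2 wZ hw
  obtain ⟨t', E', Q', K', q', j', l'⟩ := exists_loc w2 wZ hw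
    (by rw [II_cent_mul u2 hZ h hI, l.ncard_II]; omega) h2 h1.symm
  obtain rfl : E = E' := SetLike.coe_injective (by rw [l.coe_E, l'.coe_E, II_cent_mul u2 hZ h hI])
  obtain ⟨f, hf, fe⟩ := (Set.one_lt_ncard_iff_nontrivial.1
    (show 1 < (II Z α ∩ 𝐂[u]).ncard by rw [l.ncard_II]; omega)).exists_ne e
  have fE : f ∈ E := l.coe_E.superset (Or.inr hf)
  obtain ⟨k', hk', h3⟩ := l'.sing.tr e he e1 f fE (ne_one_of_two (c.two f hf.1.1))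
  obtain ⟨k, hk, h5⟩ := l.sing.tr (e * f) (mul_mem he fE)
    (fun e2 => fe (by rw [eq_inv_of_mul_eq_one_right e2, l.sing.sq.inv he])) e he e1
  refine ⟨k * k', mul_mem ⟨(l.K_le hk).2.1, l.sing.norm hk⟩ ⟨(l'.K_le hk').2.1, l'.sing.norm hk'⟩, ?_⟩
  calc k * k' * u * (k * k')⁻¹ = k * (k' * (u * e) * (e * k'⁻¹)) * k⁻¹ := by
        simp only [mul_assoc, ← mul_assoc e e, l.sing.sq e he, one_mul, mul_inv_rev]
    _ = k * u * (e * f) * k⁻¹ := by rw [mem_cent1.1 (l'.K_le hk').1, ← h3]; group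
    _ = u * e := by rw [mem_cent1.1 (l.K_le hk).1, mul_assoc u, mul_assoc u, h5]

theorem eqn : ∃ m, (II Z α).ncard = m * (q - 1) ∧ Nat.card Ω * m + (q ^ j + 1) * (q - 1) =
    m * (q ^ j + 1) + (q ^ j + 1) * (q ^ j + 1) * (q - 1) ∧
    (j = 3 → ∀ p : ℕ, p.Prime → p ∣ m → p ∣ q ^ 2 - 1) := by
  obtain ⟨e, he⟩ := exists_cent1 c.toRed (sq_of_two u2) h
  obtain ⟨m, h1, h2, h3⟩ := cnt u2 hZ h he
  obtain ⟨g, -, h4⟩ := star u2 hZ h l (l.coe_E.superset (Or.inr he))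
  rw [← h4, fx_conj, fx, ← orb_cent1 c.toRed (sq_of_two u2) h, l.card, l.ncard_II, mul_comm] at h2
  refine ⟨m, l.ncard_II ▸ h1, h2, fun hj p hp hd => ?_⟩
  obtain ⟨a, ha, b, hb, h5, h6, h7⟩ := h3 p hp hd
  exact l.pdvd hj a ha b hb h5 h6 p hp (fun e => Nat.not_even_iff_odd.2 (odd_ncard_II (Z := Z) α)
    (even_iff_two_dvd.2 (h1 ▸ (e ▸ hd).mul_right _))) h7

theorem pow_dvd (hP : IsSylowIn 2 P (St α ⊓ St β)) (hc : P ≤ 𝐂[u]) : q ^ (j + 1) ∣ Nat.card Ω - 1 := by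
  haveI := finΩ c.toRed
  haveI := Fact.mk Nat.prime_two
  let H : Subgroup G :=
    { carrier := {g | g ∈ St α ⊓ 𝐍(E) ∧ u⁻¹ * (g * u * g⁻¹) ∈ E}
      one_mem' := ⟨one_mem _, by simp⟩
      mul_mem' := fun {g k} hg hk => ⟨mul_mem hg.1 hk.1, by
        simpa [mul_assoc] using mul_mem hg.2 (conj_mem_of_mem_normalizer hg.1.2 hk.2)⟩
      inv_mem' := fun {g} hg => ⟨inv_mem hg.1, by
        simpa [mul_assoc] using inv_mem (conj_mem_of_mem_normalizer' hg.1.2 hg.2)⟩ }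
  have e1 := card_conj (H := H) (x := u) (S := (u * ·) '' E) fun y => ⟨by
    rintro ⟨e, he, rfl⟩
    obtain ⟨g, hg, h1⟩ := star u2 hZ h l he
    exact ⟨g, ⟨hg, by simpa [h1] using he⟩, h1⟩, fun ⟨g, hg, e⟩ => ⟨_, hg.2, by simp [← e]⟩⟩
  have hQ : Q ≤ 𝐂[u] ⊓ St α := fun x hx => ⟨ZZ_le ((l.memQ x).1 hx).1, ((l.memQ x).1 hx).2.1⟩
  have hβ : β ∈ orb 𝐂[u] α := ⟨t, l.tN, l.tα⟩
  rw [Set.ncard_image_of_injective _ (mul_right_injective u), ← Nat.card_coe_set_eq, SetLike.coe_sort_coe,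
    l.cardE, show H ⊓ 𝐂[u] = 𝐂[u] ⊓ St α from le_antisymm (fun g hg => ⟨hg.2, hg.1.1.1⟩)
      fun g hg => ⟨⟨⟨hg.2, l.norm_E hg⟩, by simp [mem_cent1.1 hg.1]⟩, hg.1⟩, card_orb (𝐂[u] ⊓ St α) β,
    show orb (𝐂[u] ⊓ St α) β = orb 𝐂[u] α \ {α} from Set.ext fun γ => ⟨by
      rintro ⟨g, hg, rfl⟩
      exact ⟨smul_mem_orb hg.1 hβ, Be.P1.smul_ne' hg.2 l.ne.symm⟩, fun hγ =>
        let ⟨x, h1, h2⟩ := l.tr γ hγ.1 hγ.2; ⟨x, hQ h1, h2⟩⟩,
    Set.ncard_sdiff_singleton_of_mem (self_mem_orb _ _), l.card, Nat.add_sub_cancel] at e1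
  have e2 := card_orb (St α) β
  rw [show orb (St α) β = Set.univ \ {α} from Set.ext fun γ => ⟨by
      rintro ⟨g, hg, rfl⟩
      exact ⟨trivial, Be.P1.smul_ne' hg l.ne.symm⟩, fun hγ => tr2 c l.ne.symm hγ.2⟩,
    Set.ncard_sdiff_singleton_of_mem (Set.mem_univ _), Set.ncard_univ,
    ← card_mul_relIndex_of_le hP.le] at e2
  have e3 := card_dvd_of_le (show H ≤ St α from fun g hg => hg.1.1)
  obtain ⟨i, e4⟩ := card_dvd_of_le (show P ≤ 𝐂[u] ⊓ St α ⊓ St β by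
    rw [inf_assoc]; exact le_inf hc hP.le)
  rw [e1, e2, e4] at e3
  obtain ⟨a, -, rfl⟩ := l.pow
  refine Nat.Coprime.dvd_of_dvd_mul_right (Nat.Coprime.pow_left _ (Nat.Coprime.pow_left _
    ((Nat.prime_two.coprime_iff_not_dvd).2 hP.not_dvd_relIndex)))
    (Nat.dvd_of_mul_dvd_mul_right (Nat.card_pos (α := P)) ?_)
  exact (Dvd.intro i (by ring)).trans (e3.trans (dvd_of_eq (by ring)))

theorem subset_cent (h1 : (II Z α).ncard ≤ q - 1) : II Z α ⊆ 𝐂[u] := by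
  rw [← Set.eq_of_subset_of_ncard_le Set.inter_subset_left (h1.trans_eq l.ncard_II.symm)]
  exact Set.inter_subset_right

theorem caseA (hP : IsSylowIn 2 P (St α ⊓ St β)) (hc : P ≤ 𝐂[u]) :
    (∃ a, Nat.card Ω = 2 ^ a + 1 ∧ ∀ α : Ω, (II Z α).ncard + 1 = 2 ^ a) ∨ II Z α ⊆ 𝐂[u] := by
  obtain ⟨m, h1, h2, h3⟩ := eqn u2 hZ h l
  obtain ⟨y, hy⟩ := pow_dvd u2 hZ h l hP hc
  haveI := finΩ c.toRed
  have := Nat.card_pos_iff.2 ⟨⟨α⟩, this⟩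
  obtain ⟨a, ha, e⟩ := l.pow
  rcases NumA.main (y := y) l.four_le (e ▸ (Nat.even_pow.2 ⟨even_two, by omega⟩)) l.jj
    ((odd_ncard_II (Z := Z) α).of_dvd_nat (h1 ▸ dvd_mul_right _ _)) (by omega) (mul_comm m _ ▸ h2)
    (fun p hp hd => modp hp (h1 ▸ hd.mul_right _)) h3 with rfl | ⟨h4, h5⟩
  · exact Or.inr (subset_cent u2 hZ h l (by omega))
  · exact Or.inl ⟨a * 2, by rw [h4, e, pow_mul], fun γ => by rw [ncard_II γ α, h1, h5, e, pow_mul]⟩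

omit u2 hZ h [LocE] [Be.BeI] in
theorem eq_four (ww : w * w = 1) (hw : w ∈ 𝐂[u] ⊓ St α) (h1 : (II Z α ∩ 𝐂[w]).ncard = 1) : q = 4 := by
  refine le_antisymm (l.cardE ▸ (card_le_sq l.sing.sq ww (l.norm_E hw)).trans
    (Nat.pow_le_pow_left (m := 2) ?_ 2)) l.four_le
  rw [← SetLike.coe_sort_coe, Nat.card_coe_set_eq]
  refine (Set.ncard_le_ncard (t := insert 1 (II Z α ∩ 𝐂[w])) (fun x hx => ?_)).trans
    ((Set.ncard_insert_le _ _).trans_eq (by rw [h1]))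
  exact (l.coe_E.subset hx.1).imp_right fun h2 => ⟨h2.1, hx.2⟩

theorem caseB (w2 : orderOf w = 2) (hw : w ∈ St α ⊓ St β) (hc : w ∈ 𝐂[u])
    (h1 : (II Z α ∩ 𝐂[w]).ncard = 1) : II Z α ⊆ 𝐂[u] := by
  have uu := sq_of_two u2
  have ww := sq_of_two w2
  have wu := mem_cent1.1 hc
  have hβ : u • β = β := by rw [← l.tα, smul_smul, ← mem_cent1.1 l.tN, mul_smul, h]
  obtain rfl := eq_four l ww ⟨hc, hw.1⟩ h1
  have e := ncard_bw (Z := Z) l.ne ww uu wu hw ⟨h, hβ⟩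
  obtain ⟨s, hs⟩ := Set.ncard_eq_one.1 h1
  have hs' : s ∈ II Z α ∩ 𝐂[w] := hs ▸ rfl
  have su : s ∈ 𝐂[u] := mem_cent1.2 (mul_inv_eq_iff_eq_mul.1 (hs.subset ⟨⟨c.conj s hs'.1.1 u,
    h ▸ conj_smul_smul hs'.1.2 u⟩, mul_mem (mul_mem (mem_cent1.2 wu.symm) hs'.2)
      (inv_mem (mem_cent1.2 wu.symm))⟩)).symm
  rw [show II Z α ∩ (𝐂[w] ⊓ 𝐂[u] : Subgroup G) = {s} from Set.eq_singleton_iff_unique_mem.2
    ⟨⟨hs'.1, hs'.2, su⟩, fun x hx => hs.subset ⟨hx.1, hx.2.1⟩⟩, Set.ncard_singleton, h1, l.ncard_II] at e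
  by_cases h2 : (II Z α ∩ 𝐂[w * u]).ncard = 1
  · exact subset_cent u2 hZ h l (by omega)
  have vα : (w * u) • α = α := by rw [mul_smul, h]; exact hw.1
  have vβ : (w * u) • β = β := by rw [mul_smul, hβ]; exact hw.2
  obtain ⟨t', E', Q', K', q', j', l'⟩ := exists_loc (two_of_sq
    (by rw [mul_assoc, ← mul_assoc u, ← wu, mul_assoc, uu, mul_one, ww]) fun e1 => by
      have := l.ncard_II
      rw [eq_inv_of_mul_eq_one_right e1, inv_of_two w2] at this; omega)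
    (fun e1 => l.ne (fix_unique e1 vα vβ)) vα h2 vβ l.ne
  obtain rfl := eq_four l' ww ⟨mem_cent1.2 (by rw [mul_assoc, ← wu]), hw.1⟩ h1
  obtain ⟨m, h3, h4, -⟩ := eqn u2 hZ h l
  rw [l'.ncard_II] at e
  obtain rfl : m = 3 := by omega
  have h5 := modp (Z := Z) (α := α) Nat.prime_three (h3 ▸ dvd_mul_right _ _)
  generalize 4 ^ j + 1 = f at h4
  rw [show Nat.card Ω = f * f by omega, Nat.ModEq, Nat.mul_mod] at h5
  have := Nat.mod_lt f (show 0 < 3 by decide)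
  generalize f % 3 = i at h5 this
  interval_cases i <;> simp at h5

omit u2 hZ h l [Finite G] c in
instance instNum : Num where
  tri := fun {G Ω} _ _ _ {Z} c => by
    refine or_iff_not_imp_left.2 fun h0 => ?_
    push Not at h0
    obtain ⟨u, α, u2, hZ, h, h1⟩ := h0
    haveI := Fact.mk Nat.prime_two
    obtain ⟨β, h2, h3⟩ := fix2 u2 hZ h
    obtain ⟨P, hP, h4⟩ := exists_isSylowIn_ge (Be.P1.pgroup_zpowers' u2)
      (zpowers_le.2 (show u ∈ stabilizer G α ⊓ stabilizer G β from ⟨h, h3⟩))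
    obtain ⟨w, hw, w2⟩ := Be.P1.exists_two (A := zent P) fun e => zent_ne_bot hP.isPGroup.isNilpotent
      (fun e => zpowers_ne_bot.2 (ne_one_of_two u2) (eq_bot_iff.2 (e ▸ h4)))
      (by simpa using Sg.inf_eq_bot_of_two (A := zent P) (hP.isPGroup.to_le inf_le_left) e)
    have h5 := hP.le hw.1
    by_cases h6 : (II Z α ∩ 𝐂[w]).ncard = 1
    · obtain ⟨t, E, Q, K, q, j, l⟩ := exists_loc u2 hZ h h1 h3 h2.symm
      exact Or.inr ⟨u, α, u2, hZ, h, caseB u2 hZ h l w2 h5 (cent_zpowers u ▸ cent_anti h4 hw.2) h6⟩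
    · have wZ : w ∉ Z := fun e => h2 (fix_unique e h5.2 h5.1)
      obtain ⟨t, E, Q, K, q, j, l⟩ := exists_loc w2 wZ h5.1 h6 h5.2 h2.symm
      exact (caseA w2 wZ h5.1 l hP fun x hx => mem_cent1.2 (mem_cent.1 hw.2 x hx)).imp_right
        fun e => ⟨w, α, w2, wZ, h5.1, e⟩

end Cfsg.Agent.As
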