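import Cfsg.Agent.As.Rg
import Cfsg.Agent.As.Num
import Cfsg.Agent.As.Loc2

/-! A transitive group of degree `2 ^ a` with abelian two point stabilisers whose elements of odd
prime order fix many points has a nontrivial normal `2`-subgroup; affine cocycles. -/

set_option autoImplicit false
set_option linter.unusedSectionVars false
set_option linter.style.haveILetI false

namespace Cfsg.Agent.As.Le

open Subgroup MulAction Cfsg.Agent.H1 Cfsg.Agent.L Cfsg.Agent.FT Cfsg.Agent.FT.B1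
open Cfsg.Agent.Be.P1 (orb pow_inverted pgroup_zpowers')
open Cfsg.Agent.As.Lc (xt xt_eq xt_mul xt_inv xt_pow)
open scoped Pointwise commutatorElement

section Perm
variable {H P : Type} [Group H] [Finite H] [MulAction H P] [Finite P] {a : ℕ}

theorem exists_odd {y : H} (yy : y * y = 1) (h : y ∉ pCore 2 H) :
    ∃ (x : H) (l : ℕ), l.Prime ∧ l ≠ 2 ∧ orderOf x = l ∧ y * x * y = x⁻¹ := by
  haveI := Fact.mk Nat.prime_two
  by_contra hn
  refine h (H2.baer_mem_pCore fun g => ?_)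
  have yi := inv_eq_of_mul_eq_one_right yy
  have bb : g * y * g⁻¹ * (g * y * g⁻¹) = 1 := by rw [conj_mul, yy]; simp
  generalize g * y * g⁻¹ = b at bb
  have i : y * (y * b) * y = (y * b)⁻¹ := by
    rw [← mul_assoc, yy, one_mul, mul_inv_rev, yi, inv_eq_of_mul_eq_one_right bb]
  have h1 : IsPGroup 2 (zpowers (y * b)) := (piGrp_iff_isPGroup Nat.prime_two).1 fun p hp hd => by
    by_contra hp2
    obtain ⟨x, hx, ox⟩ := exists_mem_orderOf_eq hp hd
    obtain ⟨k, rfl⟩ : ∃ k : ℕ, (y * b) ^ k = x := mem_powers_iff_mem_zpowers.2 hx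
    exact hn ⟨_, p, hp, hp2, ox, pow_inverted yy i k⟩
  refine (pgroup_sup h1 (H6.isPGroup_zpowers_of_mul_self yy) (.inr (zpowers_le.2
    (mem_norm_of_conj_le ?_)))).to_le ((closure_le _).2 ?_)
  · rw [conj_zpowers, yi, i]; exact zpowers_le.2 (inv_mem (mem_zpowers _))
  · rintro x (rfl | rfl)
    · exact mem_sup_right (mem_zpowers _)
    · have := mul_mem (mem_sup_right (S := zpowers (y * x)) (mem_zpowers y))
        (mem_sup_left (mem_zpowers (y * x)))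
      rwa [← mul_assoc, yy, one_mul] at this

theorem orb_sylow (hc : Nat.card P = 2 ^ a) (tr : ∀ p p' : P, ∃ g : H, g • p = p') {S : Subgroup H}
    (hS : IsSylowIn 2 S ⊤) (p : P) : orb S p = Set.univ := by
  haveI := Fact.mk Nat.prime_two
  have h1 := card_orb (⊤ : Subgroup H) p
  rw [show orb (⊤ : Subgroup H) p = Set.univ from Set.eq_univ_of_forall fun p' =>
    let ⟨g, e⟩ := tr p p'; ⟨g, trivial, e⟩, Set.ncard_univ, hc, ← card_mul_relIndex_of_le hS.le,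
    card_orb S p, ← card_mul_relIndex_of_le (inf_le_inf_right (stabilizer H p) hS.le), mul_assoc,
    mul_left_comm, mul_left_comm (2 ^ a)] at h1
  have h2 : 2 ^ a ∣ (orb S p).ncard := (Nat.Coprime.pow_left a ((Nat.Prime.coprime_iff_not_dvd
    Nat.prime_two).2 hS.not_dvd_relIndex)).dvd_of_dvd_mul_right
    ⟨_, Nat.eq_of_mul_eq_mul_left Nat.card_pos h1⟩
  exact Set.eq_of_subset_of_ncard_le (Set.subset_univ _) (by
    rw [Set.ncard_univ, hc]
    exact Nat.le_of_dvd ((Set.ncard_pos (Set.toFinite _)).2 ⟨p, Be.P1.self_mem_orb S p⟩) h2)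

theorem perm_no [Nontrivial P] (hc : Nat.card P = 2 ^ a) (p₀ : P) (tr₀ : ∀ p : P, ∃ g : H, g • p₀ = p)
    (faith : ∀ g : H, (∀ p : P, g • p = p) → g = 1) (hO : pCore 2 H = ⊥)
    (T : ∀ (h : H) (p p' : P), h • p₀ = p₀ → h • p = p → h • p' = p' → p ≠ p₀ → p' ≠ p₀ →
      ∃ c : H, c * h = h * c ∧ c • p₀ = p₀ ∧ c • p = p')
    (A : ∀ (g h : H) (p : P), p ≠ p₀ → g • p₀ = p₀ → g • p = p → h • p₀ = p₀ → h • p = p →
      g * h = h * g)
    (F : ∀ (h : H) (p : P), (orderOf h).Prime → orderOf h ≠ 2 → h • p₀ = p₀ → h • p = p → p ≠ p₀ →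
      ∃ p', h • p' = p' ∧ p' ≠ p₀ ∧ p' ≠ p) : False := by
  haveI := Fact.mk Nat.prime_two
  have tr : ∀ p p' : P, ∃ g : H, g • p = p' := fun p p' => by
    obtain ⟨g, rfl⟩ := tr₀ p
    obtain ⟨g', rfl⟩ := tr₀ p'
    exact ⟨g' * g⁻¹, by rw [mul_smul, inv_smul_smul]⟩
  have T' : ∀ (h : H) (o p p' : P), h • o = o → h • p = p → h • p' = p' → p ≠ o → p' ≠ o →
      ∃ c : H, c * h = h * c ∧ c • o = o ∧ c • p = p' := fun h o p p' h0 h1 h2 n1 n2 => by
    obtain ⟨g, rfl⟩ := tr₀ o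
    obtain ⟨c, e1, e2, e3⟩ := T (g⁻¹ * h * g) (g⁻¹ • p) (g⁻¹ • p') (by simp [mul_smul, h0])
      (by simp [mul_smul, h1]) (by simp [mul_smul, h2]) (fun e => n1 (inv_smul_eq_iff.1 e))
      fun e => n2 (inv_smul_eq_iff.1 e)
    refine ⟨g * c * g⁻¹, ?_, by simp [mul_smul, e2], by simp [mul_smul, e3]⟩
    calc _ = g * (c * (g⁻¹ * h * g)) * g⁻¹ := by group
      _ = _ := by rw [e1]; group
  obtain ⟨S, hS⟩ := exists_isSylowIn 2 (⊤ : Subgroup H)
  have hs := orb_sylow hc tr hS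
  have S1 : S ≠ ⊥ := fun e => by
    obtain ⟨p, hp⟩ := exists_ne p₀
    obtain ⟨g, hg, e'⟩ := (hs p₀).ge (Set.mem_univ p)
    rw [e.le hg, one_smul] at e'
    exact hp e'.symm
  obtain ⟨y, hy, y2⟩ := exists_mem_orderOf_eq Nat.prime_two (pgroup_dvd_card Nat.prime_two
    (hS.isPGroup.to_le (zent_le S)) (zent_ne_bot (pgroup_nil Nat.prime_two hS.isPGroup) S1))
  have yf : ∀ p : P, y • p ≠ p := fun p e => Be.ne_one_of_two y2 (faith y fun p' => by
    obtain ⟨g, hg, rfl⟩ := (hs p).ge (Set.mem_univ p')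
    rw [← mul_smul, ← mem_cent.1 hy.2 g hg, mul_smul, e])
  have yy := Be.sq_of_two y2
  obtain ⟨h, l, hl, l2, ho, hi⟩ := exists_odd yy fun e => Be.ne_one_of_two y2 (hO.le e)
  obtain ⟨o, h0⟩ : ∃ o : P, h • o = o := by
    haveI := Fact.mk hl
    haveI := Fintype.ofFinite P
    exact Equiv.Perm.exists_fixed_point_of_prime (p := l) (n := 1) (σ := toPermHom H P h)
      (fun e => l2 ((Nat.prime_dvd_prime_iff_eq hl Nat.prime_two).1
        (hl.dvd_of_dvd_pow (by rwa [← hc, Nat.card_eq_fintype_card]))))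
      (by rw [pow_one, ← map_pow, ← ho, pow_orderOf_eq_one, map_one])
  clear hy y2
  wlog e : o = p₀ generalizing y h o
  · obtain ⟨g, rfl⟩ := tr₀ o
    refine this (g⁻¹ * y * g) (fun p e => yf (g • p) ?_) ?_ (g⁻¹ * h * g) ?_ ?_ p₀ ?_ rfl
    · rwa [mul_smul, mul_smul, inv_smul_eq_iff] at e
    · simp [mul_assoc, ← mul_assoc y, yy]
    · simpa using (MulAut.conj g⁻¹).orderOf_eq h |>.trans ho
    · calc _ = g⁻¹ * (y * h * y) * g := by group
        _ = _ := by rw [hi]; group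
    · simp [mul_smul, h0]
  subst e
  have yp : ∀ p : P, y • y • p = p := fun p => by rw [← mul_smul, yy, one_smul]
  have h1 : h • y • o = y • o := by
    rw [← yp (h • y • o), ← mul_smul y h, ← mul_smul (y * h), hi, inv_smul_eq_iff.2 h0.symm]
  obtain ⟨p, h2, n1, n2⟩ := F h _ (ho ▸ hl) (ho ▸ l2) h0 h1 (yf o)
  obtain ⟨c, c1, -, c3⟩ := T' h p o (y • o) h2 h0 h1 n1.symm n2.symm
  obtain ⟨d, d1, d2, d3⟩ := T' h (y • o) (c • y • o) o h1 (by rw [← mul_smul, ← c1, mul_smul, h1]) h0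
    (fun e => yf o (MulAction.injective c (e.trans c3.symm))) (yf o).symm
  have := A (y * (d * c)) h (y • o) (yf o) (by rw [mul_smul, mul_smul, c3, d2, yp])
    (by rw [mul_smul, mul_smul, d3]) h0 h1
  rw [mul_assoc, mul_assoc, c1, ← mul_assoc d, d1, mul_assoc, ← mul_assoc, ← mul_assoc h,
    mul_left_inj] at this
  rw [this, mul_assoc, yy, mul_one] at hi
  exact hl.ne_one (ho.symm.trans (orderOf_eq_one_iff.2 (Sz.eq_one_of_odd_of_sq
    (ho ▸ hl.odd_of_ne_two l2) (mul_eq_one_iff_eq_inv.2 hi))))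

end Perm

variable {G : Type} [Group G] [Finite G] {E K M : Subgroup G} {a : ℕ}

/-- a cocycle that is onto and vanishes on a Singer cycle -/
theorem aff_no [Fld] (s : Sing E K) (hc : #|E| = 2 ^ a) (ha : Even a) (h2 : IsPGroup 2 𝐂(E))
    (hM : M ≤ 𝐍(E)) (hK : K ≤ M) (z : G → G) (zE : ∀ g ∈ M, z g ∈ E)
    (zm : ∀ g ∈ M, ∀ h ∈ M, z (g * h) = z g * (g * z h * g⁻¹)) (zC : ∀ g ∈ M, g ∈ 𝐂(E) → z g = 1)
    (zK : ∀ k ∈ K, z k = 1) (zs : ∀ e ∈ E, ∃ g ∈ M, z g = e)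
    (z1 : ∀ g ∈ M, z g = 1 → ∃ r ∈ 𝐂(E), r⁻¹ * g ∈ 𝐍(K)) : False := by
  letI : MulAction M E :=
    { smul := fun g e => ⟨z g * (g * e * (g : G)⁻¹), E.mul_mem (zE _ g.2)
        (conj_mem_of_mem_normalizer (hM g.2) e.2)⟩
      one_smul := fun e => Subtype.ext (show z 1 * (1 * e * (1 : G)⁻¹) = e by
        rw [zC 1 M.one_mem (one_mem _)]; simp)
      mul_smul := fun g h e => Subtype.ext (show z (g * h) * (g * h * e * (g * h : G)⁻¹) =
        z g * (g * (z h * (h * e * (h : G)⁻¹)) * (g : G)⁻¹) by rw [zm _ g.2 _ h.2]; group) }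
  let f := (toPermHom M E).rangeRestrict
  have hf : Function.Surjective f := MonoidHom.rangeRestrict_surjective _
  have hs : ∀ (g : M) (e : E), ((f g • e : E) : G) = z g * (g * e * (g : G)⁻¹) := fun _ _ => rfl
  have h1 : ∀ g : M, f g • (1 : E) = 1 → z g = 1 := fun g e => by
    simpa using (hs g 1).symm.trans (congrArg Subtype.val e)
  have hc1 : ∀ (g : M) (e : E), f g • (1 : E) = 1 → (f g • e = e ↔ (g : G) ∈ 𝐂[(e : G)]) :=
    fun g e h => by rw [Subtype.ext_iff, hs, h1 g h, one_mul, mul_inv_eq_iff_eq_mul, mem_cent1]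
  have faith : ∀ g : (toPermHom M E).range, (∀ p : E, g • p = p) → g = 1 := fun g hg =>
    Subtype.ext (Equiv.ext hg)
  have hk : ∀ g : M, f g = 1 ↔ (g : G) ∈ 𝐂(E) := fun g =>
    ⟨fun e => mem_cent.2 fun x hx => (mem_cent1.1 ((hc1 g ⟨x, hx⟩ (by rw [e, one_smul])).1
      (by rw [e, one_smul]))).symm, fun e => faith _ fun p => Subtype.ext (by
        rw [hs, zC _ g.2 e, one_mul, ← mem_cent.1 e _ p.2, mul_inv_cancel_right])⟩
  let l := E.normalizerMonoidHom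
  have hl : ∀ g ∈ 𝐍(E), xt l g = 1 ↔ g ∈ 𝐂(E) := fun g hg => by
    rw [xt_eq l hg, ← MonoidHom.mem_ker, normalizerMonoidHom_ker]; rfl
  have cm : ∀ g h : M, xt l g * xt l h = xt l h * xt l g → f g * f h = f h * f g := fun g h e => by
    have m1 := hM (g * h).2
    have m2 := inv_mem (hM (h * g).2)
    rw [← map_mul, ← map_mul, ← mul_inv_eq_one, ← map_inv, ← map_mul, hk]
    refine (hl _ (mul_mem m1 m2)).1 ?_
    rw [xt_mul m1 m2, xt_inv (hM (h * g).2), coe_mul, coe_mul, xt_mul (hM g.2) (hM h.2), e,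
      xt_mul (hM h.2) (hM g.2), mul_inv_cancel]
  have dec : ∀ (g : M) (e : E), f g • (1 : E) = 1 → f g • e = e →
      ∃ d ∈ 𝐍(E) ⊓ 𝐍(K) ⊓ 𝐂[(e : G)], xt l d = xt l g ∧ ∀ x ∈ E, d * x * d⁻¹ = g * x * (g : G)⁻¹ :=
    fun g e e1 e2 => by
      obtain ⟨r, hr, m⟩ := z1 _ g.2 (h1 g e1)
      have rN := inv_mem (cent_le_norm _ hr)
      refine ⟨r⁻¹ * g, mem_inf.2 ⟨mem_inf.2 ⟨mul_mem rN (hM g.2), m⟩, mul_mem (inv_mem
        (mem_cent1.2 (mem_cent.1 hr _ e.2).symm)) ((hc1 g e e1).1 e2)⟩, ?_, fun x hx => ?_⟩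
      · rw [xt_mul rN (hM g.2), (hl _ rN).2 (inv_mem hr), one_mul]
      · calc _ = r⁻¹ * (g * x * (g : G)⁻¹ * r) := by group
          _ = _ := by
            rw [mem_cent.1 hr _ (conj_mem_of_mem_normalizer (hM g.2) hx), inv_mul_cancel_left]
  haveI : Nontrivial E := (nontrivial_iff_ne_bot E).2 s.ne
  refine perm_no (H := (toPermHom M E).range) hc (1 : E) (fun e => ?_) faith ?_ (fun h p p' => ?_)
    (fun g h p => ?_) fun h p => ?_
  · obtain ⟨g, hg, e'⟩ := zs e e.2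
    exact ⟨f ⟨g, hg⟩, Subtype.ext (by simpa [hs] using e')⟩
  · have pO := pgroup_mpre (f := f) (pCore_isPGroup 2 _) (h2.to_le fun x hx =>
      (hk ⟨x, mker_le f hx⟩).1 (coe_mem_mker.1 hx))
    obtain ⟨⟨e, he⟩, e1⟩ := ne_bot_iff_exists_ne_one.1 (inf_cent_ne_bot_of_pgroup Nat.prime_two
      (pgroup_of_card hc) pO ((mpre_le _ _).trans hM) s.ne)
    refine eq_bot_iff.2 fun x hx => ?_
    obtain ⟨x, rfl⟩ := hf x
    refine (hk x).2 (mem_cent.2 fun e' he' => ?_)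
    by_cases e1' : e' = 1
    · simp [e1']
    obtain ⟨k, hk', rfl⟩ := s.tr e he.1 (fun h => e1 (Subtype.ext h)) e' he' e1'
    exact (mem_cent.1 (conj_mem_of_mem_normalizer (le_norm_cent (le_norm_mpre hK
      (le_top.trans (normalizer_eq_top _).ge)) hk') he.2) x (coe_mem_mpre.2 hx)).symm
  · obtain ⟨h, rfl⟩ := hf h
    intro e0 e1 e2 n1 n2
    obtain ⟨k, hk', e⟩ := s.tr p p.2 (fun e => n1 (Subtype.ext e)) p' p'.2 fun e => n2 (Subtype.ext e)
    obtain ⟨d, m, e3, e4⟩ := dec h p e0 e1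
    have e5 := e4 _ p'.2
    rw [mul_inv_eq_iff_eq_mul.2 (mem_cent1.1 ((hc1 h p' e0).1 e2)), ← e] at e5
    have c3 := s.free _ (K.mul_mem (K.inv_mem hk') (conj_mem_of_mem_normalizer m.1.2 hk')) p p.2
      (fun e => n1 (Subtype.ext e)) (by
        calc _ = k⁻¹ * (d * (k * (d⁻¹ * p))) := by group
          _ = k⁻¹ * (d * (k * p * k⁻¹) * d⁻¹) * (d * k * d⁻¹) := by
            rw [mem_cent1.1 (inv_mem m.2)]; group
          _ = _ := by rw [e5]; group)
    refine ⟨f ⟨k, hK hk'⟩, cm _ _ ?_, Subtype.ext (by simp [hs, zK k hk']),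
      Subtype.ext (by rw [hs, zK k hk', one_mul]; exact e)⟩
    rw [← e3, ← xt_mul (s.norm hk') m.1.1, ← xt_mul m.1.1 (s.norm hk'),
      eq_mul_inv_iff_mul_eq.1 (inv_mul_eq_one.1 c3)]
  · obtain ⟨g, rfl⟩ := hf g
    obtain ⟨h, rfl⟩ := hf h
    intro n1 e1 e2 e3 e4
    obtain ⟨d, m, e5, -⟩ := dec g p e1 e2
    obtain ⟨d', m', e6, -⟩ := dec h p e3 e4
    obtain ⟨x, hx, e⟩ := Fld.gal s p.2 (fun e => n1 (Subtype.ext e)) le_rfl
    have key : ∀ d ∈ 𝐍(E) ⊓ 𝐍(K) ⊓ 𝐂[(p : G)], ∃ n : ℕ, xt l d = xt l x ^ n := fun d m => by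
      obtain ⟨n, hn⟩ := e d m
      have m1 := pow_mem hx.1.1 n
      rw [← hl _ (mul_mem m.1.1 (inv_mem m1)), xt_mul m.1.1 (inv_mem m1), xt_inv m1, mul_inv_eq_one,
        xt_pow hx.1.1] at hn
      exact ⟨n, hn⟩
    obtain ⟨n, hn⟩ := key d m
    obtain ⟨n', hn'⟩ := key d' m'
    exact cm g h (by rw [← e5, ← e6, hn, hn']; exact (Commute.refl _).pow_pow n n')
  · obtain ⟨h, rfl⟩ := hf h
    intro hp p2 e0 e1 n1
    obtain ⟨d, m, e3, e4⟩ := dec h p e0 e1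
    obtain ⟨e5, -⟩ := Fld.fix s p.2 (fun e => n1 (Subtype.ext e)) hp m (by
      rw [← hl _ (pow_mem m.1.1 _), xt_pow m.1.1, e3, ← xt_pow (hM h.2), hl _ (pow_mem (hM h.2) _),
        ← coe_pow, ← hk, map_pow, pow_orderOf_eq_one]) fun e => hp.ne_one (by
      rw [← hl _ m.1.1, e3, hl _ (hM h.2), ← hk] at e
      rw [e, orderOf_one])
    by_contra hn
    push Not at hn
    have le : E ⊓ 𝐂[d] ≤ zpowers (p : G) := fun x hx => by
      by_cases x1 : x = 1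
      · exact x1 ▸ one_mem _
      refine (congrArg Subtype.val (hn ⟨x, hx.1⟩ ((hc1 h _ e0).2 (mem_cent1.2 ?_))
        fun e => x1 (congrArg Subtype.val e))).symm ▸ mem_zpowers _
      rw [← mul_inv_eq_iff_eq_mul, ← e4 x hx.1, ← mem_cent1.1 hx.2, mul_inv_cancel_right]
    rw [le_antisymm le (zpowers_le.2 ⟨p.2, mem_cent1.2 (mem_cent1.1 m.2).symm⟩), Nat.card_zpowers,
      Be.two_of_sq (s.sq _ p.2) (fun e => n1 (Subtype.ext e)), hc] at e5
    exact Nat.not_even_iff_odd.2 (hp.odd_of_ne_two p2) (Nat.pow_right_injective le_rfl e5 ▸ ha)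

end Cfsg.Agent.As.Le
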