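import Cfsg.Agent.As.L1s
import Cfsg.Agent.As.L1e

/-! Type `L₂(q)`: the case `C(E) = R`. -/

set_option autoImplicit false
set_option linter.unusedSectionVars false
set_option linter.style.haveILetI false

namespace Cfsg.Agent.As

open Subgroup MulAction Cfsg.Agent.H1 Cfsg.Agent.L Cfsg.Agent.FT
open Cfsg.Agent.Be (two_conj sq_of_two)
open scoped Pointwise commutatorElement

variable {G Ω : Type} [Group G] [MulAction G Ω] {Z : Set G}
variable {α β : Ω} {u t g y s e : G} {Q K Y : Subgroup G} {q j : ℕ}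
variable [Finite G] [c : Ctx Ω Z] [Be.BeI] [Cnt]

local notation "St" => stabilizer G

/-- conjugates of `u` fixing `α` centralise `E` -/
theorem M1.uu_of_conj (m : M1 Ω Z q j) (h : UU Z α u) (hg : (g * u * g⁻¹) • α = α) :
    UU Z α (g * u * g⁻¹) := by
  have nZ : g * u * g⁻¹ ∉ Z := fun e => h.nZ (by simpa [mul_assoc] using c.conj _ e g⁻¹)
  refine ⟨two_conj h.two g, nZ, m.cls (g • α) α _ (two_conj h.two g) nZ ?_ hg⟩
  rw [← m.conj_E, ← conj_cent]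
  exact conj_mem_conj g h.cE

omit c in
theorem odd_index_St (c : Ctx Ω Z) (α : Ω) : Odd (St α).index := by
  obtain ⟨S, hS⟩ := exists_isSylowIn 2 (⊤ : Subgroup G)
  obtain ⟨γ, h⟩ := Cnt.fix1 (Ω := Ω) (Z := Z) hS.isPGroup
  obtain ⟨g, rfl⟩ := exists_smul c.toRed α γ
  have := (Rg.odd_index hS).of_dvd_nat (index_dvd_of_le h)
  rwa [← Be.P1.conj_st, show (g ⋆ St α).index = (St α).index from index_map_equiv _ _] at this

namespace L1S
variable (h : L1S Z α β u t Q K q Y)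
include h

theorem exists_sq (he : e ∈ Ea Z α) : ∃ s ∈ Y, s * s = e := by
  let φ : Y →* G := MonoidHom.mk' (fun x => (x : G) * x) fun x y => by
    simp only [coe_mul]
    rw [mul_assoc, ← mul_assoc (y : G), mem_cent.1 (h.comm x.2) y y.2]; group
  have h1 := card_mim_mul φ le_rfl
  rw [show mker φ ⊓ Y = Ea Z α from le_antisymm (fun x hx => h.one x hx.2 (coe_mem_mker.1
    (show ((⟨x, hx.2⟩ : Y) : G) ∈ mker φ from hx.1))) fun x hx => ⟨(coe_mem_mker (x := ⟨x, h.EY hx⟩)).2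
      (h.cm.m1.sqE x hx), h.EY hx⟩, h.card, ← h.cm.loc.cardE, pow_two] at h1
  obtain ⟨x, hx, e⟩ := mem_mim.1 ((eq_of_le_of_card_le (fun y hy => let ⟨x, hx, e⟩ := mem_mim.1 hy
    e ▸ h.sq x hx) (Nat.eq_of_mul_eq_mul_right Nat.card_pos h1).ge).ge he)
  exact ⟨x, hx, e⟩

variable (hC : 𝐂(Ea Z α) ≤ Ru Z α u)
include hC

theorem mem_uu (hy : UU Z α y) : u * y ∈ Y := h.inv_mem (hC hy.cE) hy.uu (h.cm.m1.notE hy)

theorem nY : St α ≤ 𝐍(Y) :=
  (le_inf (le_antisymm hC Ru_le ▸ h.cm.m1.nC) h.cm.m1.nE).trans h.norm_Y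

theorem conj_u (hy : UU Z α y) : ∃ g : G, g • α = α ∧ g * u * g⁻¹ = y := by
  obtain ⟨γ, _, _, _, m⟩ := h.cm.m1.cm h.cm.j3 hy
  obtain ⟨g, h1, h2⟩ := tr2 c m.ne.symm h.cm.ne.symm
  have m1 := h.mem_uu hC (h.cm.m1.uu_conj hy h1)
  have m2 : (u * (g * y * g⁻¹)) • β = β := by
    rw [mul_smul, ← h2, Be.conj_smul_smul m.uβ, h2, h.cm.uβ]
  have e : ∀ x ∈ Ea Z α, x • β = β → x = 1 := fun x hx e =>
    by_contra fun x1 => h.cm.ne (h.cm.m1.E_fix hx x1 e).symm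
  have := e _ (h.one _ m1 (e _ (h.sq _ m1) (by rw [mul_smul, m2, m2]))) m2
  exact ⟨g⁻¹, inv_smul_eq_iff.2 h1.symm, by rw [← h.ui, inv_eq_of_mul_eq_one_right this]; group⟩

theorem odd [Det] {a : ℕ} (hq : q = 2 ^ a) (ha : Odd a) : False := by
  obtain ⟨M, h1, h2, h3, h4⟩ := Det.det h.comm (E := Ea Z α) (fun y => ⟨fun e => ⟨h.EY e, h.cm.m1.sqE y e⟩,
    fun e => h.one y e.1 e.2⟩) h.sq (hq ▸ h.cm.loc.cardE) (by rw [h.card, hq, ← pow_mul, mul_comm, pow_mul]; rfl)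
    ha (h.nY hC)
  have uα := h.cm.m1.C_le h.cm.uu.cE
  refine h4 u uα h.inv (Rg.transfer (Ω := Ω) (Z := Z) (NormalIn.of_der1_le h1 h2)
    (fun x hx y hy => h2 (commutator_mem_commutator hx hy)) (odd_index_St c α) h.uu uα
    fun g hg => ?_)
  have m := h.cm.m1.uu_of_conj h.cm.uu hg
  have := Subgroup.inv_mem _ (h.mem_uu hC m)
  rw [mul_inv_rev, h.ui, inv_eq_of_mul_eq_one_right m.uu] at this
  exact h3 ⟨mul_mem hg uα, h.comm this⟩

theorem even [Fld] {a : ℕ} (hq : q = 2 ^ a) (ha : Even a) : False := by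
  have sY : ∀ g ∈ St α, u * (g * u * g⁻¹) ∈ Y := fun g hg => h.mem_uu hC (h.cm.m1.uu_conj h.cm.uu hg)
  refine Le.aff_no h.cm.loc.sing (hq ▸ h.cm.loc.cardE) ha (h.cm.R_two.to_le hC) h.cm.m1.nE
    (fun k hk => h.cm.Kα hk) (fun g => u * (g * u * g⁻¹) * (u * (g * u * g⁻¹)))
    (fun g hg => h.sq _ (sY g hg)) (fun g hg x hx => ?_) (fun g _ hg => ?_) (fun k hk => ?_)
    (fun e he => ?_) fun g hg e => ?_
  · have e1 : u * (g * x * u * (g * x)⁻¹) = u * (g * u * g⁻¹) * (g * (u * (x * u * x⁻¹)) * g⁻¹) := by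
      calc _ = u * (g * (u * u) * (x * u * x⁻¹) * g⁻¹) := by rw [h.uu]; group
        _ = _ := by group
    have e2 := mem_cent.1 (h.comm (sY g hg)) _ (conj_mem_of_mem_normalizer (h.nY hC hg) (sY x hx))
    simp only [e1]
    rw [← conj_mul (a := u * (x * u * x⁻¹)), mul_assoc, ← mul_assoc (g * _ * g⁻¹), e2]
    simp only [mul_assoc]
  · exact h.cm.m1.sqE _ (by simpa only [h.ui] using (hC hg).2)
  · simp only [h.cm.Ku hk, h.uu, mul_one]
  · obtain ⟨s, hs, e⟩ := h.exists_sq he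
    obtain ⟨g, h1, h2⟩ := h.conj_u hC (h.uu_us hs)
    exact ⟨g, h1, by simp only [h2, ← mul_assoc u u, h.uu, one_mul, e]⟩
  · obtain ⟨s, hs, e⟩ := h.exists_sq (h.one _ (sY g hg) e)
    have sC := Subgroup.inv_mem _ (Ru_le (h.le hs))
    have cu : s * g ∈ 𝐂[u] := mem_cent1.2 (mul_inv_eq_iff_eq_mul.1 (by
      have := h.inv s hs
      rw [h.ui] at this
      calc _ = s * ((u * u) * (g * u * g⁻¹)) * s⁻¹ := by rw [h.uu]; group
        _ = s * u * (s * s) * s⁻¹ := by rw [e]; group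
        _ = s * (u * s * u) * u := by simp only [mul_assoc, h.uu]; group
        _ = u := by rw [this]; group))
    have N1 := h.cm.CN cu
    have α1 : (s * g) • α = α := mul_mem (h.cm.m1.C_le (Ru_le (h.le hs))) hg
    obtain ⟨x, hx, e1⟩ := h.cm.loc.tr ((s * g) • β) (Be.P1.smul_mem_orb N1 ⟨t, h.cm.loc.tN, h.cm.loc.tα⟩)
      fun e => h.cm.ne (MulAction.injective (s * g) (α1.trans e.symm))
    refine ⟨s⁻¹ * x, mul_mem sC (h.cm.loc.QE hx), h.cm.loc.nK ?_⟩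
    rw [mul_inv_rev, inv_inv, mul_assoc]
    exact ⟨mul_mem (Subgroup.inv_mem _ (h.cm.CN (h.cm.L_le (h.cm.Q_le hx)))) N1,
      mul_mem (Subgroup.inv_mem _ (h.cm.m1.C_le (h.cm.loc.QE hx))) α1,
      show (x⁻¹ * (s * g)) • β = β by rw [mul_smul, ← e1, inv_smul_smul]⟩

/-- piece (D) -/
theorem noC [Det] [Fld] : False :=
  let ⟨a, _, hq⟩ := h.cm.loc.pow; (Nat.even_or_odd a).elim (h.even hC hq) (h.odd hC hq)

end L1S

end Cfsg.Agent.As
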