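import Cfsg.Agent.As.P

/-! ZD, part 2: the slice `Reg` (notes/zd2.md). -/

set_option autoImplicit false
set_option maxHeartbeats 400000

namespace Cfsg.Agent.As.Rg

open Subgroup MulAction Cfsg.Agent.H1 Cfsg.Agent.L Cfsg.Agent.FT Cfsg.Agent.FT.B1
open Cfsg.Agent.Be (invs odd_orderOf_of_mem conj_smul_smul odd_core sq_of_two inv_of_two
  ne_one_of_two)
open Cfsg.Agent.Be.P1 (swap_norm pow_inverted pgroup_zpowers')
open scoped Pointwise commutatorElement

variable {G Ω : Type} [Group G] [Finite G] [MulAction G Ω] {Z : Set G}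
variable {a b t u : G} {α β γ : Ω} {H K S : Subgroup G} {n : ℕ}

local notation "St" => stabilizer G

variable [c : Ctx Ω Z] [Be.BeI]

include c in
/-- transfer -/
theorem transfer (hK : K ⊴ H) (hab : ∀ x ∈ H, ∀ y ∈ H, x * y * x⁻¹ * y⁻¹ ∈ K) (ho : Odd H.index)
    (uu : u * u = 1) (hu : u ∈ H) (h : ∀ g : G, g * u * g⁻¹ ∈ H → g * u * g⁻¹ * u ∈ K) : u ∈ K := by
  by_contra huK
  haveI := simple c
  haveI := c.nontriv
  obtain ⟨α⟩ : Nonempty Ω := inferInstance
  obtain ⟨a, ha, hα⟩ := exists_II c.toRed α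
  have ht : commutator G = ⊤ := (Normal.eq_bot_or_eq_top inferInstance).resolve_left fun e =>
    stab_ne_top c.toRed α (eq_top_iff.2 fun g _ => fix_of_comm ha hα
      (commutatorElement_eq_one_iff_mul_comm.1 (mem_bot.1 (e ▸
        commutator_mem_commutator (mem_top g) (mem_top a)))))
  refine H6.not_mem_commutator_of_controlled (p := 2) H K hK.normal_subgroupOf hab
    (Nat.coprime_two_left.2 ho) u hu huK ⟨1, by rw [pow_one, sq, uu]⟩ (fun m g hg => ?_)
    (ht ▸ mem_top u)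
  rcases Be.zpowers_cases uu (npow_mem_zpowers u m) with e | e <;> rw [e] at hg ⊢
  · simp
  · rw [inv_eq_of_mul_eq_one_right uu]; exact h g hg

omit [Finite G] c [Be.BeI] in
theorem odd_index (hS : IsSylowIn 2 S ⊤) [Finite G] : Odd S.index :=
  haveI := Fact.mk Nat.prime_two
  Nat.not_even_iff_odd.1 fun e => hS.toSylowTop.not_dvd_index e.two_dvd

include c in
theorem ncard_ne (hn : Nat.card Ω = n + 1) (α : Ω) : {γ : Ω | γ ≠ α}.ncard = n := by
  haveI := finΩ c.toRed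
  have := Set.ncard_add_ncard_compl ({α} : Set Ω)
  rw [Set.ncard_singleton, hn, add_comm] at this
  exact Nat.add_right_cancel this

theorem pg (hn : Nat.card Ω = 2 ^ n + 1) (ha : a ∈ II Z α) (hb : b ∈ II Z α) :
    IsPGroup 2 (closure {a, b} : Subgroup G) := by
  haveI := finΩ c.toRed
  have aa := zsq (Ω := Ω) ha.1
  have i : a * (a * b) * a = (a * b)⁻¹ := by
    rw [← mul_assoc, aa, one_mul, mul_inv_rev, zinv (Ω := Ω) ha.1, zinv (Ω := Ω) hb.1]
  have h1 : IsPGroup 2 (zpowers (a * b)) := (piGrp_iff_isPGroup Nat.prime_two).1 fun p hp hd => by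
    by_contra hp2
    obtain ⟨x, hx, ox⟩ := exists_mem_orderOf_eq hp hd
    obtain ⟨k, rfl⟩ : ∃ k : ℕ, (a * b) ^ k = x := mem_powers_iff_mem_zpowers.2 hx
    have l : zpowers ((a * b) ^ k) ≤ St α :=
      zpowers_le.2 (pow_mem (mul_mem (show a ∈ St α from ha.2) hb.2) k)
    obtain ⟨γ, h2, h3⟩ := Be.P1.exists_fix (O := {γ : Ω | γ ≠ α}) hp (pgroup_zpowers' ox)
      (Set.toFinite _) (fun g hg x hx e => hx (by rw [← l hg] at e; simpa using e)) fun e => hp2
        ((Nat.prime_dvd_prime_iff_eq hp Nat.prime_two).1 (hp.dvd_of_dvd_pow (ncard_ne (Z := Z) hn α ▸ e)))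
    have := b4 ha.1 (mul_inv_mem (Ω := Ω) ha.1 (pow_inverted aa i k) (ox ▸ hp.odd_of_ne_two hp2))
      ha.2 (by rw [mul_smul, l (mem_zpowers _), ha.2])
      (by rw [← mul_assoc, aa, one_mul]; exact h3 (mem_zpowers _)) h2
    rw [left_eq_mul] at this
    rw [this, orderOf_one] at ox
    exact hp.one_lt.ne ox
  refine (pgroup_sup h1 (pgroup_zpowers' (c.two a ha.1)) (.inr (zpowers_le.2
    (mem_norm_of_conj_le ?_)))).to_le ((closure_le _).2 ?_)
  · rw [conj_zpowers, zinv (Ω := Ω) ha.1, i]; exact zpowers_le.2 (inv_mem (mem_zpowers _))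
  · rintro x (rfl | rfl)
    · exact mem_sup_right (mem_zpowers _)
    · have := mul_mem (mem_sup_right (S := zpowers (a * x)) (mem_zpowers a))
        (mem_sup_left (mem_zpowers (a * x)))
      rwa [← mul_assoc, aa, one_mul] at this

omit [Be.BeI] in
theorem conj_II {g : G} (hg : g • α = α) (ha : a ∈ II Z α) : g * a * g⁻¹ ∈ II Z α :=
  ⟨c.conj a ha.1 g, by simpa [hg] using conj_smul_smul ha.2 g⟩

omit [Be.BeI] in
theorem exists_conj_II (ha : a ∈ II Z α) (hb : b ∈ II Z α) : ∃ g : G, g • α = α ∧ g * a * g⁻¹ = b := by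
  haveI := c.nontriv
  obtain ⟨β, hβ⟩ := exists_ne α
  obtain ⟨t, ht, t1, -⟩ := exists_swap_top c.toRed hβ.symm
  obtain ⟨k, hk, e, -⟩ := exists_invs_conj ht t1 hβ.symm ha.1 ha.2 hb.1 hb.2
  exact ⟨k, (core_le _ _ hk.1).1, e⟩

theorem comm (hn : Nat.card Ω = 2 ^ n + 1) (ha : a ∈ II Z α) (hb : b ∈ II Z α) : a * b = b * a := by
  haveI := Fact.mk Nat.prime_two
  have h1 : ∀ a ∈ II Z α, a ∈ (pCore 2 (St α)).map (St α).subtype := fun a ha =>
    mem_map_of_mem _ (H2.baer_mem_pCore (x := (⟨a, ha.2⟩ : St α)) fun g =>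
      ((pg hn ha (conj_II g.2 ha)).comap_subtype (K := St α)).to_le ((closure_le _).2 (by
        rintro x (rfl | rfl)
        · exact Subgroup.subset_closure (k := {a, _}) (.inl rfl)
        · exact Subgroup.subset_closure (k := {a, _}) (.inr rfl))))
  obtain ⟨z, hz, z1, z2⟩ := exists_cent c.toRed ((pCore_isPGroup 2 (St α)).map _) (map_subtype_le _)
  obtain ⟨g, hg, rfl⟩ := exists_conj_II ⟨hz, z1⟩ ha
  have := mem_cent.1 z2 _ (h1 _ (conj_II (g := g⁻¹) (by rw [inv_smul_eq_iff, hg]) hb))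
  calc g * z * g⁻¹ * b = g * (z * (g⁻¹ * b * g⁻¹⁻¹)) * g⁻¹ := by group
    _ = _ := by rw [← this]; group

variable (Z) in
/-- `Z_α ∪ 1` -/
def AA (hn : Nat.card Ω = 2 ^ n + 1) (α : Ω) : Subgroup G where
  carrier := {x | x = 1 ∨ x ∈ II Z α}
  one_mem' := .inl rfl
  mul_mem' := by
    rintro x y (rfl | hx) (rfl | hy)
    · exact .inl (mul_one 1)
    · exact .inr (by rwa [one_mul])
    · exact .inr (by rwa [mul_one])
    by_cases e : x = y
    · exact .inl (e ▸ zsq (Ω := Ω) hx.1)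
    · exact .inr ⟨(clo c).mul x hx.1 y hy.1 e (comm hn hx hy), by rw [mul_smul, hy.2, hx.2]⟩
  inv_mem' := by
    rintro x (rfl | hx)
    · exact .inl inv_one
    · exact .inr (by rwa [zinv (Ω := Ω) hx.1])

variable (hn : Nat.card Ω = 2 ^ n + 1)

theorem sq_AA : Sg.Sq (AA Z hn α) := by
  rintro x (rfl | hx)
  exacts [mul_one 1, zsq (Ω := Ω) hx.1]

theorem AA_normal : AA Z hn α ⊴ St α := ⟨by
  rintro x (rfl | hx)
  exacts [one_mem _, hx.2], le_norm_iff.2 fun g hg => by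
  rintro x (rfl | hx)
  exacts [.inl (by simp), .inr (conj_II hg hx)]⟩

theorem AA_free (ha : a ∈ AA Z hn α) (h : a • β = β) (hne : β ≠ α) : a = 1 :=
  ha.resolve_right fun e => hne (fix_unique e.1 h e.2)

theorem AA_tr (hr : (II Z α).ncard + 1 = 2 ^ n) (h1 : β ≠ α) (h2 : γ ≠ α) :
    ∃ e ∈ AA Z hn α, e • β = γ := by
  haveI := finΩ c.toRed
  have h3 : (AA Z hn α : Set G).ncard = 2 ^ n := by
    rw [← hr, ← Set.ncard_insert_of_notMem (a := 1) fun e => ne_one_of_two (c.two 1 e.1) rfl]; rfl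
  have := Set.surj_on_of_inj_on_of_ncard_le (s := (AA Z hn α : Set G)) (t := {γ : Ω | γ ≠ α})
    (fun e _ => e • β) (fun e he h => h1 (by
      rw [← show e • α = α from (AA_normal hn).le he] at h; simpa using h))
    (fun x y hx hy e => (inv_mul_eq_one.1 (AA_free hn (mul_mem (inv_mem hy) hx)
      (by rw [mul_smul, e, inv_smul_smul]) h1)).symm) (by rw [h3, ncard_ne (Z := Z) hn]) (Set.toFinite _) γ h2
  obtain ⟨e, he, rfl⟩ := this
  exact ⟨e, he, rfl⟩

include hn in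
theorem faith (hr : (II Z α).ncard + 1 = 2 ^ n) (h1 : β ≠ α) {d : G} (hd : d ∈ St α ⊓ St β)
    (hc : d ∈ 𝐂(AA Z hn α)) : d = 1 := c.faith d fun γ => by
  by_cases e : γ = α
  · rw [e]; exact hd.1
  obtain ⟨x, hx, rfl⟩ := AA_tr hn hr h1 e
  rw [smul_smul, ← mem_cent.1 hc x hx, mul_smul, show d • β = β from hd.2]

include hn in
theorem K_comm (hr : (II Z α).ncard + 1 = 2 ^ n) (ht : t ∈ Z) (h1 : t • α = β) (hne : α ≠ β)
    {k k' : G} (hk : k ∈ invs (core {2}ᶜ (St α ⊓ St β)) t)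
    (hk' : k' ∈ invs (core {2}ᶜ (St α ⊓ St β)) t) : k * k' = k' * k := by
  set X := core {2}ᶜ (St α ⊓ St β)
  set A := AA Z hn α
  have XD : X ≤ St α ⊓ St β := core_le _ _
  have tt := zsq (Ω := Ω) ht
  have hn' : ∀ d : X, X.subtype d ∈ 𝐍(A) := fun d => (AA_normal hn).norm (XD d.2).1
  obtain ⟨E, _, _, π, ρ, πm, π0, πs, πρ⟩ := Sz.exists_secRep (X := A) (Y := ⊥) bot_le
    (comm_eq_bot_iff.2 (sq_AA hn).cent).le X.subtype hn' (fun _ => by rw [norm_bot]; trivial)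
  have πi : ∀ x ∈ A, ∀ y ∈ A, π x = π y → x = y := fun x hx y hy e => by
    have h1 := πm x hx y hy
    rw [e, ← πm y hy y hy, sq_AA hn y hy, (π0 1 A.one_mem).2 (mem_bot.2 rfl),
      π0 _ (A.mul_mem hx hy), mem_bot, ← sq_AA hn y hy] at h1
    exact mul_right_cancel h1
  obtain ⟨μ, hμ⟩ := exists_fix Ω ht
  have h2 : t • β = α := h1 ▸ zsmul ht α
  obtain ⟨s, hs, e⟩ := AA_tr hn hr hne.symm (γ := μ) fun e => hne (by rw [← h1, ← e, hμ])
  have s1 : s ≠ 1 := fun e' => hne (by rw [e', one_smul] at e; rw [← h2, e, hμ])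
  have tX : t ∈ 𝐍(X) := (iso_stab2 ht h1 hne).normO
  have it := zinv (Ω := Ω) ht
  let τ : X →* X := MonoidHom.mk' (fun d => ⟨t * d * t⁻¹, conj_mem_of_mem_normalizer tX d.2⟩)
    fun a b => Subtype.ext (by simp [mul_assoc])
  haveI := Be.sol_odd (odd_core (St α ⊓ St β))
  have := Sz.hup ρ (fun d => (odd_core _).of_dvd_nat (orderOf_dvd_natCard d)) (fun x => ?_)
    ((injective_iff_map_eq_one ρ).2 fun d hd => Subtype.ext (faith hn hr hne.symm (XD d.2)
      (mem_cent.2 fun x hx => (mul_inv_eq_iff_eq_mul.1 (πi _ ((mem_normalizer_iff.1 (hn' d) _).1 hx)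
        _ hx (by rw [πρ d x hx, hd]; rfl))).symm)))
    τ (fun d => Subtype.ext (by simp [τ, it, mul_assoc, ← mul_assoc t t, tt])) (s := π s)
    (fun h => s1 ((π0 s hs).1 h)) (fun x hx => ?_) (fun d hd => ?_) (k := ⟨k, hk.1⟩) (k' := ⟨k', hk'.1⟩)
    (Subtype.ext (by simpa [τ, it] using hk.2)) (Subtype.ext (by simpa [τ, it] using hk'.2))
  · exact congrArg Subtype.val this
  · obtain ⟨x, hx, rfl⟩ := πs x
    rw [← πm x hx x hx, sq_AA hn x hx, π0 1 A.one_mem]; rfl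
  · obtain ⟨x, hx', rfl⟩ := πs x
    have m1 := hs.resolve_left s1
    have m2 := hx'.resolve_left fun e => hx ((π0 x hx').2 e)
    obtain ⟨k, hk, e, -⟩ := exists_invs_conj ht h1 hne m1.1 m1.2 m2.1 m2.2
    exact ⟨⟨k, hk.1⟩, by rw [← πρ _ _ hs, ← e]; rfl⟩
  · rw [← πρ _ _ hs]
    congr 1
    have h3 : (d : G) • μ = μ :=
      fix_of_comm ht hμ (mul_inv_eq_iff_eq_mul.1 (congrArg Subtype.val hd)).symm
    refine (inv_mul_eq_one.1 (AA_free hn (mul_mem (inv_mem hs)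
      ((mem_normalizer_iff.1 (hn' d) _).1 hs)) ?_ hne.symm)).symm
    show (s⁻¹ * (d * s * (d : G)⁻¹)) • β = β
    rw [mul_smul, mul_smul, mul_smul, show (d : G)⁻¹ • β = β from (XD (inv_mem d.2)).2, e, h3, ← e,
      inv_smul_smul]

end Cfsg.Agent.As.Rg

namespace Cfsg.Agent.As.Rg

open Subgroup MulAction Cfsg.Agent.H1 Cfsg.Agent.L Cfsg.Agent.FT Cfsg.Agent.FT.B1
open Cfsg.Agent.Be (invs odd_orderOf_of_mem odd_core sq_of_two ne_one_of_two)
open Cfsg.Agent.Be.P1 (pgroup_zpowers')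
open scoped Pointwise commutatorElement

instance instReg [Be.BeI] [Cnt] [Fld] : Reg := ⟨fun {G Ω} _ _ _ {Z} c {n} hn hr u u2 => by
  by_contra hu
  haveI := Fact.mk Nat.prime_two
  have uu := sq_of_two u2
  obtain ⟨α, hα⟩ := Cnt.fix1 (Ω := Ω) (Z := Z) (pgroup_zpowers' u2)
  obtain ⟨β, hne, hβ⟩ := Cnt.fix2 u2 hu (zpowers_le.1 hα)
  obtain ⟨t, ht, h1, h2⟩ := exists_swap_top c.toRed hne.symm
  set A := AA Z hn α
  have nA := AA_normal (Z := Z) (α := α) hn
  have tt := zsq (Ω := Ω) ht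
  let K : Subgroup G :=
    { carrier := invs (core {2}ᶜ (stabilizer G α ⊓ stabilizer G β)) t
      one_mem' := ⟨one_mem _, by simp [tt]⟩
      mul_mem' := fun {x y} hx hy => ⟨mul_mem hx.1 hy.1, by
        rw [K_comm hn (hr α) ht h1 hne.symm hx hy, mul_inv_rev, ← hx.2, ← hy.2,
          ← K_comm hn (hr α) ht h1 hne.symm hx hy]
        simp [mul_assoc, ← mul_assoc t t, tt]⟩
      inv_mem' := fun {x} hx => ⟨inv_mem hx.1, by
        rw [inv_inv, ← hx.2]; simp [mul_assoc, ← mul_assoc t t, tt]⟩ }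
  have KD : K ≤ stabilizer G α ⊓ stabilizer G β := fun _ hk => core_le _ _ hk.1
  obtain ⟨s, hs, s1⟩ := exists_II c.toRed α
  have sing : Sing A K := ⟨sq_AA hn, ne_bot_of_mem (.inr ⟨hs, s1⟩) (ne_one_of_two (c.two s hs)),
    (KD.trans inf_le_left).trans nA.norm,
    fun x hx => mem_cent.2 fun y hy => K_comm hn (hr α) ht h1 hne.symm hy hx,
    fun e he e1 e' he' e1' => by
      have m1 := he.resolve_left e1
      have m2 := he'.resolve_left e1'
      obtain ⟨k, hk, e, -⟩ := exists_invs_conj ht h1 hne.symm m1.1 m1.2 m2.1 m2.2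
      exact ⟨k, hk, e⟩,
    fun k hk e he e1 h => eq_one_of_inv ht hk.2 (odd_orderOf_of_mem (odd_core _) hk.1)
      (he.resolve_left e1).1 (he.resolve_left e1).2 h (h1 ▸ hne)⟩
  have DK : stabilizer G α ⊓ stabilizer G β ≤ 𝐍(K) := fun d hd => by
    obtain ⟨k, hk, -, -, e⟩ := (iso_stab2 ht h1 hne.symm).dec hd
    have : k⁻¹ * d ∈ 𝐍(K) := mem_norm_of_conj_le fun y hy => by
      obtain ⟨x, hx, rfl⟩ := mem_conj'.1 hy
      refine ⟨(core_normal _ _).conj_mem e.1 hx.1, ?_⟩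
      have e' := mem_cent1.1 e.2
      generalize k⁻¹ * d = w at e'
      calc t * (w * x * w⁻¹) * t = w * (t * x * t) * w⁻¹ := by
            rw [← mul_assoc, ← mul_assoc, ← e', mul_assoc _ w⁻¹, (show w⁻¹ * t = t * w⁻¹ by
              rw [inv_mul_eq_iff_eq_mul, ← mul_assoc, e', mul_inv_cancel_right])]; group
        _ = _ := by rw [hx.2]; group
    simpa using mul_mem (le_normalizer (show k ∈ K from hk)) this
  obtain ⟨P, hP, uP⟩ := exists_isSylowIn_ge (pgroup_zpowers' u2) (le_inf hα (zpowers_le.2 (mem_stabilizer_iff.2 hβ)))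
  obtain ⟨e, he, e1, e2⟩ := exists_cent c.toRed hP.isPGroup (hP.le.trans inf_le_left)
  obtain ⟨g, hg, cyc⟩ := Fld.gal (P := P) sing (.inr ⟨he, e1⟩) (ne_one_of_two (c.two e he))
    (le_inf (le_inf ((hP.le.trans inf_le_left).trans nA.norm) (hP.le.trans DK)) (le_cent1_iff.2 e2))
  have Pg : P ≤ zpowers g := fun x hx => by
    obtain ⟨m, hm⟩ := cyc x hx
    rw [mul_inv_eq_one.1 (faith hn (hr α) hne (hP.le (mul_mem hx (inv_mem (pow_mem hg m)))) hm)]
    exact npow_mem_zpowers g m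
  have nP := (hP.le.trans inf_le_left).trans nA.norm
  obtain ⟨S, hS, l⟩ := exists_isSylowIn_ge (pgroup_sup (sq_AA hn).two hP.isPGroup (.inr nP))
    (le_top (a := A ⊔ P))
  obtain ⟨δ, hδ⟩ := Cnt.fix1 (Ω := Ω) (Z := Z) hS.isPGroup
  obtain rfl : δ = α := fix_unique hs (hδ (l (mem_sup_left (.inr ⟨hs, s1⟩)))) s1
  have dec : ∀ x ∈ S, ∃ a ∈ A, ∃ p ∈ P, x = a * p := fun x hx => by
    obtain ⟨a, ha, e⟩ := AA_tr hn (hr δ) hne (γ := x • β) fun e => hne (by
      rw [← show x • δ = δ from hδ hx] at e; simpa using e)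
    have m := mul_mem (inv_mem (l (mem_sup_left ha))) hx
    refine ⟨a, ha, a⁻¹ * x, ?_, by group⟩
    refine (hP.maximal (S ⊓ (stabilizer G δ ⊓ stabilizer G β)) (hS.isPGroup.to_le inf_le_left)
      (le_inf (le_sup_right.trans l) hP.le) inf_le_right).le ⟨m, hδ m, ?_⟩
    show (a⁻¹ * x) • β = β
    rw [mul_smul, ← e, inv_smul_smul]
  have notA : ∀ g : G, g * u * g⁻¹ ∉ A := fun g h => by
    rcases h with h | h
    · exact ne_one_of_two u2 (conj_eq_one_iff.1 h)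
    · exact hu (by simpa [mul_assoc] using c.conj _ h.1 g⁻¹)
  refine notA 1 ?_
  rw [one_mul, inv_one, mul_one]
  refine transfer (Ω := Ω) (Z := Z) ⟨le_sup_left.trans l, hδ.trans nA.norm⟩ (fun x hx y hy => ?_)
    (odd_index hS) uu (l (mem_sup_right (uP (mem_zpowers u)))) fun g hg => ?_
  · obtain ⟨a, ha, p, hp, rfl⟩ := dec x hx
    obtain ⟨b, hb, q, hq, rfl⟩ := dec y hy
    have cm : p * q = q * p := setLike_mul_comm (Pg hp) (Pg hq)
    have := mul_mem (mul_mem (mul_mem ha (conj_mem_of_mem_normalizer (nP hp) hb))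
      (conj_mem_of_mem_normalizer (nP hq) (inv_mem ha))) (inv_mem hb)
    convert this using 1
    calc a * p * (b * q) * (a * p)⁻¹ * (b * q)⁻¹ = a * p * b * (q * p⁻¹) * a⁻¹ * q⁻¹ * b⁻¹ := by group
      _ = _ := by
        rw [show q * p⁻¹ = p⁻¹ * q by rw [eq_inv_mul_iff_mul_eq, ← mul_assoc, cm, mul_inv_cancel_right]]
        group
  · obtain ⟨a, ha, p, hp, e⟩ := dec _ hg
    have pp : p * p = 1 := AA_free hn (by
      have h3 : a * p * (a * p) = 1 := e ▸ H6.conj_mul_self uu g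
      have := inv_mem (mul_mem ha (conj_mem_of_mem_normalizer (nP hp) ha))
      rwa [show (a * (p * a * p⁻¹))⁻¹ = p * p * (a * p * (a * p))⁻¹ * (p * p)⁻¹ * (p * p) by group,
        h3, inv_one, mul_one, mul_inv_cancel, one_mul] at this) (hP.le (mul_mem hp hp)).2 hne
    have p1 : p ≠ 1 := fun e' => notA g (by rwa [e, e', mul_one])
    have h4 := eq_of_cyclic_of_card_eq (cyclic_zpowers _) (zpowers_le.2 (Pg hp)) (uP.trans Pg)
      (by rw [Nat.card_zpowers, Nat.card_zpowers, u2, Be.two_of_sq pp p1])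
    have h5 := (Be.zpowers_cases uu (h4 ▸ mem_zpowers p)).resolve_left p1
    rwa [e, h5, mul_assoc, uu, mul_one]⟩

end Cfsg.Agent.As.Rg
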