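import Cfsg.Agent.As.L1s
import Cfsg.Agent.As.Cm2
import Cfsg.Agent.As.Rg
import Cfsg.Agent.As.Num

/-! Type `L₂(q)`: the case `N_C(R) > R` (notes/zd2.md). -/

set_option autoImplicit false
set_option linter.unusedSectionVars false

namespace Cfsg.Agent.As

open Subgroup MulAction Cfsg.Agent.H1 Cfsg.Agent.L Cfsg.Agent.FT
open Cfsg.Agent.Be (conj_smul_smul)
open Cfsg.Agent.Be.P1 (orb orb_mono smul_ne')
open scoped Pointwise commutatorElement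

variable {G Ω : Type} [Group G] [MulAction G Ω] {Z : Set G} [Finite G]
variable {α β : Ω} {u t y s n g : G} {Q K Y P S C : Subgroup G} {q : ℕ}

local notation "St" => stabilizer G

theorem mem_of_mem_comm_sup (hS : S ≤ 𝐍(C)) (hK : K ≤ 𝐍(C)) (hd : ⁅S, S⁆ ≤ C) (hn : K ≤ 𝐍(S))
    (hc : (#|K|).Coprime #|S|) (hu : u ∈ S ⊓ 𝐂(K)) (h : u ∈ ⁅S, K⁆ ⊔ C) : u ∈ C := by
  haveI := (comm_quo_iff hS).2 hd
  refine (quo_eq_bot_iff (H := zpowers u) (zpowers_le.2 (hS hu.1))).1 (eq_bot_iff.2 ?_) (mem_zpowers u)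
  rw [← inf_centralizer_inf_commutator_eq_bot (mim_le_norm (coset C) hn)
    ((hc.coprime_dvd_left (card_mim_dvd _ _)).coprime_dvd_right (card_mim_dvd _ _)),
    ← mim_comm _ hS hK, ← quo_sup_right ((comm_le_left hn).trans hS)]
  exact le_inf (le_inf (mim_mono _ (zpowers_le.2 hu.1)) (mim_le_cent _ (zpowers_le.2 hu.2)))
    (mim_mono _ (zpowers_le.2 h))

namespace L1S
variable [c : Ctx Ω Z] (h : L1S Z α β u t Q K q Y)
include h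

local notation "S₀" => 𝐂(Ea Z α) ⊓ 𝐍(Ru Z α u)

theorem S_norm : S₀ ≤ 𝐍(Y) := fun _ hn => h.norm_Y ⟨hn.2, cent_le_norm _ hn.1⟩

theorem mem_E_of_sq (hs : s ∈ Y) (hy : y ∈ Y) (e : s * s = y * y) : s⁻¹ * y ∈ Ea Z α :=
  h.one _ (mul_mem (InvMemClass.inv_mem hs) hy) (by
    rw [mul_assoc, ← mul_assoc y, mem_cent.1 (h.comm (InvMemClass.inv_mem hs)) y hy, mul_assoc, ← e]; group)

theorem conj_mod (hn : n ∈ S₀) (hs : s ∈ Y) : s⁻¹ * (n * s * n⁻¹) ∈ Ea Z α :=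
  h.mem_E_of_sq hs (conj_mem_of_mem_normalizer (h.S_norm hn) hs) (by
    rw [conj_mul, ← mem_cent.1 hn.1 _ (h.sq s hs), mul_inv_cancel_right])

theorem phi_mem (hn : n ∈ S₀) : u⁻¹ * (n * u * n⁻¹) ∈ Y := by
  rw [h.ui]
  refine (h.cov _ (conj_mem_of_mem_normalizer hn.2 h.uR)).resolve_left fun e => h.uY ?_
  simpa [mul_assoc] using conj_mem_of_mem_normalizer' (h.S_norm hn) e

theorem der_le : ⁅S₀, S₀⁆ ≤ 𝐂(Y) := by
  have h1 : ⁅⁅Y, S₀⁆, S₀⁆ = ⊥ := comm_eq_bot_iff.2 ((commutator_le.2 fun s hs n hn => by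
    simpa [commutatorElement_def, mul_assoc] using h.conj_mod hn (InvMemClass.inv_mem hs)).trans
      (le_cent_comm.1 inf_le_left))
  exact comm_eq_bot_iff.1 (commutator_commutator_eq_bot_of_rotate (by rwa [commutator_comm (S₀) Y]) h1)

theorem S_two [Cnt] : IsPGroup 2 (S₀ : Subgroup G) := fun ⟨n, hn⟩ => by
  obtain ⟨k, hk⟩ := h.cm.R_two ⟨n * n, mul_mem hn.1 hn.1, by
    simpa [mul_assoc] using mul_mem (h.sq _ (h.phi_mem hn)) (h.conj_mod hn (h.phi_mem hn))⟩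
  exact ⟨k + 1, Subtype.ext (by simpa [pow_succ', pow_mul, pow_two] using congrArg Subtype.val hk)⟩

theorem R_le : Ru Z α u ≤ S₀ := le_inf Ru_le le_normalizer

variable [Cnt]

theorem K_S : K ≤ 𝐍(S₀) := le_normalizer_inf (fun _ hk => h.cm.m1.nC (h.cm.Kα hk))
  (h.cm.K_R.trans (normalizer_le_normalizer_normalizer _))

theorem K_Y : K ≤ 𝐍(Y) := (le_inf h.cm.K_R h.cm.loc.sing.norm).trans h.norm_Y

theorem cent_K : S₀ ⊓ 𝐂(K) ≤ Ru Z α u := fun n hn => by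
  obtain ⟨k, hk, k1⟩ := h.cm.exists_k
  have e := h.cm.phi_K hk n
  rw [mem_cent.1 hn.2 k hk, mul_inv_cancel_right, eq_mul_inv_iff_mul_eq] at e
  refine ⟨hn.1.1, h.one _ (h.phi_mem hn.1) (by_contra fun e' => k1 ?_)⟩
  exact h.cm.loc.sing.free k hk _ (h.sq _ (h.phi_mem hn.1)) e'
    (by rw [← mul_assoc, ← e, mul_assoc _ k, ← e, ← mul_assoc _ _ k])

theorem phi_surj (hn : n ∈ S₀) (hR : n ∉ Ru Z α u) (hy : y ∈ Y) :
    ∃ m ∈ S₀, u⁻¹ * (m * u * m⁻¹) = y := by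
  have h1 := h.phi_mem hn
  have key : ∀ e ∈ Ea Z α, e ≠ 1 → ∃ k ∈ K, k * (u⁻¹ * (n * u * n⁻¹)) * k⁻¹ *
      (k * (u⁻¹ * (n * u * n⁻¹)) * k⁻¹) = e := fun e he e1 => by
    simpa only [conj_mul] using h.cm.loc.sing.tr _ (h.sq _ h1) (fun e => hR ⟨hn.1, h.one _ h1 e⟩) e he e1
  have hE : ∀ e ∈ Ea Z α, ∃ m ∈ Y, u⁻¹ * (m * u * m⁻¹) = e := fun e he => by
    rcases eq_or_ne e 1 with rfl | e1
    · exact ⟨1, one_mem _, by simp⟩
    obtain ⟨k, hk, e2⟩ := key e he e1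
    have h2 := InvMemClass.inv_mem (conj_mem_of_mem_normalizer (h.K_Y hk) h1)
    refine ⟨_, h2, ?_⟩
    generalize k * (u⁻¹ * (n * u * n⁻¹)) * k⁻¹ = m at h2 e2
    rw [← mul_assoc, ← mul_assoc, h.ui, ← congrArg (u * _ * · * _) h.ui, h.inv _ h2, inv_inv, e2]
  by_cases h2 : y ∈ Ea Z α
  · obtain ⟨m, hm, e⟩ := hE y h2
    exact ⟨m, h.R_le (h.le hm), e⟩
  obtain ⟨k, hk, e⟩ := key _ (h.sq y hy) fun e => h2 (h.one y hy e)
  obtain ⟨m, hm, e1⟩ := hE _ (h.mem_E_of_sq (conj_mem_of_mem_normalizer (h.K_Y hk) h1) hy e)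
  have h3 := conj_mem_of_mem_normalizer (h.K_S hk) hn
  exact ⟨_, mul_mem h3 (h.R_le (h.le hm)), by
    rw [phi_mul h3.1 (h.le hm), e1, h.cm.phi_K hk, mul_inv_cancel_left]⟩

/-- the conjugates of `u` in `S₀` invert `Y` -/
theorem conj_inv (hg : g • α = α) (hy : g * u * g⁻¹ ∈ S₀) : g * u * g⁻¹ * u ∈ 𝐂(Y) := by
  refine mem_cent.2 fun s hs => ?_
  have h1 : g * u * g⁻¹ * s⁻¹ * (g * u * g⁻¹)⁻¹ = s := by
    by_cases hE : s ∈ Ea Z α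
    · rw [h.cm.m1.sqE.inv hE, ← mem_cent.1 hy.1 s hE, mul_inv_cancel_right]
    have h2 : s⁻¹ ∈ g ⋆ Ru Z α u := by
      rw [h.cm.m1.conj_Ru hg]
      exact ⟨Ru_le (h.le (InvMemClass.inv_mem hs)), by simpa [mul_assoc] using InvMemClass.inv_mem (h.conj_mod (InvMemClass.inv_mem hy) hs)⟩
    have h3 := h.inv _ (h.mem_iff.2 ⟨mem_conj.1 h2, Or.inr fun e => hE (h.one s hs (by
      have : s * s = g * (g⁻¹ * s⁻¹ * g * (g⁻¹ * s⁻¹ * g))⁻¹ * g⁻¹ := by simp [mul_assoc]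
      rw [this, e]; group))⟩)
    calc _ = g * (u * (g⁻¹ * s⁻¹ * g) * u⁻¹) * g⁻¹ := by group
      _ = s := by rw [h3]; group
  generalize g * u * g⁻¹ = y at h1
  rw [mul_assoc y, mul_inv_eq_iff_eq_mul.1 (h.inv s hs), ← mul_assoc y, mul_inv_eq_iff_eq_mul.1 h1,
    mul_assoc]

variable [Be.BeI] [LocE]

theorem S_inf : S₀ ⊓ St β = Tu Ω u := by
  refine le_antisymm (fun x hx => ?_) (le_inf (h.cm.T_le_Y.trans (Yu_le_Ru.trans h.R_le))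
    (inf_le_left.trans h.cm.Wβ))
  have h1 := h.cm.mem_W hx.1.1 hx.2
  have h2 : u⁻¹ * (x * u * x⁻¹) ∈ Wu Ω u := mul_mem (InvMemClass.inv_mem self_mem_Tu.1)
    (mul_mem (mul_mem h1 self_mem_Tu.1) (InvMemClass.inv_mem h1))
  have h3 := h.phi_mem hx.1
  exact ⟨h1, ((mem_Yu_iff hx.1.1).2 (h.cm.EW (h.one _ h3 (h.cm.EW (h.sq _ h3) (mul_mem h2 h2))) h2)).2⟩

theorem card_Ω : Nat.card Ω = q ^ 3 + 1 := by
  obtain ⟨r, rfl⟩ := Nat.exists_eq_add_of_le' (show 1 ≤ q by have := h.cm.four_le; omega)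
  rw [h.cm.m1.card, Nat.add_sub_cancel]; ring

theorem orb_S (hn : n ∈ S₀) (hR : n ∉ Ru Z α u) : orb (S₀) β = Set.univ \ {α} := by
  haveI := finΩ c.toRed
  have e1 := card_conj (H := S₀) (x := u) (S := (u * ·) '' Y) fun y => ⟨by
    rintro ⟨y, hy, rfl⟩
    obtain ⟨m, hm, e⟩ := h.phi_surj hn hR hy
    exact ⟨m, hm, inv_mul_eq_iff_eq_mul.1 e⟩, fun ⟨m, hm, e⟩ => ⟨_, h.phi_mem hm, by simp [← e]⟩⟩
  rw [Set.ncard_image_of_injective _ (mul_right_injective u), ← Nat.card_coe_set_eq, SetLike.coe_sort_coe,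
    h.card, show S₀ ⊓ 𝐂[u] = Yu Z α u from le_antisymm (inf_le_inf_right _ inf_le_left)
      (le_inf (Yu_le_Ru.trans h.R_le) inf_le_right), h.cm.card_Y, card_orb _ β, h.S_inf,
    ← mul_assoc] at e1
  refine Set.eq_of_subset_of_ncard_le (by
    rintro _ ⟨g, hg, rfl⟩
    exact ⟨trivial, smul_ne' (h.cm.m1.C_le hg.1) h.cm.ne.symm⟩) ?_
  rw [Nat.eq_of_mul_eq_mul_right Nat.card_pos e1, Set.ncard_sdiff_singleton_of_mem (Set.mem_univ _),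
    Set.ncard_univ, h.card_Ω, Nat.add_sub_cancel, ← pow_add]

theorem odd_index {H : Subgroup G} (hn : n ∈ S₀) (hR : n ∉ Ru Z α u) (hP : IsSylowIn 2 P (St α ⊓ St β))
    (h1 : S₀ ≤ H) (h2 : P ≤ H) (h3 : H ≤ St α) : Odd H.index := by
  haveI := Fact.mk Nat.prime_two
  have key : ∀ X : Subgroup G, S₀ ≤ X → X ≤ St α → #|X| = q ^ 3 * #|X ⊓ St β| := fun X h1 h2 => by
    rw [card_orb X β, show orb X β = Set.univ \ {α} from Set.Subset.antisymm (by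
      rintro _ ⟨g, hg, rfl⟩
      exact ⟨trivial, smul_ne' (h2 hg) h.cm.ne.symm⟩) (h.orb_S hn hR ▸ fun _ => orb_mono h1),
      Set.ncard_sdiff_singleton_of_mem (Set.mem_univ _), Set.ncard_univ, h.card_Ω, Nat.add_sub_cancel]
  have e := card_orb (⊤ : Subgroup G) α
  obtain ⟨i, e1⟩ := card_dvd_of_le (le_inf h2 (hP.le.trans inf_le_right))
  rw [show orb ⊤ α = Set.univ from Set.eq_univ_of_forall fun γ =>
      let ⟨g, e⟩ := exists_smul c.toRed α γ; ⟨g, trivial, e⟩, Set.ncard_univ, h.card_Ω, top_inf_eq,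
    key _ (h1.trans h3) le_rfl, card_top, ← H.card_mul_index, key H h1 h3, e1,
    ← card_mul_relIndex_of_le hP.le] at e
  have := h.cm.four_le
  refine Odd.of_dvd_nat (Odd.mul (Even.add_one ((even_iff_two_dvd.2 h.cm.two_dvd).pow_of_ne_zero
    three_ne_zero)) (Nat.not_even_iff_odd.1 fun e => hP.not_dvd_relIndex (even_iff_two_dvd.1 e)))
    (Dvd.intro_left i (Nat.eq_of_mul_eq_mul_left (Nat.mul_pos (Nat.pow_pos (n := 3) (show 0 < q by omega))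
      (Nat.card_pos (α := P))) ?_))
  linear_combination e

theorem P_inf (hP : IsSylowIn 2 P (St α ⊓ St β)) (hu : u ∈ P) (hy : y ∈ P) (hW : y ∈ Wu Ω u) :
    y = 1 ∨ y = u :=
  h.T2 y ((h.cm.sylT.maximal (P ⊓ Wu Ω u) (hP.isPGroup.to_le inf_le_left) (fun w hw => ⟨by
    rcases h.T2 w hw with rfl | rfl
    exacts [one_mem _, hu], hw.1⟩) inf_le_right).le ⟨hy, hW⟩)

theorem P_cent (hP : IsSylowIn 2 P (St α ⊓ St β)) (hu : u ∈ P) : P ≤ 𝐂[u] := fun p hp =>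
  mem_cent1.2 (mul_inv_eq_iff_eq_mul.1 ((h.P_inf hP hu (mul_mem (mul_mem hp hu) (InvMemClass.inv_mem hp))
    (h.cm.vs.ker ▸ Ker_normal.conj_mem (h.cm.DN (hP.le hp)) (h.cm.vs.ker ▸ self_mem_Tu.1))).resolve_left
      fun e => h.cm.uu.ne (by simpa using e)))

theorem P_comm [Fld] (hP : IsSylowIn 2 P (St α ⊓ St β)) (hu : u ∈ P) : IsMulCommutative P := by
  obtain ⟨e, he, e1, e2⟩ := exists_cent c.toRed hP.isPGroup (hP.le.trans inf_le_left)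
  obtain ⟨g, hg, h1⟩ := Fld.gal h.cm.loc.sing ((h.cm.m1.memE α e).2 (Or.inr ⟨he, e1⟩))
    (Be.ne_one_of_two (c.two e he)) (P := P) fun x hx => ⟨⟨h.cm.m1.nE (hP.le hx).1, h.cm.DK (hP.le hx)⟩,
      mem_cent1.2 (mem_cent.1 e2 x hx)⟩
  have key : ∀ x ∈ P, g ∈ 𝐂[x] → P ≤ 𝐂[x] := fun x hx hc y hy => by
    obtain ⟨n, h2⟩ := h1 y hy
    have h3 := mul_mem hy (InvMemClass.inv_mem (pow_mem hg n))
    refine (mul_mem_cancel_right (InvMemClass.inv_mem (pow_mem hc n))).1 ?_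
    rcases h.P_inf hP hu h3 (h.cm.mem_W h2 (hP.le h3).2) with e | e <;> rw [e]
    exacts [one_mem _, mem_cent1.2 (mem_cent1.1 (h.P_cent hP hu hx)).symm]
  exact ⟨⟨fun x y => Subtype.ext (mem_cent1.1 (key y y.2
    (mem_cent1.2 (mem_cent1.1 (key g hg (self_mem_cent1 g) y.2)).symm) x.2))⟩⟩

theorem noN [Fld] (hN : ¬ S₀ ≤ Ru Z α u) : False := by
  obtain ⟨n, hn, hR⟩ := SetLike.not_le_iff_exists.1 hN
  haveI := Fact.mk Nat.prime_two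
  have uα := h.cm.m1.C_le h.cm.uu.cE
  obtain ⟨P, hP, hu⟩ := exists_isSylowIn_ge (Be.P1.pgroup_zpowers' h.cm.uu.two)
    (zpowers_le.2 (show u ∈ St α ⊓ St β from ⟨uα, h.cm.uβ⟩))
  replace hu := hu (mem_zpowers u)
  have cop := (Sg.cop_two h.S_two h.cm.odd_K).symm
  have PR : P ≤ 𝐍(Ru Z α u) := fun p hp => mem_norm_of_conj_le (by
    rw [h.cm.m1.conj_Ru (hP.le hp).1, mem_cent1.1 (h.P_cent hP hu hp), mul_inv_cancel_right])
  have PS : P ≤ 𝐍(S₀) := le_normalizer_inf (fun _ hp => h.cm.m1.nC (hP.le hp).1)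
    (PR.trans (normalizer_le_normalizer_normalizer _))
  have PY : P ≤ 𝐍(Y) := (le_inf PR fun _ hp => h.cm.m1.nE (hP.le hp).1).trans h.norm_Y
  have l1 : ⁅S₀, K⁆ ⊔ S₀ ⊓ 𝐂(Y) ≤ S₀ := sup_le (comm_le_left h.K_S) inf_le_left
  have n1 : ⁅S₀, K⁆ ⊔ S₀ ⊓ 𝐂(Y) ⊔ P ≤ 𝐍(⁅S₀, K⁆ ⊔ S₀ ⊓ 𝐂(Y)) := sup_le le_normalizer
    (le_normalizer_sup (le_normalizer_commutator PS (hP.le.trans h.cm.DK))
      (le_normalizer_inf PS (PY.trans (normalizer_le_normalizer_centralizer _))))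
  have l2 : S₀ ≤ ⁅S₀, K⁆ ⊔ S₀ ⊓ 𝐂(Y) ⊔ P := fun m hm => by
    obtain ⟨x, hx, d, hd, rfl⟩ := exists_mul_centralizer_commutator h.K_S cop
      (Or.inl (Be.sol_odd h.cm.odd_K)) hm
    have l3 : Y ≤ ⁅S₀, K⁆ ⊔ S₀ ⊓ 𝐂(Y) ⊔ P :=
      (le_inf (h.le.trans h.R_le) h.comm).trans (le_sup_right.trans le_sup_left)
    refine mul_mem (mem_sup_left (mem_sup_left hx)) ?_
    rcases h.cov d (h.cent_K hd) with e | e
    exacts [l3 e, (mul_mem_cancel_left (mem_sup_right hu)).1 (l3 e)]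
  have l4 : ⁅S₀, K⁆ ⊔ S₀ ⊓ 𝐂(Y) ⊔ P ≤ St α ⊓ 𝐍(Ru Z α u) :=
    sup_le (l1.trans (inf_le_inf_right _ h.cm.m1.C_le)) (le_inf (hP.le.trans inf_le_left) PR)
  have h1 := Rg.transfer (Ω := Ω) (Z := Z) ⟨le_sup_left, fun _ hg => n1 hg⟩ (fun x hx y hy =>
      (comm_quo_iff n1).1 (by rw [quo_sup_left (le_sup_right.trans n1)]; exact comm_mim (h.P_comm hP hu) _)
        (commutator_mem_commutator hx hy))
    (h.odd_index hn hR hP l2 le_sup_right (l4.trans inf_le_left)) h.uu (mem_sup_right hu) fun g hg => by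
      obtain ⟨d, hd, e⟩ : α ∈ orb 𝐂[u] (g⁻¹ • α) := Be.P1.orb_symm (by
        rw [orb_cent1 c.toRed h.uu uα]
        simpa [mul_assoc] using conj_smul_smul (l4 hg).1 g⁻¹)
      have e1 : g * u * g⁻¹ = g * d⁻¹ * u * (g * d⁻¹)⁻¹ := by
        rw [mul_assoc g d⁻¹, mem_cent1.1 (InvMemClass.inv_mem hd)]; group
      have e2 : (g * d⁻¹) • α = α := by rw [mul_smul, ← eq_inv_smul_iff, inv_smul_eq_iff, e]
      rw [e1] at hg ⊢
      have h2 : _ ∈ S₀ := ⟨(h.cm.m1.uu_conj h.cm.uu e2).cE, (l4 hg).2⟩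
      exact mem_sup_right ⟨mul_mem h2 (h.R_le h.uR), h.conj_inv e2 h2⟩
  have h2 := mem_of_mem_comm_sup (h.S_norm.trans (normalizer_le_normalizer_centralizer _))
    (h.K_Y.trans (normalizer_le_normalizer_centralizer _)) h.der_le h.K_S cop
    ⟨h.R_le h.uR, mem_cent.2 fun k hk => mul_inv_eq_iff_eq_mul.1 (h.cm.Ku hk)⟩
    ((sup_le_sup_left inf_le_right _ : _ ≤ _ ⊔ 𝐂(Y)) h1)
  have h3 := h.inv _ (h.phi_mem hn)
  rw [← mem_cent.1 h2 _ (h.phi_mem hn), mul_inv_cancel_right] at h3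
  exact hR ⟨hn.1, h.one _ (h.phi_mem hn) (mul_eq_one_iff_eq_inv.2 h3)⟩

end L1S

end Cfsg.Agent.As
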