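import Cfsg.Agent.As.P

/-! ZD, part 2: the case `U₃(q)`. -/

set_option autoImplicit false

namespace Cfsg.Agent.As

namespace U3p

open Subgroup MulAction Cfsg.Agent.H1 Cfsg.Agent.L Cfsg.Agent.FT Cfsg.Agent.Sg
open Cfsg.Agent.FT.B9 (commMod commEl_eq_one_iff commEl_mem_left comm_mem_symm comm_mem_of_le
  comm_sup_left_le comm_zpowers_right_le mem_norm_of_comm card_sup_zpowers zent_ne_bot)
open Cfsg.Agent.Be (invs sq_of_two inv_of_two two_of_sq ne_one_of_two)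
open Cfsg.Agent.Be.P1 (orb ncard_orb smul_mem_orb self_mem_orb orb_trans)
open scoped Pointwise commutatorElement

variable {G Ω : Type} [Group G] [Finite G] [MulAction G Ω] {Z : Set G}
variable {N E Q K X R : Subgroup G} {α β γ : Ω} {t u v g x : G} {q j : ℕ}

local notation "St" => stabilizer G

theorem dvd_ncard {O : Set Ω} (hO : O.Finite) (h : ∀ g ∈ X, ∀ x ∈ O, g • x ∈ O) {r : ℕ}
    (h' : ∀ x ∈ O, r ∣ (St x).relIndex X) : r ∣ O.ncard := by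
  induction hn : O.ncard using Nat.strong_induction_on generalizing O with
  | _ n ih =>
    rcases O.eq_empty_or_nonempty with rfl | ⟨x, hx⟩
    · rw [← hn]; simp
    have h1 : orb X x ⊆ O := by rintro _ ⟨g, hg, rfl⟩; exact h g hg x hx
    rw [← hn, ← Set.ncard_sdiff_add_ncard_of_subset h1 hO, ncard_orb]
    refine dvd_add (ih _ ?_ hO.sdiff (fun g hg y hy => ⟨h g hg y hy.1, fun e => hy.2 ?_⟩)
      (fun y hy => h' y hy.1) rfl) (h' x hx)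
    · rw [← hn]
      exact Set.ncard_lt_ncard ⟨Set.sdiff_subset, fun h => (h hx).2 (self_mem_orb X x)⟩ hO
    · simpa using smul_mem_orb (X.inv_mem hg) e

theorem exists_two (h : IsPGroup 2 X) (h1 : X ≠ ⊥) : ∃ a ∈ X, orderOf a = 2 :=
  exists_mem_orderOf_eq Nat.prime_two (pgroup_dvd_card Nat.prime_two h h1)

theorem cop (h : IsPGroup 2 X) (ho : Odd (orderOf v)) : (#|zpowers v|).Coprime #|X| :=
  (cop_two h (by rwa [Nat.card_zpowers])).symm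

section
variable [Hyp Ω Z] (h : Loc Z N α β t E Q K q j)
include h

theorem EZ (he : x ∈ E) (h1 : x ≠ 1) : x ∈ Z ∧ x ∈ N ∧ x • α = α := ((h.memE x).1 he).resolve_left h1

theorem EQ : E ≤ Q := fun x hx => by
  by_cases h1 : x = 1
  · exact h1 ▸ Q.one_mem
  obtain ⟨a, b, c⟩ := EZ h hx h1
  exact (h.memQ x).2 ⟨mem_ZZ a b, c, 1, by simpa [sq] using zsq (Ω := Ω) a⟩

theorem QL : Q ≤ ZZ Z N := fun x hx => ((h.memQ x).1 hx).1

theorem Qα : Q ≤ St α := fun x hx => ((h.memQ x).1 hx).2.1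

theorem pQ : IsPGroup 2 Q := fun x => ((h.memQ x).1 x.2).2.2.imp fun _ => Subtype.ext

theorem nQ (hg : g ∈ N) (h1 : g • α = α) : g ∈ 𝐍(Q) := mem_norm_of_conj_le fun x hx => by
  obtain ⟨y, hy, rfl⟩ := mem_conj'.1 hx
  obtain ⟨a, b, n, c⟩ := (h.memQ y).1 hy
  refine (h.memQ _).2 ⟨conj_mem_of_mem_normalizer ((ZZ_normal Ω).2 hg) a, ?_, n, by
    rw [conj_pow, c]; simp⟩
  rw [mul_smul, mul_smul, inv_smul_eq_iff.2 h1.symm, b, h1]

theorem Kα : K ≤ St α := fun k hk => (core_le _ _ ((h.memK k).1 hk).2.1).1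

theorem mem_of_sup (h0 : Q ⊓ Ker N α = ⊥) (hX : X ≤ Q) (hx : x ∈ Q) (h1 : x ∈ X ⊔ Ker N α) :
    x ∈ X := by
  have : (X ⊔ Ker N α) ⊓ Q = X := by
    rw [sup_inf_modular hX (Or.inr (le_norm_of_le_cent (hX.trans ((QL h).trans h.cent)))),
      inf_comm, h0, sup_bot_eq]
  exact this ▸ ⟨h1, hx⟩

theorem cQ (h0 : Q ⊓ Ker N α = ⊥) (hg : g ∈ N) (h1 : g • α = α) (h2 : g • β = β) (h3 : g ∈ 𝐂(E))
    (h4 : g ∉ Ker N α) : Q ⊓ 𝐂[g] ≤ E := fun x hx =>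
  mem_of_sup h h0 (EQ h) hx.1 ((h.a2 g hg h1 h2 h3 x hx.1 (by
    rw [commEl_eq_one_iff.2 (mem_cent1.1 hx.2)]; exact one_mem _)).resolve_right h4)

theorem gen (h0 : Q ⊓ Ker N α = ⊥) (hg : g ∈ N) (h1 : g • α = α) (h2 : g • β = β) (h3 : g ∈ 𝐂(E))
    (h4 : g ∉ Ker N α) (ho : Odd (orderOf g)) : Q ≤ ⁅Q, zpowers g⁆ ⊔ E := by
  have := commutator_sup_centralizer (zpowers_le.2 (nQ h hg h1)) (cop (pQ h) ho)
    (Or.inr (sol_of_pgroup Nat.prime_two (pQ h)))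
  rw [cent_zpowers] at this
  exact this.ge.trans (sup_le_sup_left (cQ h h0 hg h1 h2 h3 h4) _)

theorem four_le : 4 ≤ q := by
  obtain ⟨a, h1, rfl⟩ := h.pow
  exact Nat.pow_le_pow_right two_pos h1

theorem exists_e : ∃ e ∈ E, e ≠ 1 := exists_mem_ne_one h.sing.ne

theorem ncard_E (hne : γ ≠ α) : (orb E γ).ncard = q := by
  have : St γ ⊓ E = ⊥ := eq_bot_iff.2 fun x hx => by_contra fun h1 =>
    hne (fix_unique (EZ h hx.2 h1).1 hx.1 (EZ h hx.2 h1).2.2)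
  rw [ncard_orb, ← h.cardE, ← card_inf_mul_relIndex (St γ) E, this, card_bot, one_mul]

theorem bt_cent (h1 : v ≠ 1) (c : Red Ω Z) (h2 : v • α = α) (h3 : v ∈ 𝐂(E)) (h4 : v ∈ 𝐂[t]) :
    BT Z 𝐂[v] α := by
  refine ⟨fun e => h1 (c.faith v fun γ => ?_), ?_, fun e => h.ne ?_⟩
  · obtain ⟨g, rfl⟩ := exists_smul c α γ
    rw [← mul_smul, ← mem_cent1.1 (e ▸ mem_top g : g ∈ 𝐂[v]), mul_smul, h2]
  · obtain ⟨a, ha, b, hb, h5, h6, h7⟩ := h.bt.four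
    have : ∀ a ∈ N ⊓ St α, a ∈ Z → a ∈ 𝐂[v] ⊓ St α := fun a ha h5 =>
      ⟨mem_cent1.2 (mem_cent.1 h3 a ((h.memE a).2 (Or.inr ⟨h5, ha.1, ha.2⟩))), ha.2⟩
    exact ⟨a, this a ha h5, b, this b hb h6, h5, h6, h7⟩
  · exact (e (mem_cent1_comm.1 h4)).symm.trans h.tα

end

theorem u_mem : u ∈ Wu Ω u := mem_Wu.2 fun _ h => h

theorem mem_Lu {a : G} (ha : a ∈ Z) (h : a ∈ 𝐂[u]) : a ∈ Lu Z u := mem_ZZ ha h

theorem cent_norm_Lu [Hyp Ω Z] (h : g ∈ 𝐂[u]) : g ∈ 𝐍(Lu Z u) := (ZZ_normal Ω).2 h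

section
variable [Hyp Ω Z] (s : VS Z α β u t Q K q j)
include s

theorem LW : Lu Z u ≤ 𝐂(Wu Ω u) := by
  have := s.loc.cent
  rwa [s.zz, s.ker] at this

theorem Lc : Lu Z u ≤ 𝐂[u] := (LW s).trans (cent_le_cent1 u_mem)

theorem QL' : Q ≤ Lu Z u := s.zz ▸ QL s.loc

theorem q0 : Q ⊓ Ker 𝐍(Lu Z u) α = ⊥ := s.ker ▸ s.qw

theorem uα : u • α = α := (s.orb α).1 (self_mem_orb _ _)

theorem uβ : u • β = β := (s.orb β).1 ⟨t, s.loc.tN, s.loc.tα⟩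

theorem ncard_fix : {γ : Ω | u • γ = γ}.ncard = q ^ j + 1 := by
  rw [← s.loc.card]; congr 1; exact Set.ext fun γ => (s.orb γ).symm

end

/-- the second local subgroup -/
structure Star (Z : Set G) (α β : Ω) (u t v : G) (Q' K : Subgroup G) (q : ℕ) : Prop where
  vL : v ∈ Lu Z u
  vα : v • α = α
  vβ : v • β = β
  vE : v ∈ 𝐂(Ea Z α)
  vW : v ∉ Wu Ω u
  odd : Odd (orderOf v)
  loc : Loc Z 𝐂[v] α β t (Ea Z α) Q' K q 3
  q0 : Q' ⊓ Ker 𝐂[v] α = ⊥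
  t0 : Wu Ω u ⊓ Ker 𝐂[v] α = ⊥

theorem exists_star [c : Ctx Ω Z] [LocE] (m : M1 Ω Z q 3) (u2 : orderOf u = 2) (uZ : u ∉ Z)
    (uE : u ∈ 𝐂(Ea Z α)) (s : VS Z α β u t Q K q 3) : ∃ v Q', Star Z α β u t v Q' K q := by
  haveI := finΩ c.toRed
  have h := s.loc
  obtain ⟨v, vL, vα, vβ, vE, vW, p, n, hp, p2, hv, -⟩ := h.v0 rfl
  rw [s.zz] at vL
  rw [s.ker] at vW
  have vu := Lc s vL
  have vN : v ∈ 𝐍(Lu Z u) := le_normalizer vL
  have vo : Odd (orderOf v) := hv ▸ (hp.odd_of_ne_two p2).pow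
  obtain ⟨vt, vK⟩ := h.a1 v vN vα vβ vE
  have v1 : v ≠ 1 := fun e => vW (e ▸ one_mem _)
  obtain ⟨E', Q', K', q', j, l⟩ := LocE.ex (bt_cent h v1 c.toRed vα vE vt) h.tZ
    (mem_cent1_comm.1 vt) h.tα h.ne
  obtain rfl : E' = Ea Z α := by
    ext x
    rw [l.memE, m.memE]
    exact or_congr_right ⟨fun a => ⟨a.1, a.2.2⟩, fun a =>
      ⟨a.1, mem_cent1.2 (mem_cent.1 vE x ((m.memE α x).2 (Or.inr a))), a.2⟩⟩
  obtain rfl : q' = q := l.cardE.symm.trans h.cardE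
  obtain rfl : K = K' := eq_of_le_of_card_le (fun k hk => (l.memK k).2
    ⟨mem_cent1.2 (mem_cent.1 vK k hk), ((h.memK k).1 hk).2⟩)
    (Nat.add_right_cancel (l.cardK.trans h.cardK.symm)).le
  -- a point of `Δ_{ue}` fixed by `v`
  obtain ⟨e, he, e1⟩ := exists_e h
  obtain ⟨g, gα, hg⟩ := s.cj e he
  have ue : u * e ∈ 𝐂(Ea Z α) := mul_mem uE (h.sing.sq.cent he)
  have vue : v ∈ 𝐂[u * e] := mem_cent1.2 (by
    rw [← mul_assoc, mem_cent1.1 vu, mul_assoc, ← mem_cent.1 vE e he, mul_assoc])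
  have ue2 : orderOf (u * e) = 2 := hg ▸ (orderOf_conj' g u).trans u2
  have ueZ : u * e ∉ Z := fun a => uZ (by simpa [← hg, mul_assoc] using zconj (Ω := Ω) a g⁻¹)
  have ueα : (u * e) • α = α := by rw [mul_smul, (EZ h he e1).2.2, uα s]
  have gβ : (u * e) • g • β = g • β := by rw [← hg, mul_smul, inv_smul_smul, mul_smul, uβ s]
  obtain ⟨t1, Q1, K1, s1⟩ := m.vs α (g • β) (u * e)
    (fun a => h.ne (smul_left_cancel g (gα.trans a))) ue2 ueZ ue gβ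
  obtain ⟨γ, ⟨h1, h2⟩, h3⟩ := Be.P1.exists_fix (U := zpowers v) (O := {γ : Ω | (u * e) • γ = γ} \ {α}) hp
    ((pgroup_of_card (n := n) (by rw [Nat.card_zpowers, hv]))) (Set.toFinite _)
    (fun w hw x hx => ⟨show (u * e) • w • x = w • x by
        rw [← mul_smul, ← mem_cent1.1 (zpowers_le.2 vue hw), mul_smul, hx.1], fun a => hx.2 (by
        have : w • α = α := zpowers_le.2 (show v ∈ St α from vα) hw
        rwa [Set.mem_singleton_iff, ← this, smul_left_cancel_iff] at a)⟩) (by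
      rw [Set.ncard_sdiff_singleton_of_mem (s := {γ : Ω | (u * e) • γ = γ}) ueα, ncard_fix s1,
        Nat.add_sub_cancel]
      obtain ⟨a, -, rfl⟩ := h.pow
      exact fun d => p2 ((Nat.prime_dvd_prime_iff_eq hp Nat.prime_two).1
        (hp.dvd_of_dvd_pow (hp.dvd_of_dvd_pow d))))
  have γα : γ ≠ α := h2
  obtain ⟨t2, Q2, K2, s2⟩ := m.vs α γ (u * e) γα.symm ue2 ueZ ue h1
  have hγ : γ ∈ orb 𝐂[v] α := ⟨t2, mem_cent1_comm.1 (s2.loc.a1 v (cent_norm_Lu (Ω := Ω) vue) vα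
    (h3 (mem_zpowers v)) vE).1, s2.loc.tα⟩
  have uγ : u • γ ≠ γ := fun a => γα (fix_unique (EZ h he e1).1 (by
    have : u • e • γ = u • γ := by rw [← mul_smul, h1, a]
    exact smul_left_cancel u this) (EZ h he e1).2.2)
  obtain rfl : j = 3 := by
    rcases l.jj with rfl | rfl | rfl
    · have hβ : β ∈ orb 𝐂[v] α := ⟨t, l.tN, l.tα⟩
      have h4 : insert α (insert γ (orb (Ea Z α) β)) ⊆ orb 𝐂[v] α := by
        rintro x (rfl | rfl | ⟨y, hy, rfl⟩)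
        exacts [self_mem_orb _ _, hγ, smul_mem_orb (mem_cent1.2 (mem_cent.1 vE y hy)) hβ]
      have h5 := Set.ncard_le_ncard h4 (Set.toFinite _)
      rw [Set.ncard_insert_of_notMem, Set.ncard_insert_of_notMem, ncard_E h h.ne.symm, l.card,
        pow_one] at h5
      · omega
      · rintro ⟨y, hy, rfl⟩
        exact uγ (by rw [← mul_smul, ← mem_cent.1 uE y hy, mul_smul, uβ s])
      · rintro (a | ⟨y, hy, a⟩)
        · exact γα a.symm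
        · exact h.ne (smul_left_cancel y ((Qα h (EQ h hy)).trans a.symm))
    · exact ((l.three.2 (h.three.1 (by norm_num))) rfl).elim
    · rfl
  refine ⟨v, Q', vL, vα, vβ, vE, vW, vo, l, by_contra fun h0 => ?_, eq_bot_iff.2 fun x hx => ?_⟩
  · obtain ⟨w, hw, w2⟩ := exists_two ((pQ l).to_inf_left) h0
    have wβ : w • β = β := (mem_Ker.1 hw.2).2 β ⟨t, l.tN, l.tα⟩
    obtain ⟨t3, Q3, K3, s3⟩ := m.vs α β w h.ne w2
      (fun a => h.ne (fix_unique a (Qα l hw.1) wβ)) (l.QE hw.1) wβ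
    have h4 : ZZ Z 𝐂[v] ≤ Lu Z w := (closure_le _).2 fun a ha =>
      mem_Lu ha.1 (cent_le_cent1 hw.2 (l.cent (mem_ZZ ha.1 ha.2)))
    have h5 : w ∈ Q3 ⊓ Wu Ω w := ⟨(s3.loc.memQ w).2 ⟨s3.zz.symm ▸ h4 (QL l hw.1), Qα l hw.1, 1, by
      simpa [sq] using sq_of_two w2⟩, u_mem⟩
    rw [s3.qw] at h5
    exact ne_one_of_two w2 h5
  · exact by_contra fun x1 => uγ ((s.ti x hx.1 x1).2.2 γ ((mem_Ker.1 hx.2).2 γ hγ))

section
variable [Hyp Ω Z] {Q' : Subgroup G} (s : VS Z α β u t Q K q 3) (r : Star Z α β u t v Q' K q)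
include s r

theorem card_T : #|Wu Ω u ⊓ 𝐂[u]| ≤ 2 := by
  have hα := uα s
  have hβ := uβ s
  have := r.loc.phi2 (Wu Ω u ⊓ 𝐂[u]) (fun x hx => ⟨⟨mem_cent1.2 (mem_cent.1 (LW s r.vL) x hx.1),
    mem_Wu.1 hx.1 α hα, mem_Wu.1 hx.1 β hβ⟩,
    le_cent_symm ((EQ s.loc).trans ((QL' s).trans (LW s))) hx.1⟩) s.sq.two
  rwa [inf_right_comm, r.t0, bot_inf_eq, card_bot] at this

theorem vN : v ∈ 𝐍(Lu Z u) := le_normalizer r.vL

theorem vK : v ∉ Ker 𝐍(Lu Z u) α := s.ker ▸ r.vW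

theorem genQ : Q ≤ ⁅Q, zpowers v⁆ ⊔ Ea Z α :=
  gen s.loc (q0 s) (vN s r) r.vα r.vβ r.vE (vK s r) r.odd

theorem vQ : v ∈ 𝐍(Q) := nQ s.loc (vN s r) r.vα

theorem Qv : Q' ≤ 𝐂[v] := (QL r.loc).trans ZZ_le

theorem uv : u ∈ 𝐂[v] := mem_cent1_comm.1 (Lc s r.vL)

theorem uQ' : u ∈ 𝐍(Q') := nQ r.loc (uv s r) (uα s)

theorem comm_W (hX : X ≤ Q ⊔ Wu Ω u) : ⁅X, zpowers v⁆ ≤ Q :=
  (commutator_mono hX le_rfl).trans (comm_sup_left_le le_normalizer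
    (le_norm_of_le_cent (le_cent_symm ((QL' s).trans (LW s))))
    (comm_le_left (zpowers_le.2 (vQ s r)))
    ((comm_eq_bot_iff'.2 (zpowers_le.2 (LW s r.vL))).le.trans bot_le))

theorem R_norm : Q' ⊓ commMod (Ea Z α) u ≤ 𝐍(Q) := fun x hx => by
  have h1 := (s.nY x (Qα r.loc hx.1) (by
    have := conj_mem_of_mem_normalizer' (cent_le_norm _ ((le_cent_symm ((EQ s.loc).trans
      ((QL' s).trans (LW s)))) u_mem)) hx.2.2
    simpa [commutatorElement_def, mul_assoc] using this)).1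
  refine mem_norm_of_conj_le ((conj_mono x (genQ s r)).trans ?_)
  rw [conj_sup, conj_of_mem_norm hx.2.1, conj_comm, conj_zpowers,
    show x * v * x⁻¹ = v by rw [mem_cent1.1 (Qv s r hx.1)]; group]
  exact sup_le (comm_W s r ((conj_le_of_mem_norm h1 le_sup_left).trans
    (sup_le_sup_left inf_le_left _))) (EQ s.loc)

theorem R_cent : Q' ⊓ commMod (Ea Z α) u ≤ 𝐂(Q) := by
  set R := Q' ⊓ commMod (Ea Z α) u
  set E := Ea Z α
  have h := s.loc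
  have KL : K ≤ Lu Z u := s.zz ▸ h.KL
  have RQ : R ≤ 𝐍(Q) := R_norm s r
  have RE : R ≤ 𝐂(E) := inf_le_left.trans r.loc.QE
  have Rv : R ≤ 𝐂[v] := inf_le_left.trans (Qv s r)
  have ER : E ≤ R := fun e he => ⟨EQ r.loc he, le_normalizer he, by
    rw [commEl_eq_one_iff.2 (mem_cent1.1 (Lc s (QL' s (EQ h he))))]; exact one_mem _⟩
  have KR : K ≤ 𝐍(R) := le_norm_iff.2 fun k hk x hx => by
    have kE := h.sing.norm hk
    refine ⟨conj_mem_of_mem_normalizer (nQ r.loc (ZZ_le (r.loc.KL hk)) (Kα h hk)) hx.1,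
      mul_mem (mul_mem kE hx.2.1) (inv_mem kE), ?_⟩
    have e : k * u * k⁻¹ = u := by rw [mem_cent1.1 (Lc s (KL hk))]; group
    rw [← e, ← conjugate_commutatorElement]
    exact conj_mem_of_mem_normalizer kE hx.2.2
  have KQ : K ≤ 𝐍(Q) := fun k hk => nQ h (le_normalizer (KL hk)) (Kα h hk)
  have nE : Q ≤ 𝐍(E) := le_norm_of_le_cent h.QE
  have nE' : R ≤ 𝐍(E) := le_norm_of_le_cent RE
  have cQ3 : #|Q| = q ^ 3 := by rw [h.cardQ, q0 s, card_bot, mul_one]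
  have h1 : Q /' E ≠ ⊥ := fun e => by
    have := card_le_of_le' ((quo_eq_bot_iff nE).1 e)
    have h4 := four_le h
    rw [cQ3, h.cardE] at this
    nlinarith [Nat.le_self_pow two_ne_zero q, pow_succ q 2]
  obtain ⟨y', ⟨hy', hc⟩, y1⟩ := exists_mem_ne_one (inf_cent_ne_bot_of_pgroup Nat.prime_two
    (pgroup_mim (pQ h) (coset E)) (pgroup_mim ((pQ r.loc).to_inf_left (K := commMod E u)) (coset E))
    (mim_le_norm _ RQ) h1)
  obtain ⟨y, hy, rfl⟩ := mem_mim.1 hy'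
  have h2 : ∀ x ∈ R, ⁅x, (y : G)⁆ ∈ E := fun x hx => by
    have := commEl_eq_one_iff.2 (mem_cent.1 hc _ (mem_mim_of_mem (coset E) ⟨x, nE' hx⟩ hx))
    rw [← map_commutatorElement, coset_eq_one] at this
    exact this
  have h3 : (y : G) ∈ Q ⊓ centMod R E :=
    ⟨hy, mem_centMod.2 ⟨⟨mem_norm_of_comm fun a ha => ER (comm_mem_symm (h2 a ha)), y.2⟩, h2⟩⟩
  have vR : v ∈ 𝐍(R) := cent_le_norm _ (le_cent1_iff.1 Rv)
  have h4 : Q ≤ centMod R E := by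
    rcases h.irr rfl v (vN s r) r.vα r.vβ r.vE r.odd (vK s r) (Q ⊓ centMod R E) inf_le_left
      (le_normalizer_inf KQ (le_norm_centMod KR h.sing.norm))
      (le_normalizer_inf (zpowers_le.2 (vQ s r)) (le_norm_centMod (zpowers_le.2 vR)
        (zpowers_le.2 (cent_le_norm _ r.vE))) (mem_zpowers v)) with h4 | h4
    · exact (y1 (coset_eq_one.2 (mem_of_sup h (q0 s) (EQ h) hy (h4 h3)))).elim
    · have h5 : E ≤ Q ⊓ centMod R E := le_inf (EQ h) (le_centMod_iff.2 ⟨ER.trans le_normalizer,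
        le_normalizer, comm_le_right nE'⟩)
      rw [sup_eq_left.2 h5] at h4
      exact fun x hx => (mem_of_sup h (q0 s) inf_le_left hx (h4 hx)).2
  have h5 : ⁅R, Q⁆ ≤ E := (le_centMod_iff.1 h4).2.2
  have h6 : ⁅⁅Q, zpowers v⁆, R⁆ = ⊥ := three_subgroups (X := zpowers v) (Y := R) (Z := Q)
    (by rw [comm_eq_bot_iff'.2 (Rv.trans (cent_zpowers v).ge), commutator_bot_left])
    (comm_eq_bot_iff'.2 (zpowers_le.2 (cent_anti h5 r.vE)))
  exact le_cent_symm ((genQ s r).trans (sup_le (comm_eq_bot_iff.1 h6) (le_cent_symm RE)))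

theorem Q'_norm (uu : u * u = 1) : Q' ≤ 𝐍(Q) := fun x hx => by
  have h := s.loc
  have iu : u⁻¹ = u := inv_eq_of_mul_eq_one_right uu
  have h1 : ⁅x, u⁆ ∈ Q' := commEl_mem_left hx (uQ' s r)
  have h2 : ⁅x, u⁆ ∈ Q' ⊓ commMod (Ea Z α) u := ⟨h1, cent_le_norm _ (r.loc.QE h1), by
    have e : ⁅⁅x, u⁆, u⁆ = ⁅x, u⁆ * ⁅x, u⁆ := by
      simp only [commutatorElement_def, mul_inv_rev, inv_inv, iu]
      calc _ = x * u * x⁻¹ * u * (u * u) * x * u * x⁻¹ * u := by group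
        _ = _ := by rw [uu]; group
    rw [e]
    exact mem_of_sup r.loc r.q0 (EQ r.loc) (mul_mem h1 h1) (r.loc.sq _ h1)⟩
  have h3 : Q ≤ 𝐂[x * u * x⁻¹] := by
    rw [show x * u * x⁻¹ = ⁅x, u⁆ * u by rw [commutatorElement_def]; group]
    exact le_cent1_iff.2 (mul_mem (R_cent s r h2) (le_cent1_iff.1 ((QL' s).trans (Lc s))))
  have xE := r.loc.QE hx
  have xv : x⁻¹ * v * x⁻¹⁻¹ = v := by rw [mul_assoc, inv_inv, ← mem_cent1.1 (Qv s r hx)]; group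
  have h4 := h.le_of_v rfl v (vN s r) r.vα r.vβ r.vE r.odd (vK s r) (x⁻¹ ⋆ Q) (le_inf (le_inf
    (fun y hy => cent_norm_Lu (Ω := Ω) (by
      have := conj_mono x⁻¹ h3 hy
      rwa [conj_cent1, show x⁻¹ * (x * u * x⁻¹) * x⁻¹⁻¹ = u by group] at this))
    (conj_le_of_mem (inv_mem (Qα r.loc hx)) (Qα h))) (conj_le_of_mem (inv_mem xE) h.QE))
    (pgroup_conj (pQ h) _) (by rw [← conj_norm, ← xv]; exact conj_mem_conj _ (vQ s r))
  rw [s.ker] at h4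
  refine (inv_mem_iff (H := 𝐍(Q))).1 (mem_norm_of_conj_le ((conj_mono _ (genQ s r)).trans ?_))
  rw [conj_sup, conj_of_mem_norm (inv_mem (cent_le_norm _ xE)), conj_comm, conj_zpowers, xv]
  exact sup_le (comm_W s r h4) (EQ h)

theorem big (uu : u * u = 1) (u1 : u ≠ 1) :
    ∃ Y ≤ St α ⊓ 𝐂(Ea Z α), IsPGroup 2 Y ∧ #|Y| = q ^ 5 * 2 := by
  have h := s.loc
  have uE : u ∈ 𝐂(Ea Z α) := le_cent_symm ((EQ h).trans ((QL' s).trans (LW s))) u_mem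
  have Qu : Q ≤ 𝐂[u] := (QL' s).trans (Lc s)
  have uK : u ∉ Ker 𝐂[v] α := fun a => u1 (mem_bot.1 (r.t0 ▸ (⟨u_mem, a⟩ : u ∈ Wu Ω u ⊓ _)))
  have h1 := cQ r.loc r.q0 (uv s r) (uα s) (uβ s) uE uK
  have hn := Q'_norm s r uu
  have h2 : Q' ⊓ Q = Ea Z α := le_antisymm ((inf_le_inf_left _ Qu).trans h1)
    (le_inf (EQ r.loc) (EQ h))
  have h3 := card_sup_mul_card_inf hn
  rw [h2, h.cardE, h.cardQ, r.loc.cardQ, q0 s, r.q0, card_bot] at h3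
  have h4 := four_le h
  have h5 : #|Q' ⊔ Q| = q ^ 5 := Nat.eq_of_mul_eq_mul_right (by omega : 0 < q) (by rw [h3]; ring)
  have un : u ∈ 𝐍(Q' ⊔ Q) := le_normalizer_sup (zpowers_le.2 (uQ' s r))
    (zpowers_le.2 (cent_le_norm _ (le_cent1_iff.1 Qu))) (mem_zpowers u)
  have h6 : u ∉ Q' ⊔ Q := fun a => by
    obtain ⟨x, hx, y, hy, e⟩ := (H1.mem_sup_of_le_normalizer hn).1 a
    have h7 : x ∈ 𝐂[u] := by
      rw [show x = u * y⁻¹ by rw [← e]; group]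
      exact mul_mem (self_mem_cent1 u) (inv_mem (Qu hy))
    have h8 : u ∈ Q ⊓ Wu Ω u := ⟨e ▸ mul_mem (EQ h (h1 ⟨hx, h7⟩)) hy, u_mem⟩
    rw [s.qw] at h8
    exact u1 h8
  have h7 := card_sup_zpowers Nat.prime_two un h6 (by rw [sq, uu]; exact one_mem _)
  obtain ⟨a, -, rfl⟩ := h.pow
  exact ⟨_, sup_le (sup_le (le_inf (Qα r.loc) r.loc.QE) (le_inf (Qα h) h.QE))
    (zpowers_le.2 ⟨uα s, uE⟩), pgroup_of_card (n := a * 5 + 1) (by rw [h7, h5]; ring), h5 ▸ h7⟩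

end

theorem small [c : Ctx Ω Z] [LocE] (m : M1 Ω Z q 3) (hne : α ≠ γ) (hX : IsPGroup 2 X)
    (h : X ≤ St α ⊓ 𝐂(Ea Z α)) (h' : X ≤ St γ) : #|X| ≤ 4 := by
  by_cases h0 : X = ⊥
  · rw [h0, card_bot]; norm_num
  obtain ⟨w, hw, w2⟩ := exists_two (hX.to_le (zent_le X)) (zent_ne_bot Nat.prime_two hX h0)
  have wX := zent_le X hw
  have wZ : w ∉ Z := fun a => hne (fix_unique a (h wX).1 (h' wX))
  obtain ⟨t, Q, K, s⟩ := m.vs α γ w hne w2 wZ (h wX).2 (h' wX)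
  obtain ⟨v, Q', r⟩ := exists_star m w2 wZ (h wX).2 s
  have hc : X ≤ 𝐂[w] := le_cent1_iff.2 (zent_le_cent X hw)
  have h1 := s.loc.phi2 X (fun x hx => ⟨⟨cent_norm_Lu (Ω := Ω) (hc hx), (h hx).1, h' hx⟩, (h hx).2⟩) hX
  have h2 : #|X ⊓ Ker 𝐍(Lu Z w) α| ≤ #|Wu Ω w ⊓ 𝐂[w]| :=
    card_le_of_le' fun x hx => ⟨s.ker ▸ hx.2, hc hx.1⟩
  have := card_T s r
  omega

end U3p

open U3p in
instance instU3 [LocE] : U3 where
  no := fun {G Ω} _ _ _ {Z} c {q} m => by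
    haveI := finΩ c.toRed
    have := c.nontriv
    obtain ⟨α, β, hne⟩ := exists_pair_ne Ω
    obtain ⟨u, u2, uZ, uE, uβ⟩ := m.ex α β hne
    obtain ⟨t, Q, K, s⟩ := m.vs α β u hne u2 uZ uE uβ
    obtain ⟨v, Q', r⟩ := exists_star m u2 uZ uE s
    obtain ⟨Y, hY, pY, cY⟩ := big s r (Be.sq_of_two u2) (Be.ne_one_of_two u2)
    obtain ⟨a, ha, rfl⟩ := s.loc.pow
    have h1 : 2 ^ (a * 4 + 1) ∣ ({α}ᶜ : Set Ω).ncard := by
      refine dvd_ncard (X := Y) (O := {α}ᶜ) (Set.toFinite _) (fun g hg x hx e => hx ?_) fun γ hγ => ?_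
      · exact smul_left_cancel g (e.trans (hY hg).1.symm)
      have h2 := small m (fun e => hγ e.symm) (pY.to_inf_right (H := MulAction.stabilizer G γ))
        (inf_le_right.trans hY) inf_le_left
      have h3 := H1.card_inf_mul_relIndex (MulAction.stabilizer G γ) Y
      obtain ⟨n, hn⟩ := FT.pgroup_relIndex Nat.prime_two pY (MulAction.stabilizer G γ)
      rw [hn] at h3 ⊢
      refine pow_dvd_pow 2 (by_contra fun h4 => ?_)
      have h5 : 2 ^ n ≤ 2 ^ (a * 4) := Nat.pow_le_pow_right two_pos (by omega)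
      have h6 : 4 ≤ 2 ^ a := Nat.pow_le_pow_right two_pos ha
      rw [cY, show (2 ^ a) ^ 5 * 2 = 2 ^ a * 2 * 2 ^ (a * 4) by ring] at h3
      have := Nat.mul_le_mul h2 h5
      have h7 : 0 < 2 ^ (a * 4) := by positivity
      nlinarith
    have h2 := Set.ncard_add_ncard_compl ({α} : Set Ω)
    rw [Set.ncard_singleton, m.card] at h2
    obtain ⟨b, hb⟩ : ∃ b, 2 ^ a = b + 1 := ⟨2 ^ a - 1, (Nat.sub_add_cancel Nat.one_le_two_pow).symm⟩
    have h3 : 1 + ((2 ^ a) ^ 3 + 1) * (2 ^ a - 1) = 2 ^ a * ((2 ^ a) ^ 2 * b + 1) := by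
      rw [hb, Nat.add_sub_cancel]; ring
    rw [Nat.add_left_cancel h2, h3, ← mul_assoc, show (2 ^ a) ^ 3 * 2 ^ a = 2 ^ (a * 4) by ring,
      pow_succ, Nat.mul_dvd_mul_iff_left (by positivity)] at h1
    obtain ⟨a, rfl⟩ := Nat.exists_eq_add_of_le ha
    rw [show (2 ^ (2 + a)) ^ 2 * b + 1 = 2 * (8 * (2 ^ a) ^ 2 * b) + 1 by ring] at h1
    omega

end Cfsg.Agent.As
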