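import Cfsg.Agent.As.Cm1
import Cfsg.Agent.As.U3
import Cfsg.Agent.As.Num

/-! ZD, part 2, type `Sz(q)`: the case that all involutions of `R` lie in `V`. -/

set_option autoImplicit false

namespace Cfsg.Agent.As.SZa

open Subgroup MulAction Cfsg.Agent.H1 Cfsg.Agent.L Cfsg.Agent.FT
open Cfsg.Agent.Be (invs odd_core odd_orderOf_of_mem)
open Cfsg.Agent.Be.P1 (orb self_mem_orb smul_mem_orb orb_mono ncard_orb orb_finite conj_st smul_ne'
  smul_mem_orb_of_norm)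
open Cfsg.Agent.As.U3p (dvd_ncard)
open scoped Pointwise commutatorElement

variable {G Ω : Type} [Group G] [Finite G] [MulAction G Ω] {Z : Set G}
variable {α β γ : Ω} {u t g : G} {O X Q K : Subgroup G} {q : ℕ}

local notation "St" => stabilizer G

omit [Finite G] in
theorem relIndex_smul (hg : g ∈ 𝐍(X)) (β : Ω) : (St (g • β)).relIndex X = (St β).relIndex X := by
  rw [← relIndex_conj g (St β), conj_st, conj_eq_self_iff.2 hg]

theorem num {l r : ℕ} (a : ℕ) (hl : Odd l) (h1 : l ∣ (2 ^ a) ^ 3 * r) (h2 : (2 ^ a) ^ 3 * r ≤ (2 ^ a) ^ 3 * l)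
    (r0 : 0 < r) : l = r :=
  le_antisymm (Nat.le_of_dvd r0 ((((Nat.coprime_two_right.2 hl).pow_right a).pow_right 3).dvd_of_dvd_mul_left h1))
    (Nat.le_of_mul_le_mul_left h2 (by positivity))

/-- an abelian group `O` with an orbit of length `3 (3 m + 1)`: an odd order group normalising `O`
and fixing a point of the orbit fixes another one -/
theorem third (ab : O ≤ 𝐂(O)) {m : ℕ} (h : (St β).relIndex O = 3 * (3 * m + 1)) (hK : K ≤ 𝐍(O))
    (Kβ : K ≤ St β) (oK : Odd #|K|) : ∃ γ ∈ orb O β, γ ≠ β ∧ K ≤ St γ := by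
  have hP := nil_core_sylow (H := O) Nat.prime_three (nil_of_comm (le_centralizer_iff_isMulCommutative.1 ab))
  set P := core {3} O
  have h1 : (St β).relIndex P ∣ 3 * (3 * m + 1) := by
    rw [← h, ← ncard_orb O]
    refine dvd_ncard (X := P) (orb_finite _ _) (fun g hg x hx => smul_mem_orb (hP.le hg) hx) ?_
    rintro _ ⟨g, hg, rfl⟩
    rw [relIndex_smul ((core_normal _ _).norm hg)]
  haveI : Fact (Nat.Prime 3) := ⟨Nat.prime_three⟩
  obtain ⟨n, hn⟩ := (core_pgroup Nat.prime_three O).exists_card_eq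
  obtain ⟨i, -, hi⟩ := (Nat.dvd_prime_pow Nat.prime_three).1 (hn ▸ relIndex_dvd_card (St β) P)
  have h3 : (orb P β).ncard = 3 := by
    rw [ncard_orb, hi]
    rcases i with _ | _ | i
    · exact (hP.not_dvd_relIndex_of_le (relIndex_eq_one.1 hi) (h ▸ dvd_mul_right _ _)).elim
    · rfl
    · rw [hi, pow_succ', pow_succ'] at h1
      have := (dvd_mul_right _ _).trans (Nat.dvd_of_mul_dvd_mul_left (by norm_num) h1)
      omega
  have h2 : (orb P β \ {β}).ncard = 2 := by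
    rw [Set.ncard_sdiff_singleton_of_mem (self_mem_orb _ _), h3]
  obtain ⟨x, y, xy, e⟩ := Set.ncard_eq_two.1 h2
  have hx : x ∈ orb P β \ {β} := e ▸ Or.inl rfl
  have mv : ∀ k ∈ K, ∀ z ∈ orb P β \ {β}, k • z = x ∨ k • z = y := fun k hk z hz => by
    have : k • z ∈ orb P β \ {β} := ⟨smul_mem_orb_of_norm (le_norm_core hK _ hk)
      ((Kβ hk).symm ▸ self_mem_orb _ _) hz.1, smul_ne' (Kβ hk) hz.2⟩
    rwa [e] at this
  refine ⟨x, orb_mono hP.le hx.1, hx.2, fun k hk => B8.mem_of_sq_mem (odd_orderOf_of_mem oK hk) ?_⟩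
  rw [mem_stabilizer_iff, mul_smul]
  rcases mv k hk x hx with h4 | h4
  · rw [h4, h4]
  · rw [h4]
    exact (mv k hk y (e ▸ Or.inr rfl)).resolve_right fun h5 =>
      xy ((smul_left_cancel_iff k).1 (h4.trans h5.symm))

theorem caseA [Be.BeI] [c : Ctx Ω Z] (h : Cm Z α β u t Q K q 2)
    (hinv : ∀ y ∈ Ru Z α u, y * y = 1 → y ∈ Vu Z α u)
    (iso : ∀ x ∈ 𝐂(Ea Z α), ∃ k ∈ core {2}ᶜ 𝐂(Ea Z α), k⁻¹ * x ∈ Ru Z α u)
    (ab : core {2}ᶜ 𝐂(Ea Z α) ≤ 𝐂(core {2}ᶜ 𝐂(Ea Z α)))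
    (lines : {γ : Ω | ∃ v ∈ Vu Z α u, v ∉ Ea Z α ∧ v • γ = γ}.ncard ≤ 1 + q * q ^ 2) :
    ∃ γ, γ ≠ α ∧ γ ≠ β ∧ K ≤ St γ := by
  haveI := finΩ c.toRed
  set O := core {2}ᶜ 𝐂(Ea Z α)
  set Λ := {γ : Ω | ∃ v ∈ Vu Z α u, v ∉ Ea Z α ∧ v • γ = γ}
  have m := h.m1
  have OC : O ≤ 𝐂(Ea Z α) := core_le _ _
  have Oα : O ≤ St α := OC.trans m.C_le
  have nO : St α ≤ 𝐍(O) := le_norm_core m.nC _
  have oO : Odd #|O| := odd_core _
  have eq : ∀ δ, δ ≠ α → (St δ).relIndex O = (St β).relIndex O := fun δ hδ => by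
    obtain ⟨g, h1, rfl⟩ := tr2 c h.ne.symm hδ
    exact relIndex_smul (nO h1) β
  have cov : (Set.univ \ {α} : Set Ω) ⊆ ⋃ γ ∈ (Λ \ {α}).toFinite.toFinset, orb O γ := fun δ hδ => by
    obtain ⟨g, h1, rfl⟩ := tr2 c h.ne.symm hδ.2
    have w := m.uu_conj h.uu h1
    have hw : (g * u * g⁻¹) • g • β = g • β := by simp [mul_smul, h.uβ]
    generalize g * u * g⁻¹ = w' at w hw
    obtain ⟨k, hk, hr⟩ := iso _ w.cE
    have r2 : k⁻¹ * w' * (k⁻¹ * w') = 1 := by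
      refine (mem_bot (G := G)).1 ?_
      rw [← (disjoint_of_coprime_natCard (Sg.cop_two h.R_two oO)).eq_bot]
      refine ⟨mul_mem hr hr, ?_⟩
      have := mul_mem (inv_mem hk) (conj_mem_of_mem_normalizer (nO (m.C_le w.cE)) (inv_mem hk))
      rwa [inv_eq_of_mul_eq_one_right w.uu, ← mul_assoc, ← mul_assoc, mul_assoc (k⁻¹ * w')] at this
    have e : k⁻¹ * w' * w' = k⁻¹ := by rw [mul_assoc, w.uu, mul_one]
    obtain ⟨d, hd, e1⟩ := H6.exists_conj_of_odd r2 w.uu (by rw [e]; exact odd_orderOf_of_mem oO (inv_mem hk))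
    have dO : d ∈ O := zpowers_le.2 (inv_mem hk) (by rwa [e] at hd)
    refine Set.mem_biUnion (x := d⁻¹ • g • β) ?_ ⟨d, dO, smul_inv_smul _ _⟩
    rw [Finset.mem_coe, Set.Finite.mem_toFinset]
    refine ⟨⟨_, hinv _ hr r2, fun hE => m.notE w ?_, ?_⟩, smul_ne' (inv_mem (Oα dO)) hδ.2⟩
    · exact e1 ▸ conj_mem_of_mem_normalizer (m.nE (Oα dO)) hE
    · rw [← smul_left_cancel_iff d, smul_inv_smul, ← mul_smul, ← mul_smul, e1, hw]
  obtain ⟨a, a2, rfl⟩ := h.loc.pow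
  obtain ⟨b, hb⟩ : ∃ b, 2 ^ a = 3 * b + 2 := by
    have h1 := h.loc.nd3 rfl
    have h2 : ¬ 3 ∣ 2 ^ a := fun e => by
      have := Nat.le_of_dvd two_pos (Nat.prime_three.dvd_of_dvd_pow e); omega
    have := Nat.one_le_two_pow (n := a)
    exact ⟨2 ^ a / 3, by omega⟩
  have n1 : (Set.univ \ {α} : Set Ω).ncard = (2 ^ a) ^ 3 * (3 * (3 * (b * b + b) + 1)) := by
    rw [Set.ncard_sdiff_singleton_of_mem (Set.mem_univ _), Set.ncard_univ, m.card,
      Nat.add_sub_cancel_left, hb, show 3 * b + 2 - 1 = 3 * b + 1 from rfl]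
    ring
  have hl : (St β).relIndex O = 3 * (3 * (b * b + b) + 1) := by
    refine num a (oO.of_dvd_nat (relIndex_dvd_card _ _)) ?_ ?_ (by positivity)
    · rw [← n1]
      exact dvd_ncard (X := O) (O := Set.univ \ {α}) (Set.toFinite _)
        (fun g hg x hx => ⟨trivial, smul_ne' (Oα hg) hx.2⟩) fun x hx => (eq x hx.2).symm ▸ dvd_rfl
    · rw [← n1]
      refine (Set.ncard_le_ncard cov (Set.toFinite _)).trans ((Finset.set_ncard_biUnion_le _ _).trans ?_)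
      rw [Finset.sum_congr rfl (g := fun _ => (St β).relIndex O) fun x hx => by
        rw [ncard_orb, eq x ((Set.Finite.mem_toFinset _).1 hx).2], Finset.sum_const, smul_eq_mul,
        ← Set.ncard_eq_toFinset_card, Set.ncard_sdiff_singleton_of_mem
          (show α ∈ Λ from ⟨u, self_mem_Vu, m.notE h.uu, m.C_le h.uu.cE⟩)]
      refine Nat.mul_le_mul_right _ ?_
      rw [pow_succ' _ 2]; omega
  obtain ⟨γ, ⟨o, ho, rfl⟩, h1, h2⟩ := third ab hl ((h.K_D.trans inf_le_left).trans nO)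
    (h.K_D.trans inf_le_right) (by
      have := h.loc.cardK
      have : Even (2 ^ a) := (Nat.even_pow' (by omega)).2 even_two
      rw [Nat.odd_iff, Nat.even_iff] at *; omega)
  exact ⟨_, smul_ne' (Oα ho) h.ne.symm, h1, h2⟩

end Cfsg.Agent.As.SZa
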