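import Cfsg.Agent.As.L1s
import Cfsg.Agent.As.Cm3
import Cfsg.Agent.As.L1n
import Cfsg.Agent.As.L1d
import Cfsg.Agent.As.SZa

/-! Type `L₂(q)`: the structure of `R`. -/

set_option autoImplicit false
set_option linter.unusedSectionVars false
set_option maxHeartbeats 400000

namespace Cfsg.Agent.As.L1a

open Subgroup MulAction Cfsg.Agent.H1 Cfsg.Agent.L Cfsg.Agent.FT
open Cfsg.Agent.Be (invs odd_core conj_smul_smul)
open Cfsg.Agent.Be.P1 (orb smul_ne')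
open Cfsg.Agent.As.U3p (dvd_ncard)
open scoped Pointwise commutatorElement

variable {G Ω : Type} [Group G] [MulAction G Ω] {Z : Set G}
variable {α β γ : Ω} {u t v w g x y r s e k : G} {Q K Y : Subgroup G} {q : ℕ}

local notation "St" => stabilizer G

/-- `[R, k] E` when `R / E` is elementary abelian -/
def YY (R E : Subgroup G) (k : G) (hk : k ∈ 𝐍(R)) (hE : E ≤ R) (hn : R ≤ 𝐍(E))
    (sq : ∀ x ∈ R, x * x ∈ E) (ab : ∀ x ∈ R, ∀ y ∈ R, x⁻¹ * y⁻¹ * x * y ∈ E) : Subgroup G where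
  carrier := {x | ∃ r ∈ R, (r⁻¹ * (k * r * k⁻¹))⁻¹ * x ∈ E}
  one_mem' := ⟨1, one_mem _, by simpa using E.one_mem⟩
  mul_mem' := by
    rintro x y ⟨r, hr, h1⟩ ⟨s, hs, h2⟩
    have cr := mul_mem (inv_mem hr) (conj_mem_of_mem_normalizer hk hr)
    have cs := mul_mem (inv_mem hs) (conj_mem_of_mem_normalizer hk hs)
    refine ⟨r * s, mul_mem hr hs, ?_⟩
    have := mul_mem (conj_mem_of_mem_normalizer' (hn cs) (mul_mem (ab s hs _ cr) h1)) h2
    convert this using 1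
    group
  inv_mem' := by
    rintro x ⟨r, hr, h1⟩
    have cr := mul_mem (inv_mem hr) (conj_mem_of_mem_normalizer hk hr)
    have hx : x ∈ R := (mul_mem_cancel_left (inv_mem cr)).1 (hE h1)
    exact ⟨r, hr, by simpa [mul_assoc] using mul_mem h1 (sq _ (inv_mem hx))⟩

variable [Finite G] [c : Ctx Ω Z] [Cnt] [Be.BeI] [LocE]

theorem ncard_ne (m : M1 Ω Z q 1) (h1 : 1 ≤ q) : (Set.univ \ {α} : Set Ω).ncard = q ^ 3 := by
  rw [Set.ncard_sdiff_singleton_of_mem (Set.mem_univ _), Set.ncard_univ, m.card,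
    Nat.add_sub_cancel_left]
  obtain ⟨r, rfl⟩ : ∃ r, q = r + 1 := ⟨q - 1, by omega⟩
  rw [Nat.add_sub_cancel]; ring

section
variable (h : Cm Z α β u t Q K q 1)
include h

theorem O_bot : core {2}ᶜ 𝐂(Ea Z α) = ⊥ := by
  haveI := finΩ c.toRed
  set O := core {2}ᶜ 𝐂(Ea Z α)
  have Oα : O ≤ St α := (core_le _ _).trans h.m1.C_le
  have eq : ∀ δ, δ ≠ α → (St δ).relIndex O = (St β).relIndex O := fun δ hδ => by
    obtain ⟨g, h1, rfl⟩ := tr2 c h.ne.symm hδ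
    exact SZa.relIndex_smul (le_norm_core h.m1.nC _ h1) β
  have h1 : (St β).relIndex O ∣ q ^ 3 := by
    rw [← ncard_ne (α := α) h.m1 (by have := h.four_le; omega)]
    exact dvd_ncard (X := O) (O := Set.univ \ {α}) (Set.toFinite _)
      (fun g hg x hx => ⟨trivial, smul_ne' (Oα hg) hx.2⟩) fun x hx => (eq x hx.2).symm ▸ dvd_rfl
  obtain ⟨a, -, rfl⟩ := h.loc.pow
  have h2 : (St β).relIndex O = 1 := Nat.eq_one_of_dvd_coprimes
    (((Nat.coprime_two_right.2 (odd_core 𝐂(Ea Z α))).pow_right a).pow_right 3)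
    (relIndex_dvd_card _ _) h1
  refine eq_bot_iff.2 fun x hx => c.faith x fun δ => ?_
  by_cases e : δ = α
  · exact e ▸ Oα hx
  · exact relIndex_eq_one.1 ((eq δ e).trans h2) hx

theorem Y_le : Yu Z α u ≤ Vu Z α u :=
  (eq_of_le_of_card_le h.V_le_Y (by rw [h.card_Y, h.card_V, pow_one])).ge

theorem sqR (hs : s ∈ Ru Z α u) : s * s ∈ Ea Z α := by
  by_cases e : s ∈ Yu Z α u
  exacts [h.sq_Y e, h.sq_mem_E hs e (Y_le h (h.sq_R hs))]

theorem RE : Ru Z α u ≤ 𝐍(Ea Z α) := le_norm_of_le_cent Ru_le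

theorem abR (hx : x ∈ Ru Z α u) (hy : y ∈ Ru Z α u) : x⁻¹ * y⁻¹ * x * y ∈ Ea Z α := by
  have := mul_mem (mul_mem (sqR h (inv_mem (mul_mem hy hx)))
    (conj_mem_of_mem_normalizer (RE h hy) (sqR h hx))) (sqR h hy)
  convert this using 1
  group

/-- if `C(E) ≤ R`, some involution of `R` lies outside `V` -/
theorem not_inv (hC : 𝐂(Ea Z α) ≤ Ru Z α u) : ¬ ∀ y ∈ Ru Z α u, y * y = 1 → y ∈ Vu Z α u := fun H => by
  haveI := finΩ c.toRed
  have h1 : (Set.univ \ {α} : Set Ω) ⊆ Pts Z α u := fun δ hδ => by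
    obtain ⟨w, w2, wZ, wC, h2⟩ := h.m1.ex α δ (Ne.symm hδ.2)
    have w' : UU Z α w := ⟨w2, wZ, wC⟩
    exact ⟨hδ.2, w, H w (hC wC) w'.uu, h.m1.notE w', h2⟩
  have h2 := Set.ncard_le_ncard h1 (Set.toFinite _)
  have h3 := h.four_le
  rw [ncard_ne h.m1 (by omega), h.card_pts] at h2
  nlinarith [pow_pos (by omega : 0 < q) 2]

theorem tr (hs : s ∈ Ru Z α u) (hr : r ∈ Ru Z α u) (h1 : s ∉ Yu Z α u) (h2 : r ∉ Yu Z α u) :
    ∃ k ∈ K, r⁻¹ * (k * s * k⁻¹) ∈ Yu Z α u := by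
  obtain ⟨k, hk, e⟩ := h.loc.sing.tr _ hs.2 (mt (mem_Yu_iff hs.1).2 h1) _ hr.2
    (mt (mem_Yu_iff hr.1).2 h2)
  have h3 := conj_mem_of_mem_normalizer (h.K_R hk) hs
  refine ⟨k, hk, (mem_Yu_iff (mul_mem (inv_mem hr) h3).1).2 ?_⟩
  have h4 := phi_mul (u := u) hr.1 (mul_mem (inv_mem hr) h3)
  rw [mul_inv_cancel_left, h.phi_K hk, e] at h4
  exact (left_eq_mul.1 h4)

theorem exY : ∃ Y : Subgroup G, Y ≤ Ru Z α u ∧ Ea Z α ≤ Y ∧ K ≤ 𝐍(Y) ∧
    (∀ s ∈ Y, s ∈ Yu Z α u → s ∈ Ea Z α) ∧ Ru Z α u ≤ Y ⊔ Vu Z α u := by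
  obtain ⟨k, hk, k1⟩ := h.exists_k
  have ER : Ea Z α ≤ Ru Z α u := le_sup_left.trans h.V_le_R
  have cr : ∀ {r}, r ∈ Ru Z α u → r⁻¹ * (k * r * k⁻¹) ∈ Ru Z α u := fun hr =>
    mul_mem (inv_mem hr) (conj_mem_of_mem_normalizer (h.K_R hk) hr)
  refine ⟨YY _ _ k (h.K_R hk) ER (RE h) (fun _ => sqR h) fun _ hx _ => abR h hx, ?_,
    fun e he => ⟨1, one_mem _, by simpa using he⟩, le_norm_iff.2 ?_, ?_, fun s hs => ?_⟩
  · rintro x ⟨r, hr, h1⟩
    exact (mul_mem_cancel_left (inv_mem (cr hr))).1 (ER h1)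
  · rintro a ha x ⟨r, hr, h1⟩
    refine ⟨_, conj_mem_of_mem_normalizer (h.K_R ha) hr, ?_⟩
    have := conj_mem_of_mem_normalizer (h.loc.sing.norm ha) h1
    have e := mem_cent.1 (h.loc.sing.comm ha) k hk
    convert this using 1
    calc ((a * r * a⁻¹)⁻¹ * (k * (a * r * a⁻¹) * k⁻¹))⁻¹ * (a * x * a⁻¹)
        = k * a * r⁻¹ * (k * a)⁻¹ * a * r * x * a⁻¹ := by group
      _ = _ := by rw [e]; group
  · rintro x ⟨r, hr, h1⟩ hx
    have h2 : r⁻¹ * (k * r * k⁻¹) ∈ Yu Z α u := by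
      simpa using inv_mem ((mul_mem_cancel_right hx).1 ((le_sup_left.trans h.V_le_Y) h1))
    exact (mul_mem_cancel_left (inv_mem (h.K_cent hk (Y_le h (h.mem_Y_of_K hk k1 hr h2))))).1 h1
  · obtain ⟨r, hr, h1⟩ := h.R_gen hk k1 hs
    have := mul_mem (mem_sup_left (T := Vu Z α u) (show r⁻¹ * (k * r * k⁻¹) ∈
      YY _ _ k (h.K_R hk) ER (RE h) (fun _ => sqR h) fun _ hx _ => abR h hx from
        ⟨r, hr, by rw [inv_mul_cancel]; exact one_mem _⟩)) (mem_sup_right (Y_le h h1))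
    rwa [mul_inv_cancel_left] at this

theorem exS0 (hy : y ∈ Ru Z α u) (yy : y * y = 1) (yV : y ∉ Vu Z α u) :
    ∃ u β t Q K Y, L1S Z α β u t Q K q Y := by
  obtain ⟨Y, YR, EY, KY, hI, hS⟩ := exY h
  have sE := h.m1.sqE (α := α)
  have H := h.dich.resolve_left fun e => yV (Y_le h (e ▸ hy))
  have nY : Vu Z α u ≤ 𝐍(Y) := le_norm_iff.2 fun a ha x hx => by
    simpa [mul_assoc] using mul_mem (EY (abR h (inv_mem (h.V_le_R ha)) (inv_mem (YR hx)))) hx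
  have dec : ∀ {s}, s ∈ Ru Z α u → ∃ w ∈ Tu Ω u, ∃ r ∈ Y, w * r = s := fun hs => by
    obtain ⟨r, hr, v, hv, rfl⟩ := (H1.mem_sup_of_le_normalizer' nY).1 (hS hs)
    obtain ⟨e, he, w, hw, rfl⟩ := h.mem_V.1 hv
    exact ⟨w, hw, w⁻¹ * (r * e) * w, conj_mem_of_mem_normalizer' (nY (mem_sup_right hw))
      (mul_mem hr (EY he)), by group⟩
  have trY : ∀ {s}, s ∈ Y → s ∉ Ea Z α → ∀ r ∈ Y, r ∈ Ea Z α ∨
      ∃ k ∈ K, ∃ e ∈ Ea Z α, r = k * s * k⁻¹ * e := fun {s} hs h1 r hr => by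
    refine or_iff_not_imp_left.2 fun h2 => ?_
    obtain ⟨k, hk, h3⟩ := tr h (YR hs) (YR hr) (mt (hI s hs) h1) (mt (hI r hr) h2)
    exact ⟨k, hk, _, inv_mem (hI _ (mul_mem (inv_mem hr)
      (conj_mem_of_mem_normalizer (KY hk) hs)) h3), by group⟩
  have cE : ∀ {s e}, s ∈ Ru Z α u → e ∈ Ea Z α → e * s = s * e := fun hs he => mem_cent.1 hs.1 _ he
  have one : ∀ s ∈ Y, s * s = 1 → s ∈ Ea Z α := fun s hs ss => by
    by_contra h1
    have sq : Sg.Sq Y := fun r hr => by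
      rcases trY hs h1 r hr with h2 | ⟨k, hk, e, he, rfl⟩
      · exact sE r h2
      rw [mul_assoc _ e, ← mul_assoc e, cE (conj_mem_of_mem_normalizer (h.K_R hk) (YR hs)) he,
        mul_assoc _ e, sE e he, mul_one, conj_mul, ss, mul_one, mul_inv_cancel]
    obtain ⟨k, hk, k1⟩ := h.exists_k
    exact h1 (hI s hs (h.mem_Y_of_K hk k1 (YR hs) ((le_sup_left.trans h.V_le_Y) (h.KF_comm
      (h.m1.uu_of ss (YR hs).1 h1) (fun k hk => sq.cent1 hs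
        (conj_mem_of_mem_normalizer (KY hk) hs)) hk))))
  obtain ⟨τ, hτ, s, hs, rfl⟩ := dec hy
  have sE' : s ∉ Ea Z α := fun e => yV (mul_mem (mem_sup_right hτ) (mem_sup_left e))
  have ss : s * s ≠ 1 := mt (one s hs) sE'
  have τ1 : τ ≠ 1 := fun e => ss (by simpa [e] using yy)
  have τi : ∀ {w}, w ∈ Tu Ω u → w⁻¹ = w := fun hw => h.vs.sq.inv hw
  have inv : ∀ r ∈ Y, τ * r * τ⁻¹ = r⁻¹ := fun r hr => by
    have iE : ∀ {e}, e ∈ Ea Z α → τ * e * τ⁻¹ = e⁻¹ := fun he => by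
      rw [← cE (h.V_le_R (mem_sup_right hτ)) he, mul_inv_cancel_right, sE.inv he]
    rcases trY hs sE' r hr with h2 | ⟨k, hk, e, he, rfl⟩
    · exact iE h2
    have h3 : τ * s * τ⁻¹ = s⁻¹ := by rw [τi hτ, eq_inv_iff_mul_eq_one, mul_assoc (τ * s), yy]
    have h4 := mul_inv_eq_iff_eq_mul.1 (h.KW hk hτ.1)
    rw [← cE (conj_mem_of_mem_normalizer (h.K_R hk) (YR hs)) he, mul_inv_rev,
      ← cE (inv_mem (conj_mem_of_mem_normalizer (h.K_R hk) (YR hs))) (inv_mem he), ← conj_mul, iE he]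
    congr 1
    calc τ * (k * s * k⁻¹) * τ⁻¹ = τ * k * s * (τ * k)⁻¹ := by group
      _ = k * (τ * s * τ⁻¹) * k⁻¹ := by rw [← h4]; group
      _ = _ := by rw [h3]; group
  have comm : Y ≤ 𝐂(Y) := le_cent_iff.2 fun a ha b hb => by
    rw [← inv_inj, mul_inv_rev, ← inv a ha, ← inv b hb, conj_mul, inv _ (mul_mem ha hb)]
  have τV : τ ∈ Vu Z α u := mem_sup_right hτ
  have nE : ∀ {w}, w ∈ Tu Ω u → w ≠ 1 → w ∉ Ea Z α := fun hw w1 e => w1 (h.EW e hw.1)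
  have T2 : ∀ w ∈ Tu Ω u, w = 1 ∨ w = τ := fun w hw => by
    refine or_iff_not_imp_left.2 fun w1 => ?_
    have wV : w ∈ Vu Z α u := mem_sup_right hw
    have h1 := h.R_cent (YR hs) wV
    obtain ⟨k, hk, e⟩ := h.loc.sing.tr _ (sqR h (YR hs)) ss _ h1 fun e => sE' (hI s hs
      (h.mem_Y_of wV (nE hw w1) (YR hs).1 (mul_inv_eq_iff_eq_mul.1 (inv_mul_eq_one.1 e).symm)))
    have hr := conj_mem_of_mem_normalizer (KY hk) hs
    have rE : k * s * k⁻¹ ∉ Ea Z α := fun e => sE' (by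
      simpa [mul_assoc] using conj_mem_of_mem_normalizer' (h.loc.sing.norm hk) e)
    rw [← conj_mul] at e
    generalize k * s * k⁻¹ = r at hr rE e
    have uy := h.m1.uu_of yy hy.1 fun e => yV (mem_sup_left e)
    obtain ⟨_, _, _, _, h'⟩ := h.m1.cm h.j3 uy
    have r4 : r * r * (r * r) = 1 := sE _ (sqR h (YR hr))
    have h2 : w * r * (w * r) = 1 := h'.sqV _ (Y_le h' ⟨mul_mem (h.V_le_R wV).1 (YR hr).1,
      mem_cent1.2 (by
        have e1 : r * τ = τ * r⁻¹ := by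
          have := inv _ (inv_mem hr)
          rw [inv_inv, mul_inv_eq_iff_eq_mul] at this
          exact this.symm
        have e2 : s * w = w * (r * r) * s := by rw [e]; group
        have e3 : r⁻¹ = r * r * r := by rw [inv_eq_iff_mul_eq_one, ← r4]; group
        calc w * r * (τ * s) = w * (r * τ) * s := by group
          _ = w * τ * (r * r * (r * s)) := by rw [e1, e3]; group
          _ = τ * (w * (r * r) * s) * r := by
            rw [mem_cent.1 (h.vs.sq.cent hτ) w hw, mem_cent.1 (comm hs) r hr]; group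
          _ = _ := by rw [← e2]; group)⟩)
    by_contra h3
    refine rE (hI r hr (h.mem_Y_of (mul_mem wV τV) (nE (mul_mem hw hτ) fun e => h3 ?_) (YR hr).1 ?_))
    · rw [eq_inv_of_mul_eq_one_left e, τi hτ]
    · have e1 : w * r⁻¹ * w⁻¹ = r := by
        rw [← conj_inv, τi hw, inv_eq_iff_mul_eq_one, mul_assoc (w * r), h2]
      calc r * (w * τ) = w * r⁻¹ * w⁻¹ * (w * τ) := by rw [e1]
        _ = _ := by rw [← inv r hr]; group
  obtain ⟨β', t', Q', K', h'⟩ := h.cm_V τV (nE hτ τ1)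
  have eR := h.R_eq_v τV (nE hτ τ1)
  refine ⟨τ, β', t', Q', K', Y, h', h.T_eq hτ τ1 ▸ T2, eR ▸ YR, EY, comm, ?_, inv, fun a ha => ?_,
    fun a ha => sqR h (YR ha), one, fun e => nE hτ τ1 (hI τ e (h.V_le_Y τV))⟩
  · have h1 := card_sup_mul_card_inf nY
    rw [show Vu Z α u ⊔ Y = Ru Z α u from le_antisymm (sup_le h.V_le_R YR) (sup_comm Y _ ▸ hS),
      show Vu Z α u ⊓ Y = Ea Z α from le_antisymm (fun x hx => hI x hx.2 (h.V_le_Y hx.1))
        (le_inf le_sup_left EY), h.card_R H, h.card_Y, pow_one, ← h.card_V, h.loc.cardE] at h1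
    exact Nat.eq_of_mul_eq_mul_left (Nat.card_pos (α := Vu Z α u)) (by rw [← h1]; ring)
  · obtain ⟨w, hw, r, hr, rfl⟩ := dec (eR ▸ ha)
    rcases T2 w hw with rfl | rfl
    · exact Or.inl (by rwa [one_mul])
    · exact Or.inr (by rwa [← mul_assoc, h.vs.sq w hw, one_mul])

/-- conjugates of `u` in `R` have the same `R` -/
theorem norm_of_conj (hx : x ∈ 𝐂(Ea Z α)) (h1 : x * u * x⁻¹ ∈ Ru Z α u) : x ∈ 𝐍(Ru Z α u) := by
  refine conj_eq_self_iff.1 (eq_of_le_of_card_le ?_ (FT.card_conj _ _).le).symm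
  rw [h.m1.conj_Ru (h.m1.C_le hx)]
  exact fun s hs => ⟨hs.1, by simpa [mul_assoc] using abR h h1 (inv_mem hs)⟩

theorem C_le (H : ∀ x ∈ 𝐂(Ea Z α), ∃ k ∈ core {2}ᶜ 𝐂(Ea Z α), k⁻¹ * x ∈ Ru Z α u) :
    𝐂(Ea Z α) ≤ Ru Z α u := fun x hx => by
  obtain ⟨k, hk, h1⟩ := H x hx
  rwa [mem_bot.1 ((O_bot h).le hk), inv_one, one_mul] at h1

theorem exS : ∃ u β t Q K Y, L1S Z α β u t Q K q Y := by
  by_cases H : ∀ y ∈ Ru Z α u, y * y = 1 → y ∈ Vu Z α u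
  · exact (not_inv h (C_le h fun _ => h.iso_of_inv H) H).elim
  push Not at H
  obtain ⟨y, h1, h2, h3⟩ := H
  exact exS0 h h1 h2 h3

theorem CR (hN : 𝐂(Ea Z α) ⊓ 𝐍(Ru Z α u) ≤ Ru Z α u) : 𝐂(Ea Z α) ≤ Ru Z α u :=
  C_le h fun _ => h.iso fun _ hx h1 => hN ⟨hx, norm_of_conj h hx h1⟩

end

instance instL1 [Be.BeI] [Cnt] [LocE] [Det] [Fld] : L1 where
  no := fun {G Ω} _ _ _ {Z} c {q} m => by
    have := c.nontriv
    obtain ⟨α, β, hne⟩ := exists_pair_ne Ω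
    obtain ⟨u, h1, h2, h3, -⟩ := m.ex α β hne
    obtain ⟨_, _, _, _, h⟩ := m.cm (by decide) ⟨h1, h2, h3⟩
    obtain ⟨u, β, t, Q, K, Y, s⟩ := exS h
    by_cases hN : 𝐂(Ea Z α) ⊓ 𝐍(Ru Z α u) ≤ Ru Z α u
    exacts [s.noC (CR s.cm hN), s.noN hN]

end Cfsg.Agent.As.L1a
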