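import Cfsg.Agent.As.Cm1

/-! Type `L₂(q)`: the structure of `R` (interface for the pieces of slice `L1`). -/

set_option autoImplicit false
set_option linter.unusedSectionVars false

namespace Cfsg.Agent.As

open Subgroup MulAction Cfsg.Agent.H1 Cfsg.Agent.L Cfsg.Agent.FT
open scoped Pointwise commutatorElement

variable {G Ω : Type} [Group G] [MulAction G Ω] {Z : Set G}
variable {α β : Ω} {u t y s : G} {Q K Y : Subgroup G} {q : ℕ}

/-- `R = Y ⟨u⟩` with `Y` homocyclic of exponent `4` inverted by `u` -/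
structure L1S (Z : Set G) (α β : Ω) (u t : G) (Q K : Subgroup G) (q : ℕ) (Y : Subgroup G) :
    Prop where
  cm : Cm Z α β u t Q K q 1
  T2 : ∀ w ∈ Tu Ω u, w = 1 ∨ w = u
  le : Y ≤ Ru Z α u
  EY : Ea Z α ≤ Y
  comm : Y ≤ 𝐂(Y)
  card : #|Y| = q ^ 2
  inv : ∀ s ∈ Y, u * s * u⁻¹ = s⁻¹
  cov : ∀ s ∈ Ru Z α u, s ∈ Y ∨ u * s ∈ Y
  sq : ∀ s ∈ Y, s * s ∈ Ea Z α
  one : ∀ s ∈ Y, s * s = 1 → s ∈ Ea Z α
  uY : u ∉ Y

namespace L1S
variable [Finite G] [c : Ctx Ω Z] (h : L1S Z α β u t Q K q Y)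
include h

theorem uu : u * u = 1 := h.cm.uu.uu

theorem ui : u⁻¹ = u := inv_eq_of_mul_eq_one_right h.uu

theorem uR : u ∈ Ru Z α u := h.cm.V_le_R self_mem_Vu

theorem sq_us (hs : s ∈ Y) : u * s * (u * s) = 1 := by
  have := h.inv s hs
  rw [h.ui] at this
  rw [← mul_assoc, this, inv_mul_cancel]

/-- `Y` is determined by `R` and `E` -/
theorem mem_iff : s ∈ Y ↔ s ∈ Ru Z α u ∧ (s ∈ Ea Z α ∨ s * s ≠ 1) := by
  refine ⟨fun hs => ⟨h.le hs, or_iff_not_imp_right.2 fun e => h.one s hs (not_not.1 e)⟩, fun hs => ?_⟩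
  rcases hs.2 with e | e
  · exact h.EY e
  refine (h.cov s hs.1).resolve_right fun e' => e ?_
  simpa [← mul_assoc, h.uu] using h.sq_us e'

theorem norm_Y : 𝐍(Ru Z α u) ⊓ 𝐍(Ea Z α) ≤ 𝐍(Y) := le_norm_iff.2 fun g hg s hs => by
  rw [h.mem_iff] at hs ⊢
  refine ⟨conj_mem_of_mem_normalizer hg.1 hs.1, hs.2.imp (conj_mem_of_mem_normalizer hg.2) fun e e' => e ?_⟩
  rwa [conj_mul, conj_eq_one_iff] at e'

/-- the involutions of `R ∖ E` -/
theorem inv_mem (hy : y ∈ Ru Z α u) (h2 : y * y = 1) (hE : y ∉ Ea Z α) : u * y ∈ Y :=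
  (h.cov y hy).resolve_left fun e => hE (h.one y e h2)

theorem uu_us (hs : s ∈ Y) : UU Z α (u * s) :=
  h.cm.m1.uu_of (h.sq_us hs) (Ru_le (mul_mem h.uR (h.le hs))) fun e =>
    h.uY ((mul_mem_cancel_right hs).1 (h.EY e))

end L1S

end Cfsg.Agent.As
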