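import Cfsg.Agent.As.P
import Cfsg.Agent.Go.C1

/-! LocE, part 1: automorphisms of a simple rank one group centralising `Q₀`. -/

set_option autoImplicit false
set_option linter.unusedSectionVars false
set_option linter.style.haveILetI false

namespace Cfsg.Agent.As.Lc

open Subgroup Cfsg.Agent.FT Cfsg.Agent.H1 Cfsg.Agent.L Cfsg.Agent.Sg Cfsg.Agent.Sz Cfsg.Agent.Go
open scoped Pointwise commutatorElement

variable {G : Type} [Group G] [Finite G] [IsSimpleGroup G] {S : Sys G}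
variable {α β γ : MulAut G} {x y k : G} {P : Subgroup (MulAut G)}

theorem a1_t (h : α ∈ A1 S) : α ∈ A2 S := by
  refine ⟨h.1, ?_⟩
  have hk := isK_t h.2
  obtain ⟨a, ha, e⟩ := hk.sqrt
  have e1 : α S.t = S.t * (a * a) := by rw [e, S.tt']
  have e2 := congrArg α S.str
  simp only [map_mul, map_inv] at e2
  rw [h.1 _ ⟨S.sQ, S.ss⟩, e1] at e2
  have hk' : S.IsK (a * a) := e ▸ hk
  have e3 : S.t * (a * a * S.s * (a * a)⁻¹) * S.t = α S.r * S.t * (a * a) * (α S.r)⁻¹ := by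
    rw [mul_assoc (α S.r), ← e2, mul_assoc S.t, mul_assoc (a * a * S.s), ← hk'.tk]; group
  have n1 : a * a * S.s * (a * a)⁻¹ ≠ 1 := fun e => S.s1 (by simpa [mul_assoc] using conj_eq_one_iff.1 e)
  have e4 := (S.unique_of_isK (S.Qn _ hk'.1 _ S.sQ) n1 (S.Qn _ ha.1 _ S.sQ) (autQ h.1 S.rQ)
    (S.Qn' ha.1 S.rQ) e3 (S.str_conj ha)).1
  rw [e1, mul_eq_left.1 (S.K_conj_inj hk' ha e4), mul_one, mul_one]

theorem aut_sq (h : α ∈ A0 S) (h2 : x⁻¹ * α x ∈ S.Q0) : (α * α) x = x := by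
  have := h _ h2
  rw [map_mul, map_inv, inv_mul_eq_iff_eq_mul] at this
  show α (α x) = x
  rw [this, ← mul_inv_cancel_left x (α x), mul_inv_cancel_left, ← mul_inv_cancel_left x (α x),
    mul_assoc, inv_mul_cancel_left, h2.2, mul_one]

theorem aut_one (h : α ∈ A2 S) (h1 : ∀ x ∈ S.Q, x⁻¹ * α x ∈ S.Q0) : α = 1 := by
  have h2 : ∀ g, α (α g) = g := fun g =>
    (S.eq_top (L := (α * α).toMonoidHom.eqLocus (MonoidHom.id G)) (fun x hx => aut_sq h.1 (h1 x hx))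
      (show α (α S.t) = S.t by rw [h.2, h.2])).ge (mem_top g)
  obtain ⟨v, hv, e⟩ := S.aut_inner α h2 h.1 h1
  have := S.free v hv.1 (by
    have e' := e S.t
    rw [h.2, eq_mul_inv_iff_mul_eq] at e'
    rw [e', mul_assoc, S.tt, mul_one]; exact S.QH hv.1)
  ext g; rw [e, this]; simp

/-- on an invariant section of order `q` above `Q₀` the action is trivial -/
theorem sq_sec {X : Subgroup G} (h : α ∈ A0 S) (h0 : S.Q0 ≤ X) (hX : X ≤ S.Q)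
    (hK : ∀ k, S.IsK k → k ∈ 𝐍(X)) (hα : ∀ x ∈ X, α x ∈ X) (hc : #|X| = S.q ^ 2) (hx : x ∈ X) :
    x⁻¹ * α x ∈ S.Q0 := by
  by_cases x0 : x ∈ S.Q0
  · rw [h x x0, inv_mul_cancel]; exact one_mem _
  obtain ⟨F, _, _, ⟨c⟩⟩ := S.rk2_of_simple.exists_co
  obtain ⟨a, ha⟩ := c.trans_quot h0 hX (c.K_le_H.trans S.Q0_norm) (fun k hk => hK k (c.mem_K.1 hk))
    (by rw [hc, S.card_Q0, c.q_eq, sq]) hx (hα x hx) x0 fun e => x0 (α.injective (h _ e) ▸ e)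
  have m := S.Qn _ (c.κ_H a) x (hX hx)
  have c1 := mem_cent.1 (S.Q0_cent ha) _ (autQ h (hX hx))
  have e1 : c.κ a * (x * x) * (c.κ a)⁻¹ = x * x := by
    have h3 := ha.2
    have h4 := inv_mul_cancel_right (c.κ a * x * (c.κ a)⁻¹) (α x)
    generalize c.κ a * x * (c.κ a)⁻¹ * (α x)⁻¹ = u at *
    conv_rhs => rw [← h _ (sq_Q0 (hX hx)), map_mul]
    calc _ = c.κ a * x * (c.κ a)⁻¹ * (c.κ a * x * (c.κ a)⁻¹) := by group
      _ = _ := by rw [← h4, mul_assoc, ← mul_assoc (α x), c1, mul_assoc u, ← mul_assoc, h3, one_mul]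
  rw [c.κ_free (S.Q.mul_mem (hX hx) (hX hx)) e1 fun e => x0 ⟨hX hx, e⟩, map_one] at ha
  simpa [mul_assoc] using le_norm_iff.1 S.Q0_norm x⁻¹ (S.H.inv_mem (S.QH (hX hx))) _ (inv_mem ha)

theorem aut_j (h : α ∈ A2 S) (hj : #|S.Q| ≠ S.q ^ 3) : α = 1 := by
  obtain ⟨-, ⟨-, e⟩ | ⟨-, e⟩ | ⟨-, e⟩⟩ := S.rk2_of_simple.good
  · by_contra h1
    exact (A2_fix h h1).2 (eq_of_le_of_card_le S.Q0_le e.le).ge
  · exact aut_one h fun x hx => sq_sec h.1 S.Q0_le le_rfl (fun k hk => S.Q_normal.norm hk.1)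
      (fun x hx => autQ h.1 hx) e hx
  · exact (hj e).elim

theorem fix_odd (h : α ∈ A2 S) (h1 : α ≠ 1) (ho : Odd (orderOf α)) (hx : x ∈ S.Q)
    (h2 : x⁻¹ * α x ∈ S.Q0) : x ∈ S.Q0 := (A2_fix h h1).1 x hx
  (Sz.mem_of_sq_mem_of_odd (X := MulAction.stabilizer (MulAut G) x) ho (aut_sq h.1 h2))

theorem irr {X : Subgroup G} (hj : #|S.Q| = S.q ^ 3) (h : α ∈ A2 S) (h1 : α ≠ 1)
    (ho : Odd (orderOf α)) (h0 : S.Q0 ≤ X) (hX : X ≤ S.Q) (hK : ∀ k, S.IsK k → k ∈ 𝐍(X))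
    (hα : ∀ x ∈ X, α x ∈ X) : X ≤ S.Q0 ∨ S.Q ≤ X := by
  obtain ⟨F, _, _, ⟨c⟩⟩ := S.rk2_of_simple.exists_co
  obtain ⟨i, hi⟩ := c.card_pow hX (fun k hk => hK k (c.mem_K.1 hk))
    (S.rk2_of_simple.good.pgroup.to_le hX)
  rw [← c.q_eq] at hi
  have q4 : 4 ≤ S.q := c.q_eq ▸ c.four_le
  have i3 : i ≤ 3 := (Nat.pow_le_pow_iff_right (by omega)).1 (hi ▸ hj ▸ card_le_of_le hX)
  by_cases e2 : i = 2
  · exact Or.inl fun x hx => fix_odd h h1 ho (hX hx) (sq_sec h.1 h0 hX hK hα (e2 ▸ hi) hx)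
  by_cases e3 : i = 3
  · exact Or.inr (eq_of_le_of_card_le hX (by rw [hi, hj, e3])).ge
  refine Or.inl (eq_of_le_of_card_le h0 ?_).ge
  rw [hi, S.card_Q0]
  exact (Nat.pow_le_pow_right (by omega) (by omega : i ≤ 1)).trans (pow_one _).le

theorem two_x (hP : P ≤ A2 S) (h2 : IsPGroup 2 P) (P1 : P ≠ ⊥) :
    ∃ α ∈ P, α ≠ 1 ∧ ∃ x ∈ S.Q, x ∉ S.Q0 ∧ ∀ β ∈ P, x⁻¹ * β x ∈ S.Q0 := by
  obtain ⟨α, ha, a0⟩ := exists_mem_orderOf_eq Nat.prime_two (pgroup_dvd_card Nat.prime_two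
    (h2.to_le (zent_le P)) (zent_ne_bot (pgroup_nil Nat.prime_two h2) P1))
  have a1 : α ≠ 1 := fun e => by simp [e] at a0
  have a2 : α * α = 1 := by rw [← sq, ← a0, pow_orderOf_eq_one]
  have hα := hP ha.1
  obtain ⟨x, hx, x0, x1⟩ : ∃ x ∈ S.Q, x ∉ S.Q0 ∧ x⁻¹ * α x ∈ S.Q0 := by
    obtain ⟨x, hx, x0⟩ := SetLike.not_le_iff_exists.1 (A2_fix hα a1).2
    by_cases x1 : x⁻¹ * α x ∈ S.Q0
    · exact ⟨x, hx, x0, x1⟩
    have m := S.Q.mul_mem (S.Q.inv_mem hx) (autQ hα.1 hx)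
    refine ⟨_, m, x1, ?_⟩
    rw [map_mul, map_inv, show α (α x) = x from DFunLike.congr_fun a2 x]
    simpa [mul_assoc] using sq_Q0 (S.Q.inv_mem m)
  exact ⟨α, ha.1, a1, x, hx, x0, fun β hβ =>
    A2_mem hα a1 hx x0 x1 (hP hβ).1 hα.1 (mem_cent.1 ha.2 β hβ).symm x1⟩

/-- a nontrivial `2`-subgroup of `A2` is not normalised by an element of odd order -/
theorem two_norm (hP : P ≤ A2 S) (h2 : IsPGroup 2 P) (h : β ∈ A2 S) (h1 : β ≠ 1)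
    (ho : Odd (orderOf β)) (hn : β ∈ 𝐍(P)) : P = ⊥ := by
  by_contra P1
  obtain ⟨α, ha, a1, x, hx, x0, k1⟩ := two_x hP h2 P1
  have m := conj_mem_of_mem_normalizer' hn ha
  exact x0 (fix_odd h h1 ho hx (A2_mem (hP ha) a1 hx x0 (k1 _ ha) h.1 (hP m).1 (by group) (k1 _ m)))

theorem A0_dec (ha : α ∈ A0 S) : ∃ x ∈ S.Q, (MulAut.conj x)⁻¹ * α ∈ A2 S := by
  obtain ⟨x, hx, y, hy, e⟩ := S.bru (α S.t) fun H => S.tH (by simpa using autH (inv_mem ha) H)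
  refine ⟨x, hx, a1_t ⟨mul_mem (fun z hz => ?_) ha, ?_⟩⟩
  · simp [mul_assoc, ← mem_cent.1 (S.Q0_cent hz) x hx]
  · simpa [e, mul_assoc] using S.H.mul_mem hy (S.QH hx)

theorem inner_of (hP : P ≤ A0 S) (h2 : IsPGroup 2 P) (h : β ∈ A2 S) (h1 : β ≠ 1)
    (ho : Odd (orderOf β)) (hn : β ∈ 𝐍(P)) (ha : α ∈ P) : ∃ x ∈ S.Q, α = MulAut.conj x := by
  have n0 : A0 S ≤ 𝐍(S.Q.map MulAut.conj) := le_norm_iff.2 (by
    rintro α ha _ ⟨x, hx, rfl⟩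
    exact ⟨α x, autQ ha hx, by ext; simp⟩)
  have := two_norm (P := (S.Q.map MulAut.conj ⊔ P) ⊓ A2 S) inf_le_right
    ((pgroup_sup (S.rk2_of_simple.good.pgroup.map _) h2 (Or.inr (hP.trans n0))).to_le inf_le_left) h h1 ho
    (Be.PL.mem_norm_inf (normalizer_inf_normalizer_le_normalizer_sup _ _ ⟨n0 h.1, hn⟩) (le_normalizer h))
  obtain ⟨x, hx, e⟩ := A0_dec (hP ha)
  exact ⟨x, hx, (inv_mul_eq_one.1 (this.le (mem_inf.2 ⟨mul_mem (inv_mem (mem_sup_left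
    (mem_map_of_mem _ hx))) (mem_sup_right ha), e⟩))).symm⟩

theorem card_two [SysX] (hP : P ≤ A2 S) (h2 : IsPGroup 2 P) : #|P| ≤ 2 := by
  by_cases hj : #|S.Q| = S.q ^ 3
  swap
  · rw [show P = ⊥ from eq_bot_iff.2 fun α ha => aut_j (hP ha) hj]; simp
  obtain ⟨v, hv, v1, vc⟩ := SysX.v0 S hj
  let V := (S.V ⊓ 𝐂(S.Q0)).map (MulAut.conj : G →* MulAut G)
  have V2 : V ≤ A2 S := by
    rintro _ ⟨w, hw, rfl⟩
    exact ⟨fun x hx => by simp [← mem_cent.1 hw.2 x hx], by simp [S.V_comm hw.1]⟩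
  have Vo : ∀ γ ∈ V, Odd (orderOf γ) := by
    rintro _ ⟨w, hw, rfl⟩
    exact (S.D_odd (S.VD hw.1)).of_dvd_nat (orderOf_map_dvd _ w)
  have Vn : ∀ α ∈ A2 S, ∀ γ ∈ V, α * γ * α⁻¹ ∈ V := by
    rintro α ha _ ⟨w, hw, rfl⟩
    refine ⟨α w, ⟨⟨autH ha.1 hw.1.1, ?_⟩, mem_cent.2 fun x hx => ?_⟩, by ext; simp⟩
    · conv_lhs => rw [← ha.2, ← map_mul, ← map_mul, hw.1.2]
    · rw [← ha.1 x hx, ← map_mul, ← map_mul, mem_cent.1 hw.2 x hx]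
  have Vf : ∀ α ∈ P, α ≠ 1 → ∀ γ ∈ V, α * γ * α⁻¹ = γ → γ = 1 := fun α ha a1 γ hγ e => by
    by_contra g1
    exact a1 ((two_norm ((zpowers_le.2 ha).trans hP) (h2.to_le (zpowers_le.2 ha)) (V2 hγ) g1 (Vo γ hγ)
      (cent_le_norm _ (by rw [cent_zpowers, mem_cent1]; exact (mul_inv_eq_iff_eq_mul.1 e).symm))).le
      (mem_zpowers α))
  have w1 : MulAut.conj v ≠ 1 := fun e => v1 (by
    have : v ∈ center G := mem_center_iff.2 fun g => by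
      have := DFunLike.congr_fun e g
      simp only [MulAut.conj_apply, MulAut.one_apply, mul_inv_eq_iff_eq_mul] at this
      exact this.symm
    rwa [S.center_eq_bot] at this)
  have wV : MulAut.conj v ∈ V := mem_map_of_mem _ ⟨hv, vc⟩
  by_cases P1 : P = ⊥
  · rw [P1]; simp
  obtain ⟨α, ha, a1, x, hx, x0, k1⟩ := two_x hP h2 P1
  have inv : ∀ β ∈ P, β ≠ 1 → β * MulAut.conj v * β⁻¹ = (MulAut.conj v)⁻¹ := fun β hb b1 => by
    have a2 : β * β = 1 := by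
      by_contra e
      exact x0 ((A2_fix (hP (P.mul_mem hb hb)) e).1 x hx (aut_sq (hP hb).1 (k1 β hb)))
    obtain ⟨c, -, e⟩ := Sz.exists_comm_of_free (Vn β (hP hb)) (Vf β hb b1) wV
    rw [← e]
    calc _ = β * c⁻¹ * β⁻¹ * (β * β) * c * (β * β)⁻¹ := by group
      _ = _ := by rw [a2]; group
  refine (Set.ncard_le_ncard (s := (P : Set _)) (t := {1, α}) (fun β hb => ?_)).trans
    (Set.ncard_pair a1.symm).le
  by_contra e
  simp only [Set.mem_insert_iff, Set.mem_singleton_iff, not_or] at e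
  refine w1 (Vf _ (P.mul_mem (P.inv_mem ha) hb) (fun e' => e.2 (inv_mul_eq_one.1 e').symm) _ wV ?_)
  calc _ = α⁻¹ * (β * MulAut.conj v * β⁻¹) * α := by group
    _ = _ := by rw [inv β hb e.1, ← inv α ha a1]; group

end Cfsg.Agent.As.Lc
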