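import Cfsg.Agent.As.Loc2

/-! LocE, part 3: the subgroups `E`, `Q`, `K`. -/

set_option autoImplicit false
set_option linter.unusedSectionVars false
set_option linter.style.haveILetI false

namespace Cfsg.Agent.As.Lc

open Subgroup MulAction Cfsg.Agent.H1 Cfsg.Agent.L Cfsg.Agent.FT Cfsg.Agent.FT.B1 Cfsg.Agent.Go
open Cfsg.Agent.Be (invs sq_of_two inv_of_two two_of_sq ne_one_of_two odd_orderOf_of_mem odd_core
  le_core_of_odd conj_smul_smul two_conj)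
open Cfsg.Agent.Be.P1 (orb conj_st conj_st2 le_st_smul swap_norm not_le_of_ne self_mem_orb smul_mem_orb)
open scoped Pointwise commutatorElement

variable {G Ω : Type} [Group G] [MulAction G Ω] {Z : Set G}
variable {a b t g k k' x y : G} {α β γ : Ω} {N E Q K : Subgroup G}
variable {X : Type} [Group X] {S : Sz.Sys X} {f : ZZ Z N →* X} {ρ : N →* MulAut X}

local notation "St" => stabilizer G

/-- with the subgroups -/
structure Lq (Z : Set G) (N : Subgroup G) (α β : Ω) (t : G) {X : Type} [Group X] (S : Sz.Sys X)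
    (f : ZZ Z N →* X) (ρ : N →* MulAut X) (E Q K : Subgroup G) : Prop
    extends Lf Z N α β t S f ρ where
  memE : ∀ x, x ∈ E ↔ x = 1 ∨ (x ∈ Z ∧ x ∈ N ∧ x • α = α)
  memK : ∀ k, k ∈ K ↔ k ∈ N ∧ k ∈ invs (core {2}ᶜ (St α ⊓ St β)) t
  syl : IsSylowIn 2 Q (mpre f S.Q)

variable [Finite G] [c : Ctx Ω Z] [Be.BeI] [Finite X] [IsSimpleGroup X]

namespace Lf
variable (h : Lf Z N α β t S f ρ)
include h

theorem div (hx : x ∈ ZZ Z N) (hy : y ∈ ZZ Z N) : xt f x = xt f y ↔ x⁻¹ * y ∈ Ker N α := by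
  rw [← h.one _ (mul_mem (inv_mem hx) hy), xt_mul (inv_mem hx) hy, xt_inv hx, inv_mul_eq_one]

theorem stD (hx : x ∈ ZZ Z N) : xt f x ∈ S.D ↔ x • α = α ∧ x • β = β := by
  rw [S.mem_D, h.st x hx, ← h.ft, ← xt_mul h.tL hx, ← xt_mul (mul_mem h.tL hx) h.tL,
    h.st _ (mul_mem (mul_mem h.tL hx) h.tL), mul_smul, mul_smul, h.tα, smul_eq_iff_eq_inv_smul t,
    zinv (Ω := Ω) h.tZ, h.tα]

theorem isK (hk : k ∈ invs (core {2}ᶜ (St α ⊓ St β)) t) (hN : k ∈ N) : S.IsK (xt f k) := by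
  have m := h.K_L hk hN
  refine ⟨(h.st k m).2 (h.K_D hk).1, ?_⟩
  rw [← h.ft, ← xt_mul h.tL m, ← xt_mul (mul_mem h.tL m) h.tL, hk.2, xt_inv m]

theorem sq (ha : a ∈ Z) (haN : a ∈ N) : xt f a * xt f a = 1 := by
  rw [← xt_mul (mem_ZZ ha haN) (mem_ZZ ha haN), zsq (Ω := Ω) ha, xt_one]

theorem ne_one (ha : a ∈ Z) (haN : a ∈ N) : xt f a ≠ 1 := fun e =>
  have m := (mem_Ker.1 ((h.one a (mem_ZZ ha haN)).1 e)).2
  h.ne (fix_unique ha (m α (self_mem_orb N α)) (m β h.βo))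

theorem K_comm (hk : k ∈ invs (core {2}ᶜ (St α ⊓ St β)) t) (hN : k ∈ N)
    (hk' : k' ∈ invs (core {2}ᶜ (St α ⊓ St β)) t) (hN' : k' ∈ N) : k * k' = k' * k := by
  obtain ⟨F, _, _, ⟨d⟩⟩ := S.rk2_of_simple.exists_co
  obtain ⟨z, hz⟩ := IsCyclic.exists_monoid_generator (α := Fˣ)
  obtain ⟨x, hx, e⟩ := h.surj (d.κ z)
  have key : ∀ k ∈ invs (core {2}ᶜ (St α ⊓ St β)) t, k ∈ N → ∃ n : ℕ, (x ^ n)⁻¹ * k ∈ 𝐂(ZZ Z N) :=
    fun k hk hN => by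
      obtain ⟨a, ha⟩ := d.κ_surj _ (h.isK hk hN)
      obtain ⟨n, rfl⟩ := hz a
      exact ⟨n, le_cent_symm h.cent ((h.div (pow_mem hx n) (h.K_L hk hN)).1 (by
        rw [xt_pow hx, e, ← ha, map_pow]))⟩
  obtain ⟨n, h1⟩ := key k hk hN
  obtain ⟨m, h2⟩ := key k' hk' hN'
  have e1 := mem_cent.1 h1 _ (h.K_L hk' hN')
  have e2 := mem_cent.1 h2 _ (pow_mem hx n)
  have e3 := (Commute.refl x).pow_pow m n
  generalize x ^ n = u at *
  generalize x ^ m = v at *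
  calc k * k' = u * (u⁻¹ * k * k') := by group
    _ = v * (u * (v⁻¹ * k')) * (u⁻¹ * k) := by rw [← e1, ← mul_assoc v, e3]; group
    _ = _ := by rw [e2]; group

theorem exists_lq : ∃ E Q K, Lq Z N α β t S f ρ E Q K := by
  obtain ⟨E, hE⟩ := h.exists_E
  obtain ⟨Q, hQ⟩ := exists_isSylowIn 2 (mpre f S.Q)
  exact ⟨E, Q, { carrier := {k | k ∈ N ∧ k ∈ invs (core {2}ᶜ (St α ⊓ St β)) t}
                 one_mem' := ⟨N.one_mem, one_mem _, by simpa using zsq (Ω := Ω) h.tZ⟩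
                 mul_mem' := fun {a b} ha hb => ⟨N.mul_mem ha.1 hb.1, mul_mem ha.2.1 hb.2.1, by
                  rw [h.K_comm ha.2 ha.1 hb.2 hb.1, mul_inv_rev, ← ha.2.2, ← hb.2.2,
                    ← h.K_comm ha.2 ha.1 hb.2 hb.1]
                  simp only [mul_assoc]
                  rw [← mul_assoc t t, zsq (Ω := Ω) h.tZ, one_mul]⟩
                 inv_mem' := fun {a} ha => ⟨N.inv_mem ha.1, inv_mem ha.2.1, by
                  rw [← ha.2.2, mul_inv_rev, mul_inv_rev, zinv (Ω := Ω) h.tZ, ← ha.2.2]; group⟩ },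
    h, hE, fun _ => Iff.rfl, hQ⟩

theorem cj (hg : g ∈ N) (hx : x ∈ ZZ Z N) : g * x * g⁻¹ ∈ ZZ Z N :=
  le_norm_iff.1 (ZZ_normal Ω).norm g hg x hx

theorem ρ_one (hg : g ∈ N) : xt ρ g = 1 ↔ g ∈ Ker N α := by
  refine ⟨fun e => h.mem_W hg fun a ha haN => ?_, fun e => MulEquiv.ext fun y => ?_⟩
  · have m := mem_ZZ ha haN
    have := (h.div m (h.cj hg m)).1 (by rw [← h.act g hg a m, e]; rfl)
    rwa [zinv (Ω := Ω) ha] at this
  · obtain ⟨x, hx, rfl⟩ := h.surj y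
    rw [h.act g hg x hx, mem_cent.1 (h.cent hx) g e, mul_inv_cancel_right]; rfl

theorem ρ_L (hg : g ∈ ZZ Z N) : xt ρ g = MulAut.conj (xt f g) := MulEquiv.ext fun y => by
  obtain ⟨x, hx, rfl⟩ := h.surj y
  rw [h.act g (ZZ_le hg) x hx, xt_conj hg hx]; rfl

theorem mker_eq : mker f = ZZ Z N ⊓ Ker N α := Subgroup.ext fun x =>
  mem_mpre.trans ⟨fun ⟨hx, e⟩ => ⟨hx, (h.one x hx).1 ((xt_eq f hx).trans e)⟩,
    fun e => ⟨e.1, (xt_eq f e.1).symm.trans ((h.one x e.1).2 e.2)⟩⟩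

theorem card_mim {Y : Subgroup G} (hY : Y ≤ ZZ Z N) : #|Y| = #|mim f Y| * #|Y ⊓ Ker N α| := by
  rw [← card_mim_mul f hY, h.mker_eq, inf_right_comm, inf_of_le_right hY]

theorem mem_sup {Y : Subgroup G} (hY : Y ≤ ZZ Z N) (hx : x ∈ ZZ Z N) :
    xt f x ∈ mim f Y ↔ x ∈ Y ⊔ Ker N α := by
  refine ⟨fun e => ?_, fun e => ?_⟩
  · obtain ⟨y, hy, m, e⟩ := of_mim e
    rw [← mul_inv_cancel_left y x]
    exact mul_mem_sup hy ((h.div m hx).1 e)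
  · obtain ⟨y, hy, w, hw, rfl⟩ := (Ker_normal.mem_sup' (hY.trans ZZ_le)).1 e
    rw [← (h.div (hY hy) hx).2 (by rwa [inv_mul_cancel_left])]
    exact xt_mim f hy (hY hy)

theorem mim_top : mim f (ZZ Z N) = ⊤ := eq_top_iff.2 fun y _ =>
  let ⟨_, hx, e⟩ := h.surj y; e ▸ xt_mim f hx hx

theorem mem_pre {Y : Subgroup X} : x ∈ mpre f Y ↔ x ∈ ZZ Z N ∧ xt f x ∈ Y :=
  mem_mpre.trans ⟨fun ⟨hx, e⟩ => ⟨hx, xt_eq f hx ▸ e⟩, fun e => ⟨e.1, xt_eq f e.1 ▸ e.2⟩⟩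

end Lf

namespace Lq
variable (h : Lq Z N α β t S f ρ E Q K)
include h

theorem EL : E ≤ ZZ Z N := fun x hx => by
  rcases (h.memE x).1 hx with rfl | e
  exacts [one_mem _, mem_ZZ e.1 e.2.1]

theorem KL : K ≤ ZZ Z N := fun k hk => h.K_L ((h.memK k).1 hk).2 ((h.memK k).1 hk).1

theorem QL : Q ≤ ZZ Z N := h.syl.le.trans (mpre_le _ _)

theorem sqE : Sg.Sq E := fun x hx => by
  rcases (h.memE x).1 hx with rfl | e
  exacts [mul_one _, zsq (Ω := Ω) e.1]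

theorem Eα (hx : x ∈ E) : x • α = α := by
  rcases (h.memE x).1 hx with rfl | e
  exacts [one_smul _ _, e.2.2]

theorem nE (hg : g ∈ N) (h1 : g • α = α) : g ∈ 𝐍(E) := mem_norm_of_conj_le (conj_le_iff.2 fun x hx => by
  rw [mem_conj]
  rcases (h.memE x).1 hx with rfl | e
  · simp
  · simpa using (h.memE _).2 (Or.inr ⟨c.conj x e.1 g, N.mul_mem (N.mul_mem hg e.2.1) (N.inv_mem hg),
      by simpa only [h1] using conj_smul_smul e.2.2 g⟩))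

theorem exists_e : ∃ e ∈ E, e ∈ Z ∧ e ∈ N ∧ e • α = α :=
  let ⟨e, h1, h2, h3⟩ := h.bt.exists_II; ⟨e, (h.memE e).2 (Or.inr ⟨h2, h1, h3⟩), h2, h1, h3⟩

theorem injE (hx : x ∈ E) (e : x ∈ Ker N α) : x = 1 := by
  rcases (h.memE x).1 hx with rfl | m
  exacts [rfl, (h.ne_one m.1 m.2.1 ((h.one x (h.EL hx)).2 e)).elim]

theorem injK (hk : k ∈ K) (e : k ∈ Ker N α) : k = 1 :=
  h.eq_one h.tL (zsq (Ω := Ω) h.tZ) e ((h.memK k).1 hk).2.2 (h.K_odd ((h.memK k).1 hk).2)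

theorem mimE : mim f E = S.Q0 := by
  have h0 : ∀ x ∈ E, xt f x ∈ S.Q0 := fun x hx => by
    have : xt f x * xt f x = 1 := by rw [← xt_mul (h.EL hx) (h.EL hx), h.sqE x hx, xt_one]
    exact ⟨S.inv_mem_Q ((h.st x (h.EL hx)).2 (h.Eα hx)) this, this⟩
  refine le_antisymm (fun y hy => let ⟨x, hx, _, e⟩ := of_mim hy; e ▸ h0 x hx) fun u hu => ?_
  by_cases u1 : u = 1
  · exact u1 ▸ one_mem _
  obtain ⟨e, he, eZ, eN, -⟩ := h.exists_e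
  obtain ⟨a, ha, e1⟩ := S.exists_K_conj hu.1 u1 hu.2
  obtain ⟨b, hb, e2⟩ := S.exists_K_conj (h0 e he).1 (h.ne_one eZ eN) (h0 e he).2
  obtain ⟨x, hx, e3⟩ := h.surj (a * b⁻¹)
  have m := conj_mem_of_mem_normalizer (h.nE (ZZ_le hx) ((h.st x hx).1
    (e3 ▸ S.H.mul_mem ha.1 (S.H.inv_mem hb.1)))) he
  have := xt_mim f m (h.EL m)
  rwa [xt_conj hx (h.EL he), e3, e2, show a * b⁻¹ * (b * S.s * b⁻¹) * (a * b⁻¹)⁻¹ = a * S.s * a⁻¹ by
    group, ← e1] at this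

theorem mem0 (hx : x ∈ ZZ Z N) : xt f x ∈ S.Q0 ↔ x ∈ E ⊔ Ker N α := h.mimE ▸ h.mem_sup h.EL hx

theorem cardE : #|E| = S.q := by
  rw [h.card_mim h.EL, h.mimE, S.card_Q0, show E ⊓ Ker N α = ⊥ from
    eq_bot_iff.2 fun x hx => h.injE hx.1 hx.2, card_bot, mul_one]

theorem cardK : #|K| + 1 = S.q := by
  obtain ⟨e, -, eZ, eN, eα⟩ := h.exists_e
  have := ncard_invs h.tZ h.tN h.tα h.ne eZ eα eN
  rw [← h.cardE, show #|K| = (K : Set G).ncard from rfl, show #|E| = (E : Set G).ncard from rfl,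
    show (K : Set G) = invs (N ⊓ core {2}ᶜ (St α ⊓ St β)) t from Set.ext fun k =>
      (h.memK k).trans ⟨fun e => ⟨⟨e.1, e.2.1⟩, e.2.2⟩, fun e => ⟨e.1.1, e.1.2, e.2⟩⟩, this,
    show (E : Set G) = insert 1 (II Z α ∩ N) from Set.ext fun x => (h.memE x).trans
      (or_congr_right ⟨fun e => ⟨⟨e.1, e.2.2⟩, e.2.1⟩, fun e => ⟨e.1.1, e.2, e.1.2⟩⟩),
    Set.ncard_insert_of_notMem fun e => ne_one_of_two (ztwo (Ω := Ω) e.1.1) rfl]

theorem KW : mker f ⊓ K = ⊥ := eq_bot_iff.2 fun _ hk => h.injK hk.2 (h.mker_eq.le hk.1).2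

theorem isK' (hk : k ∈ K) : S.IsK (xt f k) := h.isK ((h.memK k).1 hk).2 ((h.memK k).1 hk).1

theorem mimK {F : Type} [Field F] [Fintype F] (d : Sz.Co S F) : mim f K = d.K :=
  eq_of_le_of_card_le (fun y hy => let ⟨_, hx, _, e⟩ := of_mim hy; e ▸ d.mem_K.2 (h.isK' hx)) (by
    rw [card_mim_of_disjoint f h.KL h.KW, d.card_K, ← d.q_eq, ← h.cardK]; simp)

theorem liftK {y : X} (hy : S.IsK y) : ∃ k ∈ K, xt f k = y := by
  obtain ⟨F, _, _, ⟨d⟩⟩ := S.rk2_of_simple.exists_co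
  obtain ⟨k, hk, -, e⟩ := of_mim ((h.mimK d).ge (d.mem_K.2 hy))
  exact ⟨k, hk, e⟩

theorem cyc : IsCyclic K := by
  obtain ⟨F, _, _, ⟨d⟩⟩ := S.rk2_of_simple.exists_co
  haveI : IsCyclic (mim f K) := (h.mimK d).symm ▸ d.K_cyclic
  exact isCyclic_of_surjective _ (mimEquiv f h.KL h.KW).symm.surjective

theorem sing : Sing E K where
  sq := h.sqE
  ne := fun e => let ⟨_, h1, h2, _⟩ := h.exists_e; ne_one_of_two (ztwo (Ω := Ω) h2) (e.le h1)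
  norm := fun k hk => h.nE ((h.memK k).1 hk).1 (h.K_D ((h.memK k).1 hk).2).1
  comm := le_cent_iff.2 fun a ha b hb => h.K_comm ((h.memK b).1 hb).2 ((h.memK b).1 hb).1
    ((h.memK a).1 ha).2 ((h.memK a).1 ha).1
  tr := fun e he e1 e' he' e1' => by
    obtain ⟨a1, a2, a3⟩ := ((h.memE e).1 he).resolve_left e1
    obtain ⟨b1, b2, b3⟩ := ((h.memE e').1 he').resolve_left e1'
    obtain ⟨k, hk, h1, h2⟩ := exists_invs_conj h.tZ h.tα h.ne a1 a3 b1 b3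
    exact ⟨k, (h.memK k).2 ⟨h2 N h.tN a2 b2, hk⟩, h1⟩
  free := fun k hk e he e1 hc => by
    obtain ⟨a1, -, a3⟩ := ((h.memE e).1 he).resolve_left e1
    exact eq_one_of_inv h.tZ ((h.memK k).1 hk).2.2 (h.K_odd ((h.memK k).1 hk).2) a1 a3 hc h.tne

theorem nK : N ⊓ (St α ⊓ St β) ≤ 𝐍(K) := le_norm_iff.2 fun g hg k hk => by
  obtain ⟨kN, hk'⟩ := (h.memK k).1 hk
  have gα : g⁻¹ • α = α := inv_smul_eq_iff.2 (Eq.symm hg.2.1)
  have cN := fun x (hx : x ∈ N) => N.mul_mem (N.mul_mem hg.1 hx) (N.inv_mem hg.1)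
  have h1 := (h.memK _).2 ⟨N.mul_mem h.tN (cN _ h.tN), h.swapK (c.conj t h.tZ g) (by
    rw [mul_smul, mul_smul, gα, h.tα]; exact hg.2.2)⟩
  have h2 := (h.memK _).2 ⟨N.mul_mem h.tN (cN _ (N.mul_mem h.tN kN)), h.swapK (c.conj _ (h.K_Z hk') g)
    (by rw [mul_smul, mul_smul, mul_smul, gα, (h.K_D hk').1, h.tα]; exact hg.2.2)⟩
  convert K.mul_mem (K.inv_mem h1) h2 using 1
  group

theorem mimQ : mim f Q = S.Q := by
  have := sylow_mim Nat.prime_two h.syl (mpre_le _ _) f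
  rw [mim_mpre (H := ZZ Z N) (h.mim_top ▸ le_top)] at this
  exact this.eq_of_isPGroup S.rk2_of_simple.good.pgroup

theorem fQ (hx : x ∈ Q) : xt f x ∈ S.Q := h.mimQ ▸ xt_mim f hx (h.QL hx)

theorem liftQ {y : X} (hy : y ∈ S.Q) : ∃ x ∈ Q, xt f x = y :=
  let ⟨x, hx, _, e⟩ := of_mim (h.mimQ.ge hy); ⟨x, hx, e⟩

theorem memQ : x ∈ Q ↔ x ∈ ZZ Z N ∧ x • α = α ∧ ∃ n, x ^ 2 ^ n = 1 := by
  refine ⟨fun hx => ⟨h.QL hx, (h.st x (h.QL hx)).1 (S.QH (h.fQ hx)), ?_⟩, fun ⟨hx, h1, n, hn⟩ => ?_⟩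
  · obtain ⟨n, hn⟩ := h.syl.isPGroup ⟨x, hx⟩
    exact ⟨n, congrArg Subtype.val hn⟩
  have m : xt f x ∈ S.Q := by
    obtain ⟨y, hy, d, hd, e⟩ := S.exists_QD ((h.st x hx).2 h1)
    have := S.pow_eq_one_of_QD hy hd (n := 2 ^ n) (by rw [← e, ← xt_pow hx, hn, xt_one]; exact one_mem _)
    have d1 : orderOf d = 1 := Nat.eq_one_of_dvd_coprimes
      (Nat.Coprime.pow_right n (Nat.coprime_two_right.2 (S.D_odd hd))) dvd_rfl
      (orderOf_dvd_of_pow_eq_one this)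
    rwa [e, orderOf_eq_one_iff.1 d1, mul_one]
  obtain ⟨y, hy, e⟩ := h.liftQ m
  have w := le_cent_symm h.cent ((h.div (h.QL hy) hx).1 e)
  refine zpowers_le.1 (sylow_le_of_norm Nat.prime_two h.syl (zpowers_le.2 (h.mem_pre.2 ⟨hx, m⟩))
    (H6.isPGroup_zpowers_of_pow hn) (Or.inr (zpowers_le.2 ?_)))
  rw [← mul_inv_cancel_left y x]
  exact mul_mem (le_normalizer hy) (cent_le_norm _ (cent_anti h.QL w))

theorem EQ : E ≤ Q := fun x hx => h.memQ.2 ⟨h.EL hx, h.Eα hx, 1, by rw [pow_one, sq, h.sqE x hx]⟩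

theorem nQ (hg : g ∈ N) (h1 : g • α = α) : g ∈ 𝐍(Q) := mem_norm_of_conj_le (conj_le_iff.2 fun x hx => by
  obtain ⟨a1, a2, n, a3⟩ := h.memQ.1 hx
  rw [mem_conj]
  simpa using h.memQ.2 ⟨h.cj hg a1, by simpa only [h1] using conj_smul_smul a2 g, n, by
    rw [conj_pow, a3]; simp⟩)

/-- centralising `E` can be read off in the quotient -/
theorem A0_iff (hg : g ∈ N) : xt ρ g ∈ A0 S ↔ g ∈ 𝐂(E) := by
  refine ⟨fun e => mem_cent.2 fun x hx => ?_, fun e u hu => ?_⟩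
  · rcases (h.memE x).1 hx with rfl | m
    · simp
    have xL := h.EL hx
    have := e _ (h.mimE ▸ xt_mim f hx xL)
    rw [h.act g hg x xL, eq_comm, h.div xL (h.cj hg xL), zinv (Ω := Ω) m.1] at this
    exact eq_mul_inv_iff_mul_eq.1 (h.eq_of_W m.1 m.2.1 (c.conj x m.1 g) this)
  · obtain ⟨x, hx, xL, rfl⟩ := of_mim (h.mimE.ge hu)
    rw [h.act g hg x xL, ← mem_cent.1 e x hx, mul_inv_cancel_right]

theorem A2_of (hg : g ∈ N) (h1 : g • α = α) (h2 : g • β = β) (h3 : g ∈ 𝐂(E)) : xt ρ g ∈ A2 S :=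
  a1_t ⟨(h.A0_iff hg).2 h3, by
    rw [← h.ft, h.act g hg t h.tL, ← xt_mul h.tL (h.cj hg h.tL), h.st _ (mul_mem h.tL (h.cj hg h.tL)),
      mul_smul, mul_smul, mul_smul, inv_smul_eq_iff.2 h1.symm, h.tα, h2, h.tβ]⟩

theorem centE (hx : x ∈ ZZ Z N) (e : xt f x ∈ 𝐂(S.Q0)) : x ∈ 𝐂(E) :=
  (h.A0_iff (ZZ_le hx)).1 fun u hu => by
    rw [h.ρ_L hx, MulAut.conj_apply, ← mem_cent.1 e u hu, mul_inv_cancel_right]

end Lq

end Cfsg.Agent.As.Lc
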