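import Cfsg.Agent.As.Loc3
import Cfsg.Agent.Go.CP

/-! LocE, part 4: the remaining fields of `Loc`; `instance : LocE`. -/

set_option autoImplicit false
set_option linter.unusedSectionVars false
set_option linter.style.haveILetI false

namespace Cfsg.Agent.As.Lc

open Subgroup MulAction Cfsg.Agent.H1 Cfsg.Agent.L Cfsg.Agent.FT Cfsg.Agent.FT.B1 Cfsg.Agent.Go
open Cfsg.Agent.Be (invs sq_of_two inv_of_two two_of_sq ne_one_of_two odd_orderOf_of_mem odd_core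
  le_core_of_odd conj_smul_smul two_conj)
open Cfsg.Agent.Be.P1 (orb conj_st conj_st2 le_st_smul swap_norm not_le_of_ne self_mem_orb smul_mem_orb)
open scoped Pointwise commutatorElement

variable {G Ω : Type} [Group G] [MulAction G Ω] {Z : Set G}
variable {a b s t g k v x y : G} {α β γ : Ω} {N E Q K U Y : Subgroup G}
variable {X : Type} [Group X] {S : Sz.Sys X} {f : ZZ Z N →* X} {ρ : N →* MulAut X}

local notation "St" => stabilizer G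

variable [Finite G] [c : Ctx Ω Z] [Be.BeI] [Finite X] [IsSimpleGroup X]

theorem dih (ha : a * a = 1) (hb : b * b = 1) (n : ℕ) :
    a * (a * b) ^ n * a = ((a * b) ^ n)⁻¹ ∧ b * (a * b) ^ n * b = ((a * b) ^ n)⁻¹ := by
  have ia := inv_eq_of_mul_eq_one_right ha
  have ib := inv_eq_of_mul_eq_one_right hb
  have e1 := conj_pow (a := a) (b := a * b) (i := n)
  have e2 := conj_pow (a := b) (b := a * b) (i := n)
  rw [← mul_assoc, ha, one_mul, ia] at e1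
  rw [mul_assoc, mul_inv_cancel_right, ib] at e2
  rw [← inv_pow, mul_inv_rev, ia, ib]
  exact ⟨e1.symm, e2.symm⟩

namespace Lq
variable (h : Lq Z N α β t S f ρ E Q K)
include h

theorem QE : Q ≤ 𝐂(E) := fun _ hx => h.centE (h.QL hx) (le_cent_symm S.Q0_cent (h.fQ hx))

theorem tr (hγ : γ ∈ orb N α) (h1 : γ ≠ α) : ∃ x ∈ Q, x • β = γ := by
  obtain ⟨g, hg, rfl⟩ := h.bt.orb_ZZ hγ
  obtain ⟨x, hx', y, hy, e⟩ := S.bru _ (mt (h.st g hg).1 h1)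
  obtain ⟨x, hx, rfl⟩ := h.liftQ hx'
  have m := mul_mem (h.QL hx) h.tL
  have := (h.st _ (mul_mem (inv_mem m) hg)).1 (by
    rw [xt_mul (inv_mem m) hg, xt_inv m, xt_mul (h.QL hx) h.tL, e, h.ft, inv_mul_cancel_left]; exact hy)
  rw [mul_smul, inv_smul_eq_iff, mul_smul, h.tα] at this
  exact ⟨x, hx, this.symm⟩

theorem free (hx : x ∈ Q) (hγ : γ ∈ orb N α) (h1 : γ ≠ α) (e : x • γ = γ) : x ∈ Ker N α := by
  obtain ⟨y, hy, rfl⟩ := h.tr hγ h1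
  have m := Q.mul_mem (Q.mul_mem (Q.inv_mem hy) hx) hy
  have := S.eq_one_of_QD (h.fQ m) ((h.stD (h.QL m)).2 ⟨(h.memQ.1 m).2.1, by
    rw [mul_smul, mul_smul, e, inv_smul_smul]⟩)
  rw [xt_mul (h.QL (Q.mul_mem (Q.inv_mem hy) hx)) (h.QL hy), xt_mul (h.QL (Q.inv_mem hy)) (h.QL hx),
    xt_inv (h.QL hy), mul_assoc, inv_mul_eq_one, eq_comm, mul_eq_right] at this
  exact (h.one x (h.QL hx)).1 this

theorem card : (orb N α).ncard = #|S.Q| + 1 := by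
  rw [show orb N α = orb (ZZ Z N) α from Set.ext fun δ => ⟨h.bt.orb_ZZ, fun ⟨g, hg, e⟩ =>
    ⟨g, ZZ_le hg, e⟩⟩, Be.P1.ncard_orb, ← S.index_H, ← relIndex_top_right, ← h.mim_top,
    ← relIndex_mpre f S.H le_rfl, ← inf_relIndex_right (St α)]
  congr 1
  ext x
  rw [h.mem_pre, mem_inf, and_comm]
  exact and_congr_right fun hx => (h.st x hx).symm

theorem phi : Q ⊓ Ker N α ≤ ⁅Q, Q⁆ := by
  refine (inf_le_inf_left Q (le_cent_symm h.cent)).trans (inf_cent_le_der h.perf h.QL h.syl.isPGroup ?_)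
  haveI := Fact.mk Nat.prime_two
  rw [← Nat.not_even_iff_odd, even_iff_two_dvd]
  refine (h.syl.trans_of_not_dvd (mpre_le _ _) ?_).not_dvd_relIndex
  rw [relIndex_mpre f S.Q le_rfl, h.mim_top, relIndex_top_right, ← even_iff_two_dvd,
    Nat.not_even_iff_odd, ← relIndex_mul_index S.QH, S.index_H]
  refine Odd.mul ?_ (Even.add_one (even_iff_two_dvd.2 (pgroup_dvd_card Nat.prime_two
    S.rk2_of_simple.good.pgroup fun e => S.s1 (e.le S.sQ))))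
  have := card_mul_relIndex_of_le S.QH
  rw [S.card_H] at this
  rw [Nat.eq_of_mul_eq_mul_left Nat.card_pos this]
  exact S.odd_card_D

theorem fpf (hk : k ∈ K) (k1 : k ≠ 1) (hx : x ∈ Q) (e : ⁅x, k⁆ ∈ E ⊔ Ker N α) : x ∈ E ⊔ Ker N α := by
  obtain ⟨F, _, _, ⟨d⟩⟩ := S.rk2_of_simple.exists_co
  obtain ⟨a, ha⟩ := d.κ_surj _ (h.isK' hk)
  by_contra x0
  have m := mul_mem (h.cj (ZZ_le (h.KL hk)) (h.QL hx)) (inv_mem (h.QL hx))
  have := (h.mem0 m).2 (by simpa [commutatorElement_def, mul_assoc] using inv_mem e)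
  rw [xt_mul (h.cj (ZZ_le (h.KL hk)) (h.QL hx)) (inv_mem (h.QL hx)), xt_conj (h.KL hk) (h.QL hx),
    xt_inv (h.QL hx), ← ha] at this
  rw [d.free_quot S.Q0_le (d.K_le_H.trans S.Q0_norm) (h.fQ hx) (mt (h.mem0 (h.QL hx)).1 x0) this,
    map_one] at ha
  exact k1 (h.injK hk ((h.one k (h.KL hk)).1 ha.symm))

theorem three : (S.s * S.t) ^ 3 = 1 ↔ ∃ s ∈ E, s ≠ 1 ∧ (s * t) ^ 3 = 1 := by
  have key : ∀ s ∈ E, xt f ((s * t) ^ 3) = (xt f s * S.t) ^ 3 := fun s hs => by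
    rw [xt_pow (mul_mem (h.EL hs) h.tL), xt_mul (h.EL hs) h.tL, h.ft]
  refine ⟨fun e => ?_, fun ⟨s, hs, s1, e⟩ => ?_⟩
  · obtain ⟨s, hs, sL, e1⟩ := of_mim (h.mimE.ge (S.mem_Q0.2 ⟨S.sQ, S.ss⟩))
    have s1 : s ≠ 1 := fun e => S.s1 (by rw [← e1, e, xt_one])
    obtain ⟨a1, -, a3⟩ := ((h.memE s).1 hs).resolve_left s1
    exact ⟨s, hs, s1, h.eq_one h.tL (zsq (Ω := Ω) h.tZ) ((h.one _ (pow_mem (mul_mem sL h.tL) 3)).1
      (by rw [key s hs, e1, e])) (dih (h.sqE s hs) (zsq (Ω := Ω) h.tZ) 3).2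
      ((odd_mul a1 h.tZ a3 h.tne).of_dvd_nat (orderOf_pow_dvd 3))⟩
  · have e1 := key s hs
    rw [e, xt_one] at e1
    have m := h.mimE.le (xt_mim f hs (h.EL hs))
    have n1 : xt f s ≠ 1 := fun e => s1 (h.injE hs ((h.one s (h.EL hs)).1 e))
    generalize xt f s = u at *
    have ui := inv_eq_of_mul_eq_one_right m.2
    rw [← (S.unique_of_isK (k := 1) m.1 n1 S.sQ m.1 S.rQ ?_ (by rw [mul_one]; exact S.str)).1, ← e1]
    rw [mul_one, ui, ← mul_inv_eq_one, mul_inv_rev, mul_inv_rev, ui, S.t_inv, ← mul_left_cancel_iff (a := u),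
      ← mul_right_cancel_iff (a := u), mul_one, m.2, e1, pow_three]
    simp only [mul_assoc, m.2, mul_one]

theorem nab [SysX] (hj : #|S.Q| ≠ S.q) : ¬ ⁅Q, Q⁆ ≤ Ker N α := fun e => by
  have e' : S.Q ≤ 𝐂(S.Q) := h.mimQ ▸ (comm_le_mker_iff h.QL h.QL).1
    (h.mker_eq ▸ le_inf ((der1_le Q).trans h.QL) e)
  obtain ⟨-, ⟨-, e1⟩ | ⟨-, e1⟩ | ⟨-, e1⟩⟩ := S.rk2_of_simple.good
  · exact hj e1
  · exact SysX.nab S e1 e'
  obtain ⟨F, _, _, ⟨d⟩⟩ := S.rk2_of_simple.exists_co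
  let φ : S.Q →* X := MonoidHom.mk' (fun x => (x : X) * x) fun x y => by
    simp only [coe_mul]
    rw [mul_assoc, ← mul_assoc (y : X), mem_cent.1 (e' x.2) y y.2]; group
  have h1 := FT.card_mim_mul φ le_rfl
  have h2 : #|mim φ S.Q| ≤ #|S.Q0| := card_le_of_le fun y hy =>
    let ⟨x, hx, e⟩ := mem_mim.1 hy; e ▸ sq_Q0 hx
  have h3 : #|mker φ ⊓ S.Q| ≤ #|S.Q0| := card_le_of_le fun x hx =>
    ⟨hx.2, coe_mem_mker.1 (show ((⟨x, hx.2⟩ : S.Q) : X) ∈ mker φ from hx.1)⟩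
  have q4 : 4 ≤ S.q := d.q_eq ▸ d.four_le
  have := Nat.mul_le_mul h2 h3
  rw [h1, e1, S.card_Q0, ← pow_two] at this
  exact absurd ((Nat.pow_le_pow_iff_right (by omega)).1 this) (by omega)

theorem a1 (hg : g ∈ N) (h1 : g • α = α) (h2 : g • β = β) (h3 : g ∈ 𝐂(E)) : g ∈ 𝐂[t] ∧ g ∈ 𝐂(K) := by
  have m := h.A2_of hg h1 h2 h3
  constructor
  · have := m.2
    rw [← h.ft, h.act g hg t h.tL, eq_comm, h.div h.tL (h.cj hg h.tL), zinv (Ω := Ω) h.tZ] at this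
    exact mem_cent1.2 (eq_mul_inv_iff_mul_eq.1 (h.eq_of_W h.tZ h.tN (c.conj t h.tZ g) this)).symm
  · refine mem_cent.2 fun k hk => ?_
    have := A2_K m (h.isK' hk)
    have m' := conj_mem_of_mem_normalizer (h.nK ⟨hg, h1, h2⟩) hk
    rw [h.act g hg k (h.KL hk), eq_comm, h.div (h.KL hk) (h.KL m')] at this
    exact eq_mul_inv_iff_mul_eq.1 (inv_mul_eq_one.1 (h.injK (K.mul_mem (K.inv_mem hk) m') this))

theorem comm_eq (hg : g ∈ N) (hx : x ∈ ZZ Z N) :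
    (xt f x)⁻¹ * xt ρ g (xt f x) = xt f ⁅x⁻¹, g⁆ := by
  rw [h.act g hg x hx, ← xt_inv hx, ← xt_mul (inv_mem hx) (h.cj hg hx), commutatorElement_def, inv_inv]
  simp only [mul_assoc]

theorem commL (hg : g ∈ N) (hx : x ∈ ZZ Z N) : ⁅x, g⁆ ∈ ZZ Z N := by
  simpa [commutatorElement_def, mul_assoc] using mul_mem hx (h.cj hg (inv_mem hx))

theorem a2 (hg : g ∈ N) (h1 : g • α = α) (h2 : g • β = β) (h3 : g ∈ 𝐂(E)) (hx : x ∈ Q)
    (e : ⁅x, g⁆ ∈ Ker N α) : x ∈ E ⊔ Ker N α ∨ g ∈ Ker N α := by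
  by_cases g1 : xt ρ g = 1
  · exact Or.inr ((h.ρ_one hg).1 g1)
  have := h.comm_eq hg (inv_mem (h.QL hx))
  rw [inv_inv x, (h.one _ (h.commL hg (h.QL hx))).2 e, inv_mul_eq_one] at this
  exact Or.inl (inv_mem_iff.1 ((h.mem0 (inv_mem (h.QL hx))).1
    ((A2_fix (h.A2_of hg h1 h2 h3) g1).1 _ (h.fQ (inv_mem hx)) this.symm)))

theorem a3 (hg : g ∈ N) (h1 : g • α = α) (h2 : g • β = β) (h3 : g ∈ 𝐂(E))
    (e : ∀ x ∈ Q, ⁅x, g⁆ ∈ E ⊔ Ker N α) : g ∈ Ker N α :=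
  (h.ρ_one hg).1 (aut_one (h.A2_of hg h1 h2 h3) fun y hy => by
    obtain ⟨x, hx, rfl⟩ := h.liftQ hy
    rw [h.comm_eq hg (h.QL hx), h.mem0 (h.commL hg (inv_mem (h.QL hx)))]
    exact e _ (inv_mem hx))

theorem v0 [SysX] (hj : #|S.Q| = S.q ^ 3) : ∃ v ∈ ZZ Z N, v • α = α ∧ v • β = β ∧ v ∈ 𝐂(E) ∧
    v ∉ Ker N α ∧ ∃ p n : ℕ, p.Prime ∧ p ≠ 2 ∧ orderOf v = p ^ n ∧ v ^ p ∈ Ker N α := by
  obtain ⟨w, hw, w1, wc⟩ := SysX.v0 S hj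
  obtain ⟨p, hp, hd⟩ := Nat.exists_prime_and_dvd (mt orderOf_eq_one_iff.1 w1)
  have o := orderOf_pow_orderOf_div (orderOf_pos w).ne' hd
  have m : w ^ (orderOf w / p) ∈ S.V ⊓ 𝐂(S.Q0) := pow_mem (mem_inf.2 ⟨hw, wc⟩) _
  have p2 : p ≠ 2 := fun e => (Nat.not_even_iff_odd.2 (S.D_odd (S.VD hw))) (even_iff_two_dvd.2 (e ▸ hd))
  generalize w ^ (orderOf w / p) = u at *
  obtain ⟨x, hx, rfl⟩ := h.surj u
  obtain ⟨n, m', hm, e⟩ := Nat.exists_eq_pow_mul_and_not_dvd (orderOf_pos x).ne' p hp.ne_one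
  have vL := pow_mem hx m'
  have m1 : xt f (x ^ m') ∈ S.V ⊓ 𝐂(S.Q0) := xt_pow (f := f) hx m' ▸ pow_mem m m'
  have := (h.stD vL).1 (S.VD m1.1)
  refine ⟨x ^ m', vL, this.1, this.2, h.centE vL m1.2, fun e => hm ?_, p, n, hp, p2, ?_, ?_⟩
  · rw [← h.one _ vL, xt_pow hx] at e
    exact o ▸ orderOf_dvd_of_pow_eq_one e
  · have m0 : m' ≠ 0 := fun e => hm (e ▸ dvd_zero p)
    rw [orderOf_pow_of_dvd m0 (e ▸ dvd_mul_left _ _), e, Nat.mul_div_cancel _ (Nat.pos_of_ne_zero m0)]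
  · rw [← h.one _ (pow_mem vL p), ← pow_mul, mul_comm, pow_mul, xt_pow (pow_mem hx p), xt_pow hx, ← o,
      pow_orderOf_eq_one, one_pow]

theorem pdvd [SysX] (hj : #|S.Q| = S.q ^ 3) (ha : a ∈ Z) (hb : b ∈ Z) (haN : a ∈ N) (hbN : b ∈ N)
    {p : ℕ} (hp : p.Prime) (p2 : p ≠ 2) (hd : p ∣ orderOf (a * b)) : p ∣ S.q ^ 2 - 1 := by
  refine SysX.pdvd S hj _ _ (h.sq ha haN) (h.sq hb hbN) p hp p2 ?_
  have m := mul_mem (mem_ZZ ha haN) (mem_ZZ hb hbN)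
  have o := orderOf_pow_orderOf_div (orderOf_pos (a * b)).ne' hd
  have n1 : xt f ((a * b) ^ (orderOf (a * b) / p)) ≠ 1 := fun e => hp.ne_one (by
    rw [← o, h.eq_one (mem_ZZ ha haN) (zsq (Ω := Ω) ha) ((h.one _ (pow_mem m _)).1 e)
      (dih (zsq (Ω := Ω) ha) (zsq (Ω := Ω) hb) _).1 (o.symm ▸ hp.odd_of_ne_two p2), orderOf_one])
  have := xt_orderOf (f := f) (pow_mem m (orderOf (a * b) / p))
  rw [o, Nat.dvd_prime hp, orderOf_eq_one_iff, or_iff_right n1, xt_pow m,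
    xt_mul (mem_ZZ ha haN) (mem_ZZ hb hbN)] at this
  exact this ▸ orderOf_pow_dvd _

theorem irr (hj : #|S.Q| = S.q ^ 3) (hv : v ∈ N) (h1 : v • α = α) (h2 : v • β = β) (h3 : v ∈ 𝐂(E))
    (ho : Odd (orderOf v)) (hW : v ∉ Ker N α) (hU : U ≤ Q) (hK : K ≤ 𝐍(U)) (hn : v ∈ 𝐍(U)) :
    U ≤ E ⊔ Ker N α ∨ Q ≤ U ⊔ E ⊔ Ker N α := by
  have m : U ⊔ E ≤ Q := sup_le hU h.EQ
  have := Lc.irr (X := mim f (U ⊔ E)) hj (h.A2_of hv h1 h2 h3) (mt (h.ρ_one hv).1 hW)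
    (ho.of_dvd_nat (xt_orderOf hv)) (h.mimE ▸ mim_mono f le_sup_right) (h.mimQ ▸ mim_mono f m)
    (fun k hk' => by
      obtain ⟨k, hk, rfl⟩ := h.liftK hk'
      exact mim_le_norm f ((le_inf hK h.sing.norm).trans (normalizer_inf_normalizer_le_normalizer_sup _ _))
        (xt_mim f hk (h.KL hk)))
    (fun y hy => by
      obtain ⟨x, hx, xL, rfl⟩ := of_mim hy
      rw [h.act v hv x xL]
      exact xt_mim f (conj_mem_of_mem_normalizer (normalizer_inf_normalizer_le_normalizer_sup _ _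
        ⟨hn, cent_le_norm _ h3⟩) hx) (h.cj hv xL))
  refine this.imp (fun e x hx => (h.mem0 (h.QL (hU hx))).1 (e (xt_mim f (mem_sup_left hx) (h.QL (hU hx)))))
    fun e x hx => (h.mem_sup (m.trans h.QL) (h.QL hx)).1 (e (h.fQ hx))

theorem le_of_v (hv : v ∈ N) (h1 : v • α = α) (h2 : v • β = β) (h3 : v ∈ 𝐂(E))
    (ho : Odd (orderOf v)) (hW : v ∉ Ker N α) (hU : U ≤ N ⊓ St α ⊓ 𝐂(E)) (hp : IsPGroup 2 U)
    (hn : v ∈ 𝐍(U)) : U ≤ Q ⊔ Ker N α := fun x hx => by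
  obtain ⟨y, hy', e⟩ := inner_of (P := mim ρ U) (fun _ hy => let ⟨_, hx, m, e⟩ := of_mim hy
    e ▸ (h.A0_iff m).2 (hU hx).2) (pgroup_mim hp ρ) (h.A2_of hv h1 h2 h3) (mt (h.ρ_one hv).1 hW)
    (ho.of_dvd_nat (xt_orderOf hv)) (mim_le_norm ρ (zpowers_le.2 hn) (xt_mim ρ (mem_zpowers v) hv))
    (xt_mim ρ hx (hU hx).1.1)
  obtain ⟨y, hy, rfl⟩ := h.liftQ hy'
  have yN := ZZ_le (h.QL hy)
  rw [← mul_inv_cancel_left y x]
  refine mul_mem_sup hy ((h.ρ_one (mul_mem (inv_mem yN) (hU hx).1.1)).1 ?_)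
  rw [xt_mul (inv_mem yN) (hU hx).1.1, xt_inv yN, e, h.ρ_L (h.QL hy), inv_mul_cancel]

theorem phi2 [SysX] (hU : U ≤ N ⊓ (St α ⊓ St β) ⊓ 𝐂(E)) (hp : IsPGroup 2 U) :
    #|U| ≤ 2 * #|U ⊓ Ker N α| := by
  rw [← FT.card_mim_mul ρ fun x hx => (hU hx).1.1]
  refine Nat.mul_le_mul (card_two (S := S) (fun _ hy => let ⟨_, hx, m, e⟩ := of_mim hy
    e ▸ h.A2_of m (hU hx).1.2.1 (hU hx).1.2.2 (hU hx).2) (pgroup_mim hp ρ))
    (card_le_of_le fun x hx => ⟨hx.2, (h.ρ_one (hU hx.2).1.1).1 ?_⟩)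
  exact (xt_eq ρ (hU hx.2).1.1).trans (coe_mem_mker.1 (show ((⟨x, _⟩ : N) : G) ∈ mker ρ from hx.1))

theorem trq (h1 : Q ⊓ Ker N α ≤ U) (h2 : U ≤ Y) (h3 : Y ≤ Q) (hU : K ≤ 𝐍(U)) (hY : K ≤ 𝐍(Y)) :
    (∃ i, #|Y| = S.q ^ i * #|U|) ∧ (#|Y| = S.q * #|U| → ∀ y ∈ Y, y ∉ U → ∀ z ∈ Y, z ∉ U →
      ∃ k ∈ K, k * y * k⁻¹ * z⁻¹ ∈ U) := by
  obtain ⟨F, _, _, ⟨d⟩⟩ := S.rk2_of_simple.exists_co
  have YL := h3.trans h.QL
  have UL := h2.trans YL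
  have c1 := h.card_mim UL
  have c2 := h.card_mim YL
  rw [show Y ⊓ Ker N α = U ⊓ Ker N α from le_antisymm (le_inf ((inf_le_inf_right _ h3).trans h1)
    inf_le_right) (inf_le_inf_right _ h2)] at c2
  have l1 := mim_mono f h2
  have l2 : mim f Y ≤ S.Q := h.mimQ ▸ mim_mono f h3
  have n1 : d.K ≤ 𝐍(mim f U) := h.mimK d ▸ mim_le_norm f hU
  have n2 : d.K ≤ 𝐍(mim f Y) := h.mimK d ▸ mim_le_norm f hY
  have mU : ∀ x ∈ Q, xt f x ∈ mim f U → x ∈ U := fun x hx e => by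
    obtain ⟨y, hy, m, e⟩ := of_mim e
    exact (mul_mem_cancel_left (inv_mem hy)).1 (h1 ⟨Q.mul_mem (Q.inv_mem (h3 (h2 hy))) hx,
      (h.div m (h.QL hx)).1 e⟩)
  have pg := S.rk2_of_simple.good.pgroup
  constructor
  · obtain ⟨i, hi⟩ := d.card_pow (l1.trans l2) n1 (pg.to_le (l1.trans l2))
    obtain ⟨j, hj⟩ := d.card_pow l2 n2 (pg.to_le l2)
    obtain ⟨m, rfl⟩ := Nat.exists_eq_add_of_le ((Nat.pow_le_pow_iff_right
      (by have := d.four_le; omega)).1 (hi ▸ hj ▸ card_le_of_le l1))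
    exact ⟨m, by rw [c1, c2, hi, hj, d.q_eq]; ring⟩
  · intro e y hy y0 z hz z0
    rw [c1, c2, ← mul_assoc, d.q_eq, mul_comm (Fintype.card F)] at e
    obtain ⟨a, ha⟩ := d.trans_quot l1 l2 n1 n2 (Nat.eq_of_mul_eq_mul_right Nat.card_pos e)
      (xt_mim f hy (YL hy)) (xt_mim f hz (YL hz)) (mt (mU y (h3 hy)) y0) (mt (mU z (h3 hz)) z0)
    obtain ⟨k, hk, e⟩ := h.liftK (d.κ_K a)
    have m := conj_mem_of_mem_normalizer (hY hk) hy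
    refine ⟨k, hk, mU _ (h3 (Y.mul_mem m (Y.inv_mem hz))) ?_⟩
    rwa [xt_mul (YL m) (inv_mem (YL hz)), xt_conj (h.KL hk) (YL hy), xt_inv (YL hz), e]

theorem loc [SysX] : ∃ j, Loc Z N α β t E Q K S.q j := by
  obtain ⟨F, _, _, ⟨d⟩⟩ := S.rk2_of_simple.exists_co
  have q4 : 4 ≤ S.q := d.q_eq ▸ d.four_le
  have st : ¬ ((S.s * S.t) ^ 3 = 1 ∧ (S.s * S.t) ^ 5 = 1) := fun e => S.tH (by
    have := Nat.eq_one_of_dvd_coprimes (by norm_num : Nat.Coprime 3 5)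
      (orderOf_dvd_of_pow_eq_one e.1) (orderOf_dvd_of_pow_eq_one e.2)
    rw [← inv_eq_of_mul_eq_one_right (orderOf_eq_one_iff.1 this)]; exact inv_mem (S.QH S.sQ))
  obtain ⟨j, jj, hj, h3⟩ : ∃ j, (j = 1 ∨ j = 2 ∨ j = 3) ∧ #|S.Q| = S.q ^ j ∧
      (j ≠ 2 ↔ (S.s * S.t) ^ 3 = 1) := by
    obtain ⟨-, ⟨e, e1⟩ | ⟨e, e1⟩ | ⟨e, e1⟩⟩ := S.rk2_of_simple.good
    · exact ⟨1, by simp, by simpa using e1, by simpa using e⟩
    · exact ⟨2, by simp, e1, by simpa using fun e' => st ⟨e', e⟩⟩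
    · exact ⟨3, by simp, e1, by simpa using e⟩
  have inj : ∀ i, #|S.Q| = S.q ^ i → j = i := fun i e =>
    Nat.pow_right_injective (by omega : 2 ≤ S.q) (hj.symm.trans e)
  exact ⟨j, h.bt, h.tZ, h.tN, h.tα, h.ne, h.memE, h.cardE, d.q_eq ▸ d.exists_card, h.memK, h.sing, h.cyc,
    h.cardK, h.KL, h.nK, h.cent, fun _ => h.memQ, h.QE, fun _ => h.tr, fun _ hx _ => h.free hx, jj,
    hj ▸ h.card, by rw [h.card_mim h.QL, h.mimQ, hj],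
    fun x hx => (h.mem0 (h.QL (Q.mul_mem hx hx))).1 (xt_mul (f := f) (h.QL hx) (h.QL hx) ▸ sq_Q0 (h.fQ hx)),
    fun x hx e => (h.mem0 (h.QL hx)).1 ⟨h.fQ hx, xt_mul (f := f) (h.QL hx) (h.QL hx) ▸
      (h.one _ (h.QL (Q.mul_mem hx hx))).2 e⟩,
    h.phi, fun _ hk k1 _ => h.fpf hk k1, h3.trans h.three,
    fun e e' => h3.2 (d.three_of_dvd (d.q_eq ▸ e')) e,
    fun e => h.nab fun e' => e (inj 1 (e'.trans (pow_one _).symm)),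
    fun x hx h1 h2 e => (h.one x hx).1 (Sz.eq_one_of_odd_of_sq (S.D_odd ((h.stD hx).2 ⟨h1, h2⟩))
      (xt_mul (f := f) hx hx ▸ (h.one _ (mul_mem hx hx)).2 e)),
    fun _ => h.a1, fun _ hg h1 h2 h3 _ => h.a2 hg h1 h2 h3, fun _ => h.a3,
    fun e _ hg h1 h2 h3 => (h.ρ_one hg).1 (aut_j (h.A2_of hg h1 h2 h3) (mt (inj 3) e)),
    fun e => h.v0 (e ▸ hj), fun e _ ha _ hb haN hbN _ => h.pdvd (e ▸ hj) ha hb haN hbN,
    fun e _ hv h1 h2 h3 ho hW _ => h.irr (e ▸ hj) hv h1 h2 h3 ho hW,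
    fun _ _ hv h1 h2 h3 ho hW _ => h.le_of_v hv h1 h2 h3 ho hW, fun _ => h.phi2, fun _ _ => h.trq⟩

end Lq

instance instLocE [SysX] : LocE where
  ex := fun hb ht htN h1 hne => by
    obtain ⟨X, _, _, _, S, f, ρ, h⟩ := Su.exists_lf ⟨hb, ht, htN, h1, hne⟩
    obtain ⟨E, Q, K, h⟩ := h.exists_lq
    obtain ⟨j, h⟩ := h.loc
    exact ⟨E, Q, K, _, j, h⟩

end Cfsg.Agent.As.Lc
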