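import Cfsg.Agent.As.A5

/-! ZD from part 2. -/

set_option autoImplicit false

namespace Cfsg.Agent.As

open Subgroup MulAction Cfsg.Agent.H1 Cfsg.Agent.L Cfsg.Agent.FT
open Cfsg.Agent.Be (sq_of_two inv_of_two ne_one_of_two conj_smul_smul two_conj)
open scoped Pointwise

theorem se_of_red [Part2] : ∀ (n : ℕ) (G : Type) [Group G] [Finite G] (Ω : Type) [MulAction G Ω]
    (Z : Set G), Nat.card G = n → Red Ω Z → ∀ δ : Ω, IsStronglyEmbedded (stabilizer G δ) := by
  intro n
  induction n using Nat.strong_induction_on with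
  | _ n ih =>
  intro G _ _ Ω _ Z hn c δ
  have c' : Ctx Ω Z := { c with ind := fun K _ _ Δ _ Y h => ih _ (hn ▸ h) K Δ Y rfl }
  obtain ⟨a, ha, h⟩ := exists_II c δ
  refine H6.isStronglyEmbedded_iff.2 ⟨stab_ne_top c δ, even_iff_two_dvd.2 ?_, fun t ht h2 g hg =>
    Part2.fix c' (two_conj h2 g) (conj_smul_smul ht g) hg⟩
  exact c.two a ha ▸ Subgroup.orderOf_dvd_natCard _ h

instance zdOfPart2 [Part2] : ZD where
  se := fun {G} _ _ _ M z hM z2 zM ⟨S, hS, hc⟩ h2 h3 => by
    haveI := Fact.mk Nat.prime_two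
    have hs : ∀ g x : G, x • (g : G ⧸ M) = g ↔ g⁻¹ * x * g ∈ M := fun g x => by
      rw [← mem_stabilizer_iff, ← mul_one g, ← smul_eq_mul, ← Quotient.smul_coe, ← Be.P1.conj_st,
        stabilizer_quotient, mem_conj, smul_eq_mul, mul_one]
    have f1 : ∀ g : G, ∀ α : G ⧸ M, (g * z * g⁻¹) • α = α ↔ α = g := fun g α => by
      obtain ⟨h, rfl⟩ := QuotientGroup.mk_surjective α
      rw [hs, QuotientGroup.eq]
      exact ⟨fun e => h2 _ (by simpa [mul_assoc] using e), fun e => by
        simpa [mul_assoc] using M.mul_mem (M.mul_mem e zM) (M.inv_mem e)⟩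
    have CM : 𝐂[z] ≤ M := fun g hg => h2 g (by rw [mem_cent1.1 hg, mul_inv_cancel_right]; exact zM)
    -- an involution fixing a point centralises an element of `Z` at that point
    have f2 : ∀ y : G, y * y = 1 → ∀ g : G, y • (g : G ⧸ M) = g → ∃ h : G, (h : G ⧸ M) = g ∧
        Commute y (h * z * h⁻¹) := fun y yy g hy => by
      have SM : (S : Subgroup G) ≤ M := fun s h => CM (mem_cent1.2 (hc s h).eq)
      obtain ⟨m, hm, e⟩ := sylow_exists_conj_le Nat.prime_two ((isSylowIn_top S).of_le SM le_top)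
        (zpowers_le.2 ((hs g y).1 hy)) (abelem_pgroup (abelem_zpowers (p := 2) (by
          simp [pow_two, mul_assoc, ← mul_assoc y y, yy])))
      refine ⟨g * m⁻¹, QuotientGroup.eq.2 (by simpa using hm), ?_⟩
      simpa [mul_assoc] using (hc _ (e (conj_mem_conj m (mem_zpowers _)))).conj (g * m⁻¹)
    have f3 : ∀ g h : G, Commute (g * z * g⁻¹) (h * z * h⁻¹) → g * z * g⁻¹ ≠ h * z * h⁻¹ →
        ∀ β : G ⧸ M, (g * z * g⁻¹ * (h * z * h⁻¹)) • β = β → β = g := fun g h hc' hne β hβ => by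
      obtain ⟨b, rfl⟩ := QuotientGroup.mk_surjective β
      have zz := sq_of_two z2
      obtain ⟨k, e, hk⟩ := f2 _ (by
        rw [mul_assoc, ← mul_assoc (h * z * h⁻¹), ← hc'.eq]; simp [mul_assoc, ← mul_assoc z z, zz]) b hβ
      have := h3 (g⁻¹ * h) (by simpa [mul_assoc] using hc'.conj g⁻¹)
        (fun e => hne (by rw [← congrArg (g * · * g⁻¹) e]; group)) (x := g⁻¹ * (k * z * k⁻¹) * g)
        (mem_cent1.2 (by simpa [mul_assoc] using (hk.conj g⁻¹).eq.symm))
      rw [← e]
      exact ((f1 k g).1 ((hs g _).2 this)).symm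
    have nt : Nontrivial (G ⧸ M) := by
      obtain ⟨g, -, hg⟩ := SetLike.not_le_iff_exists.1 (mt top_le_iff.1 hM)
      exact ⟨(1 : G), g, fun e => hg (by simpa using QuotientGroup.eq.1 e)⟩
    have nrm : ∀ N : Subgroup G, N.Normal → N ≤ M → N = ⊥ := fun N hN h =>
      hN.eq_bot_or_eq_top.resolve_right fun e => hM (top_le_iff.1 (e ▸ h))
    refine ⟨_, se_of_red _ G (G ⧸ M) {x | ∃ g, g * z * g⁻¹ = x} rfl
      { two := by rintro _ ⟨g, rfl⟩; exact two_conj z2 g
        conj := by rintro _ ⟨g, rfl⟩ h; exact ⟨h * g, by group⟩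
        fix1 := by rintro _ ⟨g, rfl⟩; exact ⟨g, (f1 g g).2 rfl, fun α => (f1 g α).1⟩
        odd := ?_
        faith := fun x hx => mem_bot.1 (nrm M.normalCore inferInstance (normalCore_le M) ▸
          fun g => by simpa using (hs g⁻¹ x).1 (hx _))
        trans := inferInstance
        nontriv := nt
        gen := (normalClosure_normal (s := {z})).eq_bot_or_eq_top.resolve_left (fun e => ne_one_of_two z2
          (mem_bot.1 (e ▸ subset_normalClosure rfl))) ▸ congrArg Subgroup.closure (by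
            ext x; simp [Group.mem_conjugatesOfSet_iff, isConj_iff])
        four := ?_ } (1 : G)⟩
    · rintro _ ⟨g, rfl⟩ _ ⟨h, rfl⟩ α β h1 hβ hne
      by_contra ho
      obtain ⟨w, hw, w2, wa, -, d, -, e⟩ := H6.exists_central_involution_of_even
        (sq_of_two (two_conj z2 g)) (sq_of_two (two_conj z2 h)) (Nat.not_odd_iff_even.1 ho)
      obtain ⟨k, hk⟩ : ∃ k, k * z * k⁻¹ = w * (g * z * g⁻¹) := by
        rcases e with e | e
        exacts [⟨d * g, by rw [← e]; group⟩, ⟨d * h, by rw [← e]; group⟩]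
      refine hne ((f3 g k (hk ▸ wa.symm.mul_right (Commute.refl _))
        (fun e => ne_one_of_two w2 (by simpa [hk] using e.symm)) β ?_).trans ((f1 g α).1 h1).symm)
      rw [hk, wa.eq, ← mul_assoc, sq_of_two (two_conj z2 g), one_mul]
      exact (zpowers_le.2 hβ : _ ≤ stabilizer G β) hw
    · by_contra h4
      have := H6.exists_core_mul_of_iso (z := z) ⟨z2, fun g hg => by_contra fun e =>
        h4 ⟨z, trivial, _, trivial, ⟨1, by simp⟩, ⟨g, rfl⟩, Ne.symm e, hg⟩⟩
      rcases (Be.oddCore_normal (G := G)).eq_bot_or_eq_top with e | e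
      · refine hM (eq_top_iff.2 fun g _ => CM ?_)
        obtain ⟨o, ho, h⟩ := this g
        rw [e, mem_bot] at ho
        exact mem_cent1.2 (by simpa [ho] using h.eq)
      · have := Be.odd_orderOf_of_mem H6.odd_card_oddCore (e ▸ mem_top z)
        rw [z2] at this
        exact absurd this (by decide)

end Cfsg.Agent.As
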