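import Cfsg.Agent.As.Q2a

/-! ZD, part 2: the slice `Q2` (notes/zd2.md), Sylow structure and transfer. -/

set_option autoImplicit false
set_option maxHeartbeats 400000

namespace Cfsg.Agent.As.Q2

open Subgroup MulAction Cfsg.Agent.H1 Cfsg.Agent.L Cfsg.Agent.FT Cfsg.Agent.FT.B1
open Cfsg.Agent.Be (odd_core sq_of_two inv_of_two ne_one_of_two two_of_sq two_conj zpowers_cases)
open Cfsg.Agent.Be.P1 (orb pgroup_zpowers' ncard_orb)
open scoped Pointwise commutatorElement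

variable {G Ω : Type} [Group G] [Finite G] [MulAction G Ω] {Z : Set G}
variable {a u y z : G} {α : Ω} {R S : Subgroup G}

local notation "St" => stabilizer G

omit [Finite G] in
theorem mul_mem2 (h : R.relIndex S = 2) {x y : G} (hx : x ∈ S) (hy : y ∈ S) (h1 : x ∉ R) (h2 : y ∉ R) :
    x * y ∈ R :=
  (mul_mem_iff_of_index_two h (a := ⟨x, hx⟩) (b := ⟨y, hy⟩)).2
    ⟨fun e => absurd e h1, fun e => absurd e h2⟩

/-- the dihedral group of order `8` -/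
theorem d8 (hS : IsPGroup 2 S) (hR : R ⊴ S) (i2 : R.relIndex S = 2) (aS : a ∈ S) (aR : a ∉ R)
    (aa : a * a = 1) (uR : u ∈ R) (uu : u * u = 1) (zR : z ∈ R) (zz : z * z = 1) (z1 : z ≠ 1)
    (h1 : R ≤ 𝐂[u]) (h2 : S ≤ 𝐂[z])
    (h3 : ∀ y ∈ R, y * y = 1 → y = 1 ∨ y = u ∨ y = z ∨ y = u * z) (h4 : a * u * a = u * z)
    (h5 : ∀ x ∈ R, x ∈ 𝐂[a] → x = 1 ∨ x = z) :
    (∀ x ∈ R, x * x = 1) ∧ ∀ x ∈ S, x ∉ R → x = a ∨ x = z * a ∨ x * x = z := by
  have az := mem_cent1.1 (h2 aS)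
  have cs : ∀ v ∈ R, v * v = 1 → v = 1 ∨ v = z ∨ v * a * (v * a) = z := fun v hv vv => by
    have e : u * a * (u * a) = z := by
      rw [mul_assoc, ← mul_assoc a, h4, ← mul_assoc, uu, one_mul]
    rcases h3 v hv vv with rfl | rfl | rfl | rfl
    exacts [.inl rfl, .inr (.inr e), .inr (.inl rfl), .inr (.inr (by
      have cz : Commute (u * a) z := mem_cent1.1 (h2 (mul_mem (hR.le uR) aS))
      rw [mul_assoc u, ← az, ← mul_assoc u, ← sq, cz.mul_pow, sq, sq, zz, mul_one, e]))]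
  let V : Subgroup G :=
    { carrier := {x | x ∈ R ∧ x * x = 1}
      one_mem' := ⟨one_mem _, one_mul 1⟩
      mul_mem' := fun {x y} hx hy => ⟨mul_mem hx.1 hy.1, by
        have : y * x = x * y := by
          rcases h3 x hx.1 hx.2 with rfl | rfl | rfl | rfl
          exacts [by simp, mem_cent1.1 (h1 hy.1), mem_cent1.1 (h2 (hR.le hy.1)),
            (Commute.mul_right (mem_cent1.1 (h1 hy.1)) (mem_cent1.1 (h2 (hR.le hy.1)))).eq]
        rw [mul_assoc, ← mul_assoc y, this, mul_assoc, hy.2, mul_one, hx.2]⟩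
      inv_mem' := fun {x} hx => ⟨inv_mem hx.1, by rw [← mul_inv_rev, hx.2, inv_one]⟩ }
  have VS : V ≤ S := fun _ hx => hR.le hx.1
  have nV : V ⊴ S := ⟨VS, le_norm_iff.2 fun g hg x hx => ⟨hR.conj_mem hg hx.1, H6.conj_mul_self hx.2 g⟩⟩
  have mW : ∀ x ∈ V ⊔ zpowers a, x ∈ V ∨ ∃ v ∈ V, x = v * a := fun x hx => by
    obtain ⟨v, hv, b, hb, rfl⟩ := (nV.mem_sup (zpowers_le.2 aS)).1 hx
    rcases zpowers_cases aa hb with rfl | rfl
    exacts [.inl (by simpa using hv), .inr ⟨v, hv, rfl⟩]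
  have zV : z ∈ V := ⟨zR, zz⟩
  have aW : a ∈ V ⊔ zpowers a := mem_sup_right (mem_zpowers a)
  have key : ∀ x ∈ R, x ∈ 𝐍(V ⊔ zpowers a) → x ∈ V := fun x hx hn => by
    have f : ∀ y ∈ R, y ∈ 𝐂[a] → y ∈ V := fun y hy hc => by
      rcases h5 y hy hc with rfl | rfl
      exacts [one_mem _, zV]
    rcases mW _ (conj_mem_of_mem_normalizer hn aW) with h | ⟨v, hv, e⟩
    · exact absurd (by simpa [mul_assoc] using mul_mem (mul_mem (inv_mem hx) h.1) hx) aR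
    rcases cs v hv.1 hv.2 with rfl | rfl | e'
    · exact f x hx (mem_cent1.2 (mul_inv_eq_iff_eq_mul.1 (by rwa [one_mul] at e)))
    · refine (mul_mem_cancel_right (show u ∈ V from ⟨uR, uu⟩)).1
        (f _ (mul_mem hx uR) (mem_cent1.2 ?_))
      have e1 : u * a = a * u * v := by
        rw [mul_assoc, ← h4, ← mul_assoc, ← mul_assoc, aa, one_mul]
      calc x * u * a = x * a * x⁻¹ * x * u * v := by rw [mul_assoc, e1]; group
        _ = v * (a * (x * u) * v) := by rw [e]; group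
        _ = _ := by
          rw [mem_cent1.1 (h2 (mul_mem aS (hR.le (mul_mem hx uR)))), ← mul_assoc, zz, one_mul]
    · exact absurd (by rw [← e', ← e]; exact H6.conj_mul_self aa x) z1
  have RV : R ≤ V := by
    rcases (sup_le VS (zpowers_le.2 aS)).eq_or_lt with e | e
    · exact fun x hx => key x hx (le_normalizer (e ▸ hR.le hx))
    obtain ⟨x, hx, hn⟩ := SetLike.exists_of_lt (lt_inf_norm_of_nil (pgroup_nil Nat.prime_two hS) e)
    by_cases h : x ∈ R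
    · exact absurd (mem_sup_left (key x h hx.2)) hn
    · exact absurd ((mul_mem_cancel_right aW).1 (mem_sup_left
        (key _ (mul_mem2 i2 hx.1 aS h aR) (mul_mem hx.2 (le_normalizer aW))))) hn
  refine ⟨fun x hx => (RV hx).2, fun x hx h => ?_⟩
  have m := mul_mem2 i2 hx aS h aR
  have e : x = x * a * a := by rw [mul_assoc, aa, mul_one]
  rcases cs _ m (RV m).2 with h | h | h
  exacts [.inl (by rw [e, h, one_mul]), .inr (.inl (by rw [e, h])), .inr (.inr (by rwa [← e] at h))]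

variable [c : Ctx Ω Z] [Be.BeI] [Cnt] (hq : HQ Ω Z) (u2 : orderOf u = 2) (hu : u ∉ Z) (h : u • α = α)
include hq u2 hu h

theorem idx : ∃ m, Odd m ∧ (𝐂[u] ⊓ St α).relIndex (St α) = 2 * m := by
  haveI := finΩ c.toRed
  haveI := Fact.mk Nat.prime_two
  obtain ⟨β, n1, e1⟩ := Cnt.fix2 u2 hu h
  have e2 : ({γ : Ω | u • γ = γ} \ {α}).ncard + 1 = fx Ω u := Set.ncard_diff_singleton_add_one h
  have e3 : orb (𝐂[u] ⊓ St α) β = {γ : Ω | u • γ = γ} \ {α} := Set.ext fun γ =>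
    ⟨by rintro ⟨g, hg, rfl⟩; exact ⟨fix_smul hg.1 e1, fun e => n1 (by
      rw [← show g • α = α from hg.2] at e; simpa using e)⟩, fun hγ => tr2u hq u2 h e1 hγ.1 n1 hγ.2⟩
  have e4 : orb (St α) β = {γ | γ ≠ α} := Set.ext fun γ =>
    ⟨by rintro ⟨g, hg, rfl⟩; exact fun e => n1 (by
      rw [← show g • α = α from hg] at e; simpa using e), fun hγ => tr2 c n1 hγ⟩
  rw [← e3, ncard_orb] at e2
  have e5 := Rg.ncard_ne (Z := Z) (n := 2 * (St β).relIndex (𝐂[u] ⊓ St α))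
    (by have := num hq u2 hu h; omega) α
  rw [← e4, ncard_orb] at e5
  obtain ⟨P, hP, l⟩ := exists_isSylowIn_ge (pgroup_zpowers' u2)
    (zpowers_le.2 (show u ∈ St α ⊓ St β from ⟨h, e1⟩))
  have m := l (mem_zpowers u)
  have e6 := hP.not_dvd_relIndex_of_le (K := 𝐂[u] ⊓ St α ⊓ St β) fun x hx =>
    ⟨⟨mem_cent1.2 (mul_inv_eq_iff_eq_mul.1 (eq_of_mem hq n1.symm hP.isPGroup hP.le (two_conj u2 x) u2
      (mul_mem (mul_mem hx m) (inv_mem hx)) m)), (hP.le hx).1⟩, (hP.le hx).2⟩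
  refine ⟨_, Nat.not_even_iff_odd.1 fun e => e6 e.two_dvd, Nat.eq_of_mul_eq_mul_left
    (Nat.pos_of_ne_zero (relIndex_ne_zero' (St β) (𝐂[u] ⊓ St α))) ?_⟩
  have a1 := relIndex_mul_relIndex (𝐂[u] ⊓ St α ⊓ St β) (𝐂[u] ⊓ St α) (St α) inf_le_left inf_le_right
  have a2 := relIndex_mul_relIndex (𝐂[u] ⊓ St α ⊓ St β) (St α ⊓ St β) (St α)
    (inf_le_inf_right _ inf_le_right) inf_le_left
  rw [inf_relIndex_left] at a1 a2
  rw [a1, ← a2, e5]; ring

theorem idx2 (hR : IsSylowIn 2 R (𝐂[u] ⊓ St α)) (hS : IsSylowIn 2 S (St α)) (l : R ≤ S) :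
    R.relIndex S = 2 := by
  haveI := Fact.mk Nat.prime_two
  obtain ⟨m, om, e⟩ := idx hq u2 hu h
  obtain ⟨k, hk⟩ := pgroup_relIndex Nat.prime_two hS.isPGroup R
  have a1 := relIndex_mul_relIndex R S (St α) l hS.le
  rw [← relIndex_mul_relIndex R _ (St α) hR.le inf_le_right, e, hk] at a1
  have o1 := hS.not_dvd_relIndex
  have o2 := hR.not_dvd_relIndex
  rw [hk]
  rcases k with _ | _ | k
  · exact absurd ⟨_, by rw [← one_mul (S.relIndex _), ← pow_zero 2, a1, mul_left_comm]⟩ o1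
  · rfl
  · refine absurd ((Nat.Prime.dvd_mul (n := m) Nat.prime_two).1 ⟨2 ^ k * S.relIndex (St α),
      Nat.eq_of_mul_eq_mul_left two_pos ?_⟩) (not_or.2 ⟨o2, fun e => ?_⟩)
    · rw [mul_left_comm, ← a1]; ring
    · exact Nat.not_even_iff_odd.2 om (even_iff_two_dvd.2 e)

theorem invol (hz : z ∈ II Z α) (h1 : z ∈ 𝐂[u]) (hy : y ∈ 𝐂[u] ⊓ St α) (yy : y * y = 1) :
    y = 1 ∨ y = u ∨ y = z ∨ y = u * z := by
  by_contra hn
  simp only [not_or] at hn
  obtain ⟨n1, n2, n3, n4⟩ := hn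
  have y2 := two_of_sq yy n1
  have z2 := c.two z hz.1
  have hc := mem_cent1.1 (cent_le hq u2 hu h hz h1 hy)
  have hO := core_normal {2}ᶜ 𝐂[u]
  have key : ∀ w ∈ 𝐂[u] ⊓ St α, orderOf w = 2 → w ≠ u → core {2}ᶜ 𝐂[u] ⊓ 𝐂[w] ≤ St α :=
    fun w hw w2 e x hx => by
      by_contra e'
      exact e (no_four hq (Ne.symm e') w2 u2 ⟨hw.2, fix_smul hx.2 hw.2⟩ ⟨h, fix_smul (hO.le hx.1) h⟩
        (mem_cent1.1 hw.1))
  have := gen4 y2 z2 n3 hc (odd_core _) (hO.norm hy.1) (hO.norm h1) (key y hy y2 n2)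
    (inf_le_right.trans (cent1_le_stab hz.1 hz.2)) (key _ (mul_mem hy ⟨h1, hz.2⟩) (two_mul' y2 z2 n3 hc)
      fun e => n4 (by rw [← e, mul_assoc, sq_of_two z2, mul_one]))
  obtain ⟨β, n1, e1⟩ := Cnt.fix2 u2 hu h
  obtain ⟨k, hk, rfl⟩ := exists_invs hq u2 hu h hz h1 e1
  exact n1 (this hk.1)

theorem contra : False := by
  haveI := Fact.mk Nat.prime_two
  have uu := sq_of_two u2
  obtain ⟨z, hz⟩ := Set.ncard_eq_one.1 (hq u α u2 hu h)
  obtain ⟨hz, zu⟩ : z ∈ II Z α ∩ 𝐂[u] := hz ▸ rfl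
  have z2 := c.two z hz.1
  have zz := sq_of_two z2
  obtain ⟨R, hR⟩ := exists_isSylowIn 2 (𝐂[u] ⊓ St α)
  have uR : u ∈ R := zpowers_le.1 (hR.le_of_normalized (pgroup_zpowers' u2)
    (zpowers_le.2 ⟨mem_cent1.2 rfl, h⟩) (le_norm_zpowers_of_cent inf_le_left))
  have zR : z ∈ R := zpowers_le.1 (hR.le_of_normalized (pgroup_zpowers' z2)
    (zpowers_le.2 ⟨zu, hz.2⟩) (le_norm_zpowers_of_cent (cent_le hq u2 hu h hz zu)))
  obtain ⟨S, hS, l⟩ := exists_isSylowIn_ge hR.isPGroup le_top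
  obtain ⟨δ, hδ⟩ := Cnt.fix1 (Ω := Ω) (Z := Z) hS.isPGroup
  obtain rfl : δ = α := fix_unique hz.1 (hδ (l zR)) hz.2
  have un : ∀ w ∈ Z, w ∈ 𝐂[u] ⊓ St δ → w = z := fun w hw e => uniq hq u2 hu h ⟨hw, e.2⟩ hz e.1 zu
  have Sz : S ≤ 𝐂[z] := by
    obtain ⟨w, h1, h2, h3⟩ := exists_cent c.toRed hS.isPGroup hδ
    exact un w h1 ⟨mem_cent1.2 (mem_cent.1 h3 u (l uR)).symm, h2⟩ ▸ le_cent1_iff.2 h3
  have hS' := hS.of_le hδ le_top
  have i2 := idx2 hq u2 hu h hR hS' l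
  have nR := (normal_of_relIndex_p Nat.prime_two hS.isPGroup l i2).1
  obtain ⟨a, aZ, aS, az⟩ : ∃ a ∈ Z, a ∈ S ∧ a ≠ z := by
    obtain ⟨a, ha, b, hb, a1, b1, hne, hc⟩ := four_stab c.toRed δ
    obtain ⟨g, -, e⟩ := hS'.exists_conj_mem (pgroup_sup (pgroup_zpowers' (c.two a a1))
      (pgroup_zpowers' (c.two b b1)) (.inl (le_norm_zpowers_of_cent (zpowers_le.2 (mem_cent1.2 hc.eq)))))
      (sup_le (zpowers_le.2 ha) (zpowers_le.2 hb))
    by_cases e' : g * a * g⁻¹ = z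
    · exact ⟨_, c.conj b b1 g, e b (mem_sup_right (mem_zpowers b)), fun e'' =>
        hne (by simpa using e'.trans e''.symm)⟩
    · exact ⟨_, c.conj a a1 g, e a (mem_sup_left (mem_zpowers a)), e'⟩
  have aa := zsq (Ω := Ω) aZ
  have au : u ∉ 𝐂[a] := fun e => az (un a aZ ⟨mem_cent1.2 (mem_cent1.1 e).symm, hδ aS⟩)
  have aR : a ∉ R := fun e => az (un a aZ (hR.le e))
  have inv : ∀ y ∈ R, y * y = 1 → y = 1 ∨ y = u ∨ y = z ∨ y = u * z := fun y hy =>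
    invol hq u2 hu h hz zu (hR.le hy)
  have nZ : ∀ g : G, g * u * g⁻¹ ∉ Z := fun g e => hu (by simpa [mul_assoc] using c.conj _ e g⁻¹)
  have n1 : ∀ g : G, g * u * g⁻¹ ≠ 1 := fun g => ne_one_of_two (two_conj u2 g)
  have aua : a * u * a = u * z := by
    rcases inv _ (nR.conj_mem aS uR) (H6.conj_mul_self uu a) with e | e | e | e
    exacts [absurd e (n1 a), absurd (mem_cent1.2 (mul_inv_eq_iff_eq_mul.1 e).symm) au,
      absurd (e ▸ hz.1) (nZ a), by rwa [zinv (Ω := Ω) aZ] at e]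
  have za : z ∈ 𝐂[a] := mem_cent1.2 (mem_cent1.1 (Sz aS)).symm
  have c1 : ∀ x ∈ R, x ∈ 𝐂[a] → x * x = 1 → x = 1 ∨ x = z := fun x hx hc xx => by
    rcases inv x hx xx with e | e | e | e
    exacts [.inl e, absurd (e ▸ hc) au, .inr e, absurd ((mul_mem_cancel_right za).1 (e ▸ hc)) au]
  have c2 : ∀ x ∈ R, x ∈ 𝐂[a] → x * x ≠ z := fun x hx hc xx => by
    obtain ⟨g, -, e⟩ := Rg.exists_conj_II ⟨aZ, hδ aS⟩ hz
    obtain ⟨k, hk, e'⟩ := (hS.of_le Sz le_top).exists_conj_mem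
      (pgroup_conj (hR.isPGroup.to_le (zpowers_le.2 hx)) g) (Q := g ⋆ zpowers x) (by
        rw [← e, ← conj_cent1]; exact conj_mono g (zpowers_le.2 hc))
    have m := e' _ (conj_mem_conj g (mem_zpowers x))
    have m2 : k * g * z * (k * g)⁻¹ ∈ R := by
      have := mul_self_mem_of_index_two i2 ⟨_, m⟩
      rw [mem_subgroupOf] at this
      convert this using 1
      rw [← xx]; simp [mul_assoc]
    have := un _ (c.conj z hz.1 _) (hR.le m2)
    refine az (conj_inj (k * g) (Eq.trans ?_ this.symm))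
    show k * g * a * (k * g)⁻¹ = z
    rw [← mul_inv_eq_iff_eq_mul.2 (mem_cent1.1 hk), ← e]; group
  have c3 : ∀ n, ∀ x ∈ R, x ∈ 𝐂[a] → x ^ 2 ^ n = 1 → x = 1 ∨ x = z := fun n => by
    induction n with
    | zero => exact fun x _ _ e => .inl (by simpa using e)
    | succ n ih => exact fun x hx hc e => c1 x hx hc ((ih _ (mul_mem hx hx) (mul_mem hc hc)
        (by rwa [pow_succ', pow_mul, sq] at e)).resolve_right (c2 x hx hc))
  obtain ⟨d1, d2⟩ := d8 hS.isPGroup nR i2 aS aR aa uR uu zR zz (ne_one_of_two z2)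
    (hR.le.trans inf_le_left) Sz inv aua fun x hx hc =>
      let ⟨n, e⟩ := hR.isPGroup ⟨x, hx⟩; c3 n x hx hc (congrArg Subtype.val e)
  have zaZ : z * a ∈ Z := (clo c).mul z hz.1 a aZ az.symm (mem_cent1.1 za)
  have sq : ∀ x ∈ S, x * x ∈ zpowers z := fun x hx => by
    by_cases e : x ∈ R
    · rw [d1 x e]; exact one_mem _
    rcases d2 x hx e with rfl | rfl | e
    exacts [aa ▸ one_mem _, zsq (Ω := Ω) zaZ ▸ one_mem _, e ▸ mem_zpowers z]
  have := Rg.transfer (Ω := Ω) (Z := Z) (H := S) (K := zpowers z)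
    ⟨zpowers_le.2 (l zR), le_norm_zpowers_of_cent Sz⟩ (fun x hx y hy => by
      convert mul_mem (mul_mem (sq x hx) (sq _ (mul_mem (inv_mem hx) hy))) (inv_mem (sq y hy)) using 1
      group) (Rg.odd_index hS) uu (l uR) fun g hg => by
      by_cases e : g * u * g⁻¹ ∈ R
      · rcases inv _ e (H6.conj_mul_self uu g) with e | e | e | e
        exacts [absurd e (n1 g), by rw [e, uu]; exact one_mem _, absurd (e ▸ hz.1) (nZ g), by
          rw [e, mul_assoc, mem_cent1.1 zu, ← mul_assoc, uu, one_mul]; exact mem_zpowers z]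
      · rcases d2 _ hg e with e | e | e
        exacts [absurd (e ▸ aZ) (nZ g), absurd (e ▸ zaZ) (nZ g),
          absurd (e.symm.trans (H6.conj_mul_self uu g)) (ne_one_of_two z2)]
  rcases zpowers_cases zz this with e | e
  exacts [ne_one_of_two u2 e, hu (e ▸ hz.1)]

end Cfsg.Agent.As.Q2

namespace Cfsg.Agent.As

open Subgroup

instance instQ2 [Be.BeI] [Cnt] : Q2 := ⟨fun {G Ω} _ _ _ {Z} _ hq u u2 => by
  by_contra hu
  obtain ⟨α, hα⟩ := Cnt.fix1 (Ω := Ω) (Z := Z) (Be.P1.pgroup_zpowers' u2)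
  exact Q2.contra hq u2 hu (zpowers_le.1 hα)⟩

end Cfsg.Agent.As
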