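import Cfsg.Agent.As.P
import Cfsg.Agent.Sz.Main

/-! Three facts on simple rank one groups (slice `SysX` of notes/zd2.md). -/

set_option autoImplicit false
set_option linter.style.haveILetI false

namespace Cfsg.Agent.As.SX

open Subgroup Cfsg.Agent.FT Cfsg.Agent.H1 Cfsg.Agent.Sz Matrix
open scoped Pointwise MatrixGroups commutatorElement

variable {G : Type} [Group G] [Finite G] [IsSimpleGroup G] {S : Sys G} {F : Type} [Field F]
  [Fintype F]

theorem V_bot (c : Co S F) (hQ : #|S.Q| = Fintype.card F ^ 2) : S.V = ⊥ := by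
  obtain ⟨m, hm, hq⟩ := c.exists_card
  by_contra hV
  obtain ⟨l, f₁, f₂, h⟩ := c.exists_two hV
  obtain ⟨u, -, hu⟩ := h.i1.exists_apply_one
  obtain ⟨v, -, hv⟩ := h.i2.exists_apply_one
  have e := congrFun h.sum 1
  rw [S.ind_H_one, h.lin.2, Pi.add_apply, hu, hv, mul_one] at e
  norm_cast at e
  have d1 := h.deg_dvd hu
  have d2 := h.symm.deg_dvd hv
  obtain ⟨k, e1⟩ := h.deg_mod c hu
  obtain ⟨k', e2⟩ := h.symm.deg_mod c hv
  rw [hQ, hq] at e d1 d2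
  rw [hq] at e1 e2
  rcases Nat.even_or_odd u with ho | ho
  · refine h.symm.deg_ne_one (hv.trans ?_)
    rw [sz_arith hm (by omega) ?_ d2 d1 e2 e1, Nat.cast_one]
    have : Even ((2 ^ m) ^ 2) := (Nat.even_pow.2 ⟨Nat.even_pow.2 ⟨even_two, by omega⟩, two_ne_zero⟩)
    rw [Nat.odd_iff]; rw [Nat.even_iff] at this ho; omega
  · exact h.deg_ne_one (hu.trans (by rw [sz_arith hm e.symm ho d1 d2 e1 e2, Nat.cast_one]))

theorem nab (S : Sys G) (hQ : #|S.Q| = S.q ^ 2) : ¬ S.Q ≤ 𝐂(S.Q) := fun ha => by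
  obtain ⟨F, _, _, ⟨c⟩⟩ := S.rk2_of_simple.exists_co
  have := c.four
  rw [c.q_eq] at hQ
  have e := comm_eq_bot_iff.2 ha
  obtain ⟨χ₁, a, h, k1, k2⟩ := c.exists_zas (V_bot c hQ) ⟨S.Q0_le.trans S.QH, S.Q0_norm⟩ S.Q0_le (by
    rw [e, bot_sup_eq]
    intro h0
    have h := card_le_of_le' h0
    rw [hQ, S.card_Q0, c.q_eq] at h
    nlinarith)
  obtain ⟨ν, hν, P0⟩ := h.base k1
  exact h.false hν (fun χ hχ => P0 χ hχ (e ▸ bot_le)) (apply_of_mem_cfker (k2 ⟨S.sQ, S.ss⟩))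
    (by omega) (by rw [hQ, Nat.sub_add_cancel (by omega)])

theorem three (c : Co S F) (hQ : #|S.Q| = S.q ^ 3) : (S.s * S.t) ^ 3 = 1 := by
  have := c.four
  obtain ⟨-, ⟨h, -⟩ | ⟨-, e⟩ | ⟨h, -⟩⟩ := c.rk2.good
  · exact h
  · rw [hQ, c.q_eq, Nat.pow_right_inj (by omega)] at e; omega
  · exact h

theorem pdvd (S : Sys G) (hQ : #|S.Q| = S.q ^ 3) (a b : G) (ha : a * a = 1) (hb : b * b = 1)
    (p : ℕ) (hp : p.Prime) (p2 : p ≠ 2) (hd : p ∣ orderOf (a * b)) : p ∣ S.q ^ 2 - 1 := by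
  obtain ⟨F, _, _, ⟨c⟩⟩ := S.rk2_of_simple.exists_co
  have h3 := three c hQ
  obtain ⟨g, hg⟩ := S.exists_conj_Q ha
  have n2 : ∀ n : ℕ, ¬ p ∣ 2 ^ n := fun n h =>
    p2 ((Nat.prime_dvd_prime_iff_eq hp Nat.prime_two).1 (hp.dvd_of_dvd_pow h))
  have cb : ∀ g x : G, x * x = 1 → g * x * g⁻¹ * (g * x * g⁻¹) = 1 := fun g x h => by
    rw [conj_mul, h]; simp
  rw [← orderOf_conj' g, ← conj_mul] at hd
  replace ha := cb g a ha
  replace hb := cb g b hb
  generalize g * a * g⁻¹ = a at *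
  generalize g * b * g⁻¹ = b at *
  by_cases hH : b ∈ S.H
  · exact (n2 2 (hd.trans (orderOf_dvd_of_pow_eq_one
      (c.rk2.good.1 _ (S.Q.mul_mem hg (S.inv_mem_Q hH hb)))))).elim
  obtain ⟨x, hx, k, hk, rfl⟩ := S.inv_form hb hH
  obtain ⟨y, rfl⟩ := c.e_surj a hg ha
  obtain ⟨k, rfl⟩ := c.κ_surj k hk
  rw [show c.e y * (x * S.t * c.κ k * x⁻¹) = x * (c.e y * (S.t * c.κ k)) * x⁻¹ by
    rw [← mul_assoc, ← mul_assoc, ← mul_assoc, c.e_comm y hx]; group, orderOf_conj'] at hd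
  have m : c.e y * (S.t * c.κ k) ∈ (c.ψ h3).range := mul_mem (c.e_L h3 y) (mul_mem (c.t_L h3)
    ((c.mem_L h3).2 (Or.inl ⟨0, k, k.ne_zero, by simp [c.k_unit]⟩)))
  have e := Co.card_SL (F := F)
  have d := hd.trans (Subgroup.orderOf_dvd_natCard _ m)
  rw [← Nat.card_congr (MonoidHom.ofInjective (c.ψ_inj h3)).toEquiv,
    show Nat.card SL(2, F) = Fintype.card F * (Fintype.card F ^ 2 - 1) by
      rw [Nat.mul_sub, mul_one, ← pow_succ', ← e, Nat.add_sub_cancel]] at d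
  obtain ⟨m, -, hm⟩ := c.exists_card
  rw [c.q_eq]
  exact (hp.dvd_mul.1 d).resolve_left (hm ▸ n2 m)

section
variable {E : Type} [Field E] (σ : E →+* E)

/-- a diagonal unitary matrix -/
def dJ (a : E) (h : a * σ a = 1) : SJ σ :=
  ⟨⟨!![a, 0, 0; 0, σ a * σ a, 0; 0, 0, a], by
    simp [det_fin_three]; linear_combination (a * σ a + 1) * h⟩, (mem_SJ σ).2 fun u v => by
      have h' := congrArg σ h
      rw [map_mul, map_one] at h'
      simp [hJ, mulVec, dotProduct, Fin.sum_univ_three]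
      linear_combination (u 0 * σ (v 2) + u 2 * σ (v 0)) * h +
        u 1 * σ (v 1) * (σ a * σ (σ a) + 1) * h'⟩

theorem dJ_vec (a : E) (h : a * σ a = 1) (x y z : E) :
    (dJ σ a h).1.1 *ᵥ ![x, y, z] = ![a * x, σ a * σ a * y, a * z] := by
  ext i; fin_cases i <;> simp [dJ, mulVec, dotProduct, Fin.sum_univ_three]

theorem ext_vec {M N : SJ σ} (h : ∀ x y z, M.1.1 *ᵥ ![x, y, z] = N.1.1 *ᵥ ![x, y, z]) : M = N :=
  Subtype.ext (Subtype.ext (Matrix.ext_of_mulVec_single fun i => by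
    generalize (Pi.single i 1 : Fin 3 → E) = v
    rw [show v = ![v 0, v 1, v 2] by ext j; fin_cases j <;> rfl]
    exact h _ _ _))

end

theorem v0 (S : Sys G) (hQ : #|S.Q| = S.q ^ 3) : ∃ v ∈ S.V, v ≠ 1 ∧ v ∈ 𝐂(S.Q0) := by
  obtain ⟨F, _, _, ⟨c⟩⟩ := S.rk2_of_simple.exists_co
  have h4 := c.rk2.good.1
  obtain ⟨E, _, _, cE, ⟨e⟩⟩ := c.typeU (three c hQ) h4 (c.q_eq ▸ hQ)
  obtain ⟨m, hm, hq⟩ := c.exists_card
  have q4 := c.four_le
  haveI : CharP E 2 := charP_of_card_eq_prime_pow (f := m * 2) (by rw [cE, hq, pow_mul])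
  let σ := iterateFrobenius E 2 m
  have hσq : ∀ x, σ x = x ^ Fintype.card F := fun x => by rw [hq]; rfl
  have hσ : ∀ x, σ (σ x) = x := fun x => by
    rw [hσq, hσq, ← pow_mul, ← pow_two, ← cE, FiniteField.pow_card]
  obtain ⟨z, hz⟩ := IsCyclic.exists_ofOrder_eq_natCard (α := Eˣ)
  rw [Nat.card_units, Nat.card_eq_fintype_card, cE, ← orderOf_units] at hz
  have qe := c.q_eq
  generalize Fintype.card F = q at *
  obtain ⟨n, rfl⟩ : ∃ n, q = n + 1 := ⟨q - 1, by omega⟩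
  rw [show (n + 1) ^ 2 - 1 = n * (n + 2) by rw [Nat.sub_eq_iff_eq_add (Nat.one_le_pow _ _ (by omega))]; ring] at hz
  have z0 := z.ne_zero
  have nz : ((z : E) ^ n) ^ 12 ≠ 1 := fun h => by
    rw [← pow_mul, ← orderOf_dvd_iff_pow_eq_one, hz] at h
    replace h := Nat.dvd_of_mul_dvd_mul_left (by omega) h
    have := Nat.le_of_dvd (by norm_num) h
    have : 2 ∣ n + 1 := hq ▸ dvd_pow_self 2 (by omega)
    have : n ≤ 10 := by omega
    interval_cases n <;> omega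
  have two := CharTwo.two_eq_zero (R := E)
  have zz : (z : E) + σ z ≠ 0 := fun h => nz (by
    rw [mul_right_cancel₀ z0 (show (z : E) ^ n * z = 1 * z by
      rw [← pow_succ, ← hσq]; linear_combination h - z * two), one_pow])
  have hε : z / (z + σ z) + σ (z / (z + σ z)) = 1 := by
    rw [map_div₀, map_add, hσ, add_comm (σ z), ← add_div, div_self zz]
  have ha : (z : E) ^ n * σ (z ^ n) = 1 := by
    rw [hσq, ← pow_succ', ← pow_mul, ← hz, pow_orderOf_eq_one]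
  obtain ⟨φ⟩ := exists_SU σ hσ hσq hε
  let f : SJ σ →* G := (e.symm.toMonoidHom.comp (QuotientGroup.mk' _)).comp φ.symm.toMonoidHom
  have fk : ∀ M, f M = 1 → ∀ N, N * M = M * N := fun M h N => φ.symm.injective (by
    rw [map_mul, map_mul]
    exact mem_center_iff.1 ((QuotientGroup.eq_one_iff _).1 (e.symm.injective (h.trans (map_one _).symm))) _)
  let σe : E ≃+* E := ⟨⟨σ, σ, hσ, hσ⟩, map_mul σ, map_add σ⟩
  have cT := card_eq_pow_fix σe
  rw [orderOf_eq_prime (p := 2) (RingEquiv.ext fun x => hσ x) (fun h => zz (by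
    rw [show σ z = z from congrArg (· (z : E)) h]; linear_combination z * two)), cE,
    Nat.pow_left_inj two_ne_zero] at cT
  have hu : ∀ Y : {x // σe x = x}, Y.1 + σ Y.1 = 0 * σ 0 := fun Y => by
    rw [show σ Y.1 = Y.1 from Y.2]; linear_combination Y.1 * two
  let u : {x // σe x = x} → G := fun Y => f (uJ σ hσ 0 Y (hu Y))
  have um : ∀ Y Y' h, uJ σ hσ 0 Y.1 (hu Y) * uJ σ hσ 0 Y'.1 (hu Y') = uJ σ hσ 0 (Y.1 + Y'.1) h :=
    fun Y Y' h => ext_vec σ fun a b c => by simp only [vec_mul, uJ_vec]; simp; ring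
  have h0 : ∀ Y Y' : {x // σe x = x}, Y.1 + Y'.1 + σ (Y.1 + Y'.1) = 0 * σ 0 := fun Y Y' => by
    rw [map_add]; linear_combination hu Y + hu Y' + 0 * σ 0
  have uu : ∀ Y Y', u Y * u Y' = 1 ↔ Y = Y' := fun Y Y' => by
    simp only [u]
    rw [← map_mul, um _ _ (h0 Y Y')]
    refine ⟨fun h => Subtype.ext ?_, ?_⟩
    · have := congrArg (fun M : SJ σ => (M.1.1 *ᵥ ![0, 0, 1]) 2) (fk _ h (wJ σ))
      simp only [vec_mul, uJ_vec, wJ_vec] at this
      simp at this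
      linear_combination this - Y'.1 * two
    · rintro rfl
      rw [← map_one f]
      exact congrArg f (ext_vec σ fun a b c => by rw [uJ_vec]; simp [CharTwo.add_self_eq_zero])
  have uc : ∀ Y Y', u Y * u Y' = u Y' * u Y := fun Y Y' => by
    simp only [u]
    rw [← map_mul, ← map_mul, um _ _ (h0 Y Y'), um _ _ (h0 Y' Y)]; simp only [add_comm]
  obtain ⟨g, hg⟩ := S.exists_conj_Q ((uu ⟨1, map_one σ⟩ _).2 rfl)
  have u1 : g * u ⟨1, map_one σ⟩ * g⁻¹ ≠ 1 := conj_ne_one fun h => one_ne_zero (congrArg Subtype.val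
    ((uu ⟨1, map_one σ⟩ ⟨0, map_zero σ⟩).1 (by
      rw [h, one_mul, ← mul_left_inj (u ⟨0, map_zero σ⟩), (uu _ _).2 rfl, one_mul, eq_comm]
      simp only [u]
      rw [← map_one f]
      exact congrArg f (ext_vec σ fun a b c => by rw [uJ_vec]; simp))))
  have uq : ∀ Y, g * u Y * g⁻¹ ∈ S.Q0 := fun Y => by
    have : g * u Y * g⁻¹ * (g * u Y * g⁻¹) = 1 := by rw [conj_mul, (uu _ _).2 rfl]; simp
    exact ⟨S.inv_mem_Q (S.mem_H_of_comm hg u1 (by rw [conj_mul, conj_mul, uc])) this, this⟩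
  have us : Function.Surjective fun Y => (⟨_, uq Y⟩ : S.Q0) :=
    (Function.Injective.bijective_of_nat_card_le (fun Y Y' h => (uu Y Y').1 (by
      rw [conj_inj g (congrArg Subtype.val h), (uu _ _).2 rfl])) (by
        rw [← cT, S.card_Q0, qe])).2
  have wc : g * f (dJ σ _ ha) * g⁻¹ ∈ 𝐂(S.Q0) := mem_cent.2 fun y hy => by
    obtain ⟨Y, e⟩ := us ⟨y, hy⟩
    rw [← show g * u Y * g⁻¹ = y from congrArg Subtype.val e, conj_mul, conj_mul]
    simp only [u]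
    rw [← map_mul, ← map_mul]
    congr 3
    exact ext_vec σ fun a b c => by simp only [vec_mul, uJ_vec, dJ_vec]; congr 1 <;> simp; ring
  have s0 : S.s ∈ S.Q0 := ⟨S.sQ, S.ss⟩
  obtain ⟨x, hx, d, hd, e1⟩ := S.exists_QD (S.mem_H_of_comm S.sQ S.s1 (mem_cent.1 wc _ s0).symm)
  have dc : d ∈ 𝐂(S.Q0) := (mul_mem_cancel_left (le_cent_symm S.Q0_cent hx)).1 (e1 ▸ wc)
  refine ⟨d, S.mem_V_of_comm hd (mem_cent.1 dc _ s0).symm, fun d1 => ?_, dc⟩
  have e2 := h4 x hx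
  rw [d1, mul_one] at e1
  rw [← e1, conj_pow, conj_eq_one_iff, ← map_pow] at e2
  have := congrArg (fun M : SJ σ => (M.1.1 *ᵥ ![0, 0, 1]) 1) (fk _ e2 (uJ σ hσ 1 _ (hε.trans (by simp))))
  simp only [pow_succ, pow_zero, one_mul, vec_mul, uJ_vec, dJ_vec] at this
  generalize (z : E) ^ n = a at *
  refine nz ?_
  simp at this
  linear_combination a ^ 8 * this + (1 + a * σ a) * (1 + (a * σ a) ^ 2) * (1 + (a * σ a) ^ 4) * ha

instance instSysX : SysX := ⟨v0, nab, pdvd⟩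

end Cfsg.Agent.As.SX
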