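import Cfsg.Agent.As.Cm3
import Cfsg.Agent.As.U3
import Cfsg.Agent.As.Fld
import Cfsg.Agent.As.Num
import Cfsg.Agent.FT.BG3a.A

/-! ZD, part 2: the case `Sz(q)` with an involution in `R ∖ V`. -/

set_option autoImplicit false
set_option linter.unusedSectionVars false

namespace Cfsg.Agent.As.SZb

open Subgroup MulAction Cfsg.Agent.H1 Cfsg.Agent.L Cfsg.Agent.FT Cfsg.Agent.Sg
open Cfsg.Agent.FT.B9 (commEl_eq_one_iff commEl_mem commEl_mem_left comm_mem_symm comm_mem_of_le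
  mem_norm_of_comm exists_pow_notMem_pow_mem pgroup_pow_eq_one)
open Cfsg.Agent.Be.P1 (orb smul_mem_orb conj_st2)
open scoped Pointwise commutatorElement

variable {G Ω : Type} [Group G] [Finite G] [MulAction G Ω] {Z : Set G}
variable {A B D Q K X P : Subgroup G} {α β γ : Ω} {t u v w g x y s k : G} {q p : ℕ}

local notation "St" => stabilizer G

theorem exists_cent_mod (hA : IsPGroup 2 A) (hB : IsPGroup 2 B) (hn : B ≤ 𝐍(A)) (h1 : A ≤ 𝐍(D))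
    (h2 : B ≤ 𝐍(D)) (h : ¬ A ≤ D) : ∃ y ∈ A, y ∉ D ∧ ∀ x ∈ B, ⁅x, y⁆ ∈ D := by
  obtain ⟨y', ⟨hy', hc⟩, y1⟩ := exists_mem_ne_one (inf_cent_ne_bot_of_pgroup Nat.prime_two
    (pgroup_mim hA (coset D)) (pgroup_mim hB (coset D)) (mim_le_norm _ hn)
    fun e => h ((quo_eq_bot_iff h1).1 e))
  obtain ⟨y, hy, rfl⟩ := mem_mim.1 hy'
  refine ⟨y, hy, fun e => y1 (coset_eq_one.2 e), fun x hx => ?_⟩
  have := commEl_eq_one_iff.2 (mem_cent.1 hc _ (mem_mim_of_mem (coset D) ⟨x, h2 hx⟩ hx))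
  rw [← map_commutatorElement, coset_eq_one] at this
  exact this

theorem card_modEq (hp : p.Prime) (hX : IsPGroup p X) (hn : X ≤ 𝐍(A)) :
    #|A| ≡ #|A ⊓ 𝐂(X)| [MOD p] := by
  haveI := Fact.mk hp
  letI := H2.conjAction X A hn
  have h1 := hX.card_modEq_card_fixedPoints A
  have h2 : Nat.card (MulAction.fixedPoints X A) = #|(𝐂(X)).subgroupOf A| :=
    Nat.card_congr (Equiv.subtypeEquivRight fun x => ⟨fun h => mem_cent.2 fun a ha =>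
      mul_inv_eq_iff_eq_mul.1 (congrArg Subtype.val (h ⟨a, ha⟩)), fun h a => Subtype.ext
        (mul_inv_eq_iff_eq_mul.2 (mem_cent.1 h a a.2))⟩)
  rwa [h2, card_subgroupOf, inf_comm] at h1

theorem arith {n T t c : ℕ} (h : ∃ a, 2 ≤ a ∧ q = 2 ^ a) (h3 : ¬ 3 ∣ q - 1) (hn : n + 1 = q)
    (e : q ^ 3 * T = t ^ n * c) (h1 : T ≤ t) (h2 : q ≤ c) (h4 : 2 ≤ T) : q = 8 ∧ T = 2 ∧ c = 8 := by
  obtain ⟨a, ha, rfl⟩ := h
  obtain ⟨m, rfl⟩ : ∃ m, n = m + 1 := ⟨n - 1, by have := Nat.pow_le_pow_right two_pos ha; omega⟩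
  have h5 : t ^ m ≤ (2 ^ a) ^ 2 := by
    refine Nat.le_of_mul_le_mul_right (c := t * 2 ^ a) ?_ (Nat.mul_pos (by omega) (by positivity))
    calc _ = t ^ (m + 1) * 2 ^ a := by ring
      _ ≤ (2 ^ a) ^ 3 * T := e ▸ Nat.mul_le_mul_left _ h2
      _ ≤ (2 ^ a) ^ 3 * t := Nat.mul_le_mul_left _ h1
      _ = _ := by ring
  have h6 : m ≤ a * 2 := (Nat.pow_le_pow_iff_right one_lt_two).1
    ((Nat.pow_le_pow_left (h4.trans h1) m).trans (pow_mul 2 a 2 ▸ h5))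
  have h7 : ∀ b, 2 * (b + 4) + 2 < 2 ^ (b + 4) := fun b => by
    induction b with
    | zero => norm_num
    | succ b ih => rw [show b + 1 + 4 = b + 4 + 1 by ring, pow_succ]; omega
  obtain rfl : a = 3 := by
    by_contra h8
    rcases ha.eq_or_lt with rfl | h9
    · exact h3 (by norm_num)
    obtain ⟨b, rfl⟩ : ∃ b, a = b + 4 := ⟨a - 4, by omega⟩
    have := h7 b
    omega
  obtain rfl : m = 6 := by omega
  obtain rfl : t = 2 := by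
    by_contra h8
    have := (Nat.pow_le_pow_left (show 3 ≤ t by omega) 6).trans h5
    omega
  omega

variable [c : Ctx Ω Z] [Be.BeI] [Cnt] [LocE] (h : Cm Z α β u t Q K q 2)
include h

theorem KQ : K ≤ 𝐍(Q) := fun k hk => U3p.nQ h.loc (le_normalizer (h.K_le hk)) (h.Kα hk)

theorem comm_YR (hx : x ∈ Yu Z α u) (hs : s ∈ Ru Z α u) : ⁅s, x⁆ ∈ Vu Z α u := by
  have nV := h.R_norm
  have hq := U3p.four_le h.loc
  have hT : ∀ w ∈ Tu Ω u, w ∈ centMod (Ru Z α u) (Vu Z α u) := fun w hw => mem_centMod.2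
    ⟨⟨le_normalizer (h.V_le_R (mem_sup_right hw)), le_normalizer (mem_sup_right hw)⟩, fun s hs =>
      B9.commEl_mem_right (nV hs) (mem_sup_right hw)⟩
  obtain ⟨y, hy, h1, h2⟩ := exists_cent_mod (D := Vu Z α u) (h.R_two.to_le Yu_le_Ru) h.R_two
    h.R_normY (Yu_le_Ru.trans nV) nV (fun e => by
      have := card_le_of_le' (fun x hx => h.mem_EW hx (sup_le_sup_left
        (inf_le_left.trans h.vs.ker.ge) _ (e (h.Q_le_Y hx))) : Q ≤ Ea Z α)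
      rw [h.card_Q, h.loc.cardE] at this
      nlinarith)
  obtain ⟨y, hy', w, hw, rfl⟩ := h.dec_Y hy
  have h3 : y ∈ centMod (Ru Z α u) (Vu Z α u) := (mul_mem_cancel_right (hT w hw)).1 (mem_centMod.2
    ⟨⟨le_normalizer (Yu_le_Ru hy), nV (Yu_le_Ru hy)⟩, h2⟩)
  have h4 : y ∉ Ea Z α := fun e => h1 (mul_mem (mem_sup_left e) (mem_sup_right hw))
  have hE : Ea Z α ≤ centMod (Ru Z α u) (Vu Z α u) := le_centMod_iff.2
    ⟨(le_sup_left.trans h.V_le_R).trans le_normalizer, le_sup_left.trans le_normalizer,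
      (comm_le_right (Ru_le.trans (cent_le_norm _))).trans le_sup_left⟩
  have h5 : Q ≤ centMod (Ru Z α u) (Vu Z α u) := fun z hz => by
    by_cases h6 : z ∈ Ea Z α
    · exact hE h6
    obtain ⟨k, hk, e⟩ := (h.loc.trq _ Q (U3p.q0 h.vs ▸ bot_le) h.E_le_Q le_rfl h.loc.sing.norm
      (KQ h)).2 (by rw [h.card_Q, h.loc.cardE, sq]) y hy' h4 z hz h6
    have := mul_mem (inv_mem (hE e)) (conj_mem_of_mem_normalizer (le_norm_centMod h.K_R h.K_V hk) h3)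
    simpa [mul_assoc] using this
  exact (mem_centMod.1 ((h.Y_eq.le.trans (sup_le h5 hT)) hx)).2 s hs

theorem T_syl : IsSylowIn 2 (Tu Ω u) (St α ⊓ St β) := by
  haveI := Fact.mk Nat.prime_two
  have hT : Tu Ω u ≤ St α ⊓ St β := inf_le_left.trans (le_inf (h.W_C.trans h.m1.C_le) h.Wβ)
  obtain ⟨P, hP, h1⟩ := exists_isSylowIn_ge h.vs.sq.two hT
  have pP : IsPGroup 2 (P ⊓ 𝐍(Tu Ω u) : Subgroup G) := hP.isPGroup.to_inf_left
  have h2 : P ⊓ 𝐍(Tu Ω u) ≤ 𝐍(Lu Z u) := fun x hx =>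
    h.norm_L_of (conj_mem_of_mem_normalizer hx.2 self_mem_Tu).1
  have hE : P ⊓ 𝐍(Tu Ω u) ≤ 𝐍(Ea Z α) := fun x hx => h.m1.nE (hP.le hx.1).1
  obtain ⟨e, he, e1⟩ := exists_mem_ne_one (inf_cent_ne_bot_of_pgroup Nat.prime_two h.m1.sqE.two pP hE
    h.loc.sing.ne)
  have h3 : P ⊓ 𝐍(Tu Ω u) ≤ 𝐂(Ea Z α) := fun x hx => by_contra fun x1 => by
    obtain ⟨n, h4, h5⟩ := exists_pow_notMem_pow_mem (pgroup_pow_eq_one pP hx) x1
    have h6 := pow_mem hx (2 ^ n)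
    have h7 := (Fld.fix h.loc.sing he.1 e1 Nat.prime_two ⟨⟨hE h6, h.loc.nK ⟨h2 h6, hP.le h6.1⟩⟩,
      le_cent1_iff.2 he.2 h6⟩ h5 h4).1
    obtain ⟨a, -, ha⟩ := h.loc.pow
    refine h.loc.nd3 rfl ?_
    rw [h.loc.cardE] at h7
    generalize #|Ea Z α ⊓ 𝐂[x ^ 2 ^ n]| = r at h7
    have h8 : ¬ 3 ∣ r := fun d => absurd (Nat.prime_three.dvd_of_dvd_pow
      (ha ▸ h7 ▸ dvd_pow d two_ne_zero : 3 ∣ 2 ^ a)) (by norm_num)
    have : r ^ 2 % 3 = 1 := by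
      rw [Nat.pow_mod]
      have : r % 3 = 1 ∨ r % 3 = 2 := by omega
      rcases this with e | e <;> rw [e]
    omega
  obtain ⟨v, hv, v1⟩ := exists_mem_ne_one (inf_cent_ne_bot_of_pgroup Nat.prime_two h.vs.sq.two pP
    inf_le_right (ne_bot_of_mem self_mem_Tu h.uu.ne))
  have h4 : Tu Ω u = P := eq_of_nil_of_norm_le (pgroup_nil Nat.prime_two hP.isPGroup) h1 fun x hx =>
    (h.vs.cT v hv.1 v1).le ⟨h.vs.ker ▸ h.loc.a4 h.j3 x (h2 hx) (hP.le hx.1).1 (hP.le hx.1).2 (h3 hx),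
      le_cent1_iff.2 hv.2 hx⟩
  rwa [h4]

theorem card_two (hne : γ ≠ α) (hX : IsPGroup 2 X) (h1 : X ≤ St α ⊓ St γ) :
    ∃ g : G, g • α = α ∧ g ⋆ X ≤ Tu Ω u := by
  obtain ⟨g, gα, gγ⟩ := tr2 c hne h.ne.symm
  obtain ⟨d, hd, e⟩ := sylow_exists_conj_le Nat.prime_two (T_syl h) (X := g ⋆ X)
    ((conj_mono g h1).trans (by rw [conj_st2, gα, gγ])) (pgroup_conj hX g)
  exact ⟨d * g, by rw [mul_smul, gα, hd.1], mul_conj d g X ▸ e⟩

section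
variable (hy : y ∈ Ru Z α u) (y2 : y * y = 1) (hV : y ∉ Vu Z α u)
include hy y2 hV

theorem dich (e : G) (he : e ∈ Ea Z α) : ∃ s ∈ Ru Z α u, u⁻¹ * (s * u * s⁻¹) = e :=
  h.dich.resolve_left (fun e => hV (h.inv_Y (e ▸ hy) y2)) e he

theorem card_R : #|Ru Z α u| = q ^ 3 * #|Tu Ω u| := by
  rw [h.card_R (dich h hy y2 hV), h.card_Y]; ring

theorem sq_E (hs : s ∈ Ru Z α u) : s * s ∈ Ea Z α := by
  by_cases h1 : s ∈ Yu Z α u
  · exact h.sq_Y h1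
  refine h.sq_mem_E hs h1 ?_
  obtain ⟨k, hk, e⟩ := h.loc.sing.tr _ hy.2 (fun e => hV (h.inv_Y ((mem_Yu_iff hy.1).2 e) y2)) _ hs.2
    fun e => h1 ((mem_Yu_iff hs.1).2 e)
  have h2 := conj_mem_of_mem_normalizer (h.K_R hk) hy
  rw [← h.phi_K hk] at e
  have h3 : k * y * k⁻¹ * (k * y * k⁻¹) = 1 := by rw [conj_mul, y2]; simp
  generalize k * y * k⁻¹ = z at e h2 h3
  have h4 : z * s ∈ Yu Z α u := (mem_Yu_iff (mul_mem h2.1 hs.1)).2 (by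
    rw [phi_mul h2.1 hs, e, h.m1.sqE _ hs.2])
  have := mul_mem (comm_YR h h4 h2) (mem_sup_left (h.sq_Y h4) : _ ∈ Vu Z α u)
  convert this using 1
  rw [commutatorElement_def, ← mul_assoc z z, h3, inv_eq_of_mul_eq_one_right h3]
  calc _ = s * (z * z) * s := by rw [h3, mul_one]
    _ = _ := by group

theorem comm_E (hs : s ∈ Ru Z α u) (hx : x ∈ Ru Z α u) : x⁻¹ * (s * x * s⁻¹) ∈ Ea Z α := by
  have := mul_mem (mul_mem (inv_mem (sq_E h hy y2 hV hx)) (sq_E h hy y2 hV (mul_mem hx hs)))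
    (inv_mem (sq_E h hy y2 hV hs))
  convert this using 1; group

theorem exists_g (hw : UU Z α w) (hR : w ∈ Ru Z α u) : Ru Z α w = Ru Z α u ∧
    ∃ g ∈ St α ⊓ 𝐍(Ru Z α u), g ⋆ Vu Z α w = Vu Z α u := by
  obtain ⟨g, h1, h2⟩ := h.conjT hw
  have h3 : g * w * g⁻¹ ∉ Ea Z α := h.m1.notE (h.m1.uu_conj hw h1)
  have h4 := (h.m1.conj_Ru h1 w).trans (h.R_eq_v (mem_sup_right h2) h3)
  have h5 : Ru Z α u = Ru Z α w := eq_of_le_of_card_le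
    (fun s hs => ⟨hs.1, comm_E h hy y2 hV hs hR⟩) (by rw [← h4, FT.card_conj])
  exact ⟨h5.symm, g, ⟨h1, conj_eq_self_iff.1 (h5 ▸ h4.trans h5)⟩,
    (h.m1.conj_Vu h1 w).trans (h.V_eq (mem_sup_right h2) h3)⟩

theorem R_syl : IsSylowIn 2 (Ru Z α u) (St α) := by
  haveI := Fact.mk Nat.prime_two
  haveI := finΩ c.toRed
  refine isSylowIn_of_forall_card_le h.R_two (Ru_le.trans h.m1.C_le) fun P hP _ => by_contra fun H => ?_
  obtain ⟨a, ha, e⟩ := h.loc.pow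
  subst e
  have h1 : 2 ^ (a * 3 + 1) ∣ ({α}ᶜ : Set Ω).ncard := by
    refine U3p.dvd_ncard (X := P) (O := {α}ᶜ) (Set.toFinite _) (fun g hg x hx e => hx ?_) fun γ hγ => ?_
    · exact smul_left_cancel g (e.trans (hP.le hg).symm)
    obtain ⟨g, -, h2⟩ := card_two h hγ (hP.isPGroup.to_inf_right (H := St γ))
      (le_inf (inf_le_right.trans hP.le) inf_le_left)
    have h2 := card_le_of_le' h2
    have h3 := card_inf_mul_relIndex (St γ) P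
    obtain ⟨n, hn⟩ := pgroup_relIndex Nat.prime_two hP.isPGroup (St γ)
    rw [hn] at h3 ⊢
    refine pow_dvd_pow 2 (by_contra fun h4 => H ?_)
    rw [card_R h hy y2 hV, ← h3, mul_comm, ← pow_mul]
    exact Nat.mul_le_mul (Nat.pow_le_pow_right two_pos (by omega)) (FT.card_conj g _ ▸ h2)
  have h2 := Set.ncard_add_ncard_compl ({α} : Set Ω)
  rw [Set.ncard_singleton, h.m1.card] at h2
  obtain ⟨b, hb⟩ : ∃ b, 2 ^ a = b + 1 := ⟨2 ^ a - 1, (Nat.sub_add_cancel Nat.one_le_two_pow).symm⟩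
  have h3 : 1 + ((2 ^ a) ^ 2 + 1) * (2 ^ a - 1) = 2 ^ a * (2 ^ a * b + 1) := by
    rw [hb, Nat.add_sub_cancel]; ring
  rw [Nat.add_left_cancel h2, h3, ← mul_assoc, show (2 ^ a) ^ 2 * 2 ^ a = 2 ^ (a * 3) by ring,
    pow_succ, Nat.mul_dvd_mul_iff_left (by positivity)] at h1
  obtain ⟨a, rfl⟩ := Nat.exists_eq_add_of_le ha
  rw [show 2 ^ (2 + a) * b + 1 = 2 * (2 * 2 ^ a * b) + 1 by ring] at h1
  omega

theorem exists_H : ∃ H, K ≤ H ∧ Odd #|H| ∧ SDProd (Ru Z α u) H (St α ⊓ 𝐍(Ru Z α u)) := by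
  have h1 : HallIn {2} (Ru Z α u) (St α ⊓ 𝐍(Ru Z α u)) := sylow_hall Nat.prime_two
    ((R_syl h hy y2 hV).of_le (le_inf (Ru_le.trans h.m1.C_le) le_normalizer) inf_le_left)
  obtain ⟨H0, h2, h3⟩ := h1.exists_sdprod inf_le_right
  obtain ⟨H, h4, h5⟩ := exists_hallIn_ge (h2.sol (sol_of_pgroup Nat.prime_two h.R_two)
    (sol_of_odd (odd_iff_piGrp.2 h3.pi))) (le_inf (h.K_D.trans inf_le_left) h.K_R)
    (odd_iff_piGrp.1 h.odd_K)
  exact ⟨H, h5, odd_iff_piGrp.2 h4.pi, h1.sdprod inf_le_right h4⟩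

theorem norm_KR (hg : g ∈ St α ⊓ 𝐍(Ru Z α u)) (h1 : g ∈ 𝐍(Vu Z α u)) : g ∈ 𝐍(Ru Z α u ⊔ K) := by
  have h2 := h.m1.uu_conj h.uu hg.1
  obtain ⟨e, he, h3⟩ := h.cov (conj_mem_of_mem_normalizer h1 self_mem_Vu) (h.m1.notE h2)
  obtain ⟨s, hs, rfl⟩ := dich h hy y2 hV e he
  rw [mul_inv_cancel_left, ← conj_Tu, ← conj_Tu, conj_eq_iff, eq_comm, ← mul_conj, conj_eq_self_iff,
    ← inv_mem_iff, mul_inv_rev, inv_inv] at h3
  have h4 := h.norm_L_of (conj_mem_of_mem_normalizer h3 self_mem_Tu).1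
  have h5 : s⁻¹ * g ∈ St α := mul_mem (inv_mem (h.m1.C_le hs.1)) hg.1
  obtain ⟨x, hx, e⟩ := h.loc.tr ((s⁻¹ * g) • β) (smul_mem_orb h4 ((h.vs.orb β).2 h.uβ))
    fun e => h.ne (smul_left_cancel _ (h5.trans e.symm))
  have hx' := Yu_le_Ru (h.Q_le_Y hx)
  have h6 : x⁻¹ * (s⁻¹ * g) ∈ 𝐍(K) := h.DK ⟨(St α).mul_mem (inv_mem (h.m1.C_le hx'.1)) h5, by
    change _ • β = β
    rw [mul_smul, ← e, inv_smul_smul]⟩
  have h7 : x⁻¹ * (s⁻¹ * g) ∈ 𝐍(Ru Z α u ⊔ K) := le_normalizer_sup (zpowers_le.2 (mul_mem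
    (inv_mem (le_normalizer hx')) (mul_mem (inv_mem (le_normalizer hs)) hg.2))) (zpowers_le.2 h6)
    (mem_zpowers _)
  simpa using mul_mem (le_normalizer (mem_sup_left hs)) (mul_mem (le_normalizer (mem_sup_left hx')) h7)

variable (NV : 𝐂(Ea Z α) ⊓ 𝐍(Vu Z α u) = Ru Z α u) {H : Subgroup G} (KH : K ≤ H) (oH : Odd #|H|)
  (sd : SDProd (Ru Z α u) H (stabilizer G α ⊓ 𝐍(Ru Z α u)))
include NV KH oH sd

theorem eq_one (hg : g ∈ H) (h1 : g ∈ 𝐍(Vu Z α u)) (h2 : g ∈ 𝐂(Ea Z α)) : g = 1 :=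
  mem_bot.1 (sd.disj ▸ ⟨NV ▸ ⟨h2, h1⟩, hg⟩)

theorem norm_K (hg : g ∈ H) (h1 : g ∈ 𝐍(Vu Z α u)) : g ∈ 𝐍(K) := by
  have : (K ⊔ Ru Z α u) ⊓ H = K := by
    rw [sup_inf_modular KH (Or.inr h.K_R), sd.disj, sup_bot_eq]
  rw [← this, sup_comm]
  exact le_normalizer_inf (zpowers_le.2 (norm_KR h hy y2 hV (sd.right_le hg) h1))
    (zpowers_le.2 (le_normalizer hg)) (mem_zpowers g)

theorem mem_K (hg : g ∈ H) (h1 : g ∈ 𝐍(Vu Z α u)) (h2 : g ∈ 𝐂(K)) : g ∈ K := by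
  obtain ⟨e, he, e1⟩ := h.exists_e
  have S := h.loc.sing
  obtain ⟨k, hk, h3⟩ := S.tr e he e1 _ (conj_mem_of_mem_normalizer (h.m1.nE (sd.right_le hg).1) he)
    (fun a => e1 (by simpa [mul_inv_eq_iff_eq_mul] using a))
  have h4 := eq_one h hy y2 hV NV KH oH sd (mul_mem (inv_mem (KH hk)) hg)
    (mul_mem (inv_mem (h.K_V hk)) h1) (mem_cent.2 fun x hx => by
      by_cases x1 : x = 1
      · simp [x1]
      obtain ⟨l, hl, rfl⟩ := S.tr e he e1 x hx x1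
      have h5 := mul_mem (inv_mem (S.comm hk)) h2
      have h6 : e * (k⁻¹ * g) = k⁻¹ * g * e := by
        rw [mul_assoc k⁻¹, show g * e = k * e * k⁻¹ * g by rw [h3]; group]; group
      rw [mul_assoc, mem_cent.1 h5 _ (inv_mem hl), ← mul_assoc, mul_assoc l, h6, ← mul_assoc,
        mem_cent.1 h5 l hl]
      group)
  rwa [← inv_mul_eq_one.1 h4]

theorem exists_l (hw : UU Z α w) (hR : w ∈ Ru Z α u) : ∃ l ∈ H, l ⋆ Vu Z α w = Vu Z α u := by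
  obtain ⟨-, g, h1, h2⟩ := exists_g h hy y2 hV hw hR
  obtain ⟨s, hs, l, hl, rfl⟩ := sd.mem_iff.1 h1
  exact ⟨l, hl, by rwa [mul_conj, conj_eq_iff, conj_of_mem_norm (inv_mem (h.R_norm hs))] at h2⟩

theorem V_eq (hw : UU Z α w) (hR : w ∈ Ru Z α u) (hk : k ∈ K) (k1 : k ≠ 1)
    (hn : k ∈ 𝐍(Vu Z α w)) : Vu Z α w = Vu Z α u := by
  obtain ⟨l, hl, h1⟩ := exists_l h hy y2 hV NV KH oH sd hw hR
  obtain ⟨p, hp, hd⟩ := exists_prime_dvd_card (zpowers_ne_bot.2 k1)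
  obtain ⟨k', hk', ho⟩ := exists_mem_orderOf_eq hp hd
  have h2 : k' ∈ K := zpowers_le.2 hk hk'
  have h3 : k' ≠ 1 := fun e => hp.one_lt.ne' (by rw [← ho, e, orderOf_one])
  have h4 : l * k' * l⁻¹ ∈ 𝐍(Vu Z α u) := by
    rw [← h1, ← conj_norm]; exact conj_mem_conj l (zpowers_le.2 hn hk')
  have h5 : l * k' * l⁻¹ ∈ H := mul_mem (mul_mem hl (KH h2)) (inv_mem hl)
  have lE := h.m1.nE (sd.right_le hl).1
  obtain ⟨k₁, h6, h7⟩ := Fld.h90 h.loc.sing hp ⟨h.m1.nE (sd.right_le h5).1,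
    norm_K h hy y2 hV NV KH oH sd h5 h4⟩ (by rw [conj_pow, ← ho, pow_orderOf_eq_one]; simp)
    (by rw [← conj_of_mem_norm lE, ← conj_cent1, ← conj_inf, conj_eq_bot_iff]
        exact eq_bot_iff.2 fun e he => by_contra fun e1 =>
          h3 (h.loc.sing.free k' h2 e he.1 e1 (mem_cent1.1 he.2).symm))
  have h8 := inv_mul_eq_one.1 (eq_one h hy y2 hV NV KH oH sd (mul_mem (inv_mem (KH h6)) h5)
    (mul_mem (inv_mem (h.K_V h6)) h4) h7)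
  have h9 := conj_mem_of_mem_normalizer' lE
    (h.K_cent (h8 ▸ h6) (h1 ▸ conj_mem_conj l self_mem_Vu : l * w * l⁻¹ ∈ Vu Z α u))
  refine h.V_eq (h.inv_Y (h.mem_Y_of_K h2 h3 hR (h.Q_le_Y (h.E_le_Q ?_))) hw.uu) (h.m1.notE hw)
  convert h9 using 1; group

theorem norm_V (hg : g ∈ H) (hk : k ∈ K) (k1 : k ≠ 1) (h1 : g ∈ 𝐂[k]) : g ∈ 𝐍(Vu Z α u) := by
  have h2 := sd.right_le hg
  refine conj_eq_self_iff.1 ((h.m1.conj_Vu h2.1 u).trans (V_eq h hy y2 hV NV KH oH sd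
    (h.m1.uu_conj h.uu h2.1) (conj_mem_of_mem_normalizer h2.2 (h.V_le_R self_mem_Vu)) hk k1 ?_))
  have := conj_mem_conj g (h.K_V hk)
  rwa [conj_norm, h.m1.conj_Vu h2.1, mem_cent1.1 h1, mul_inv_cancel_right] at this

theorem false : False := by
  obtain ⟨k, hk, k1⟩ := h.exists_k
  obtain ⟨p, X, hp, XH, X1, nX, -, ab⟩ := exists_normal_abelem_le (M := H) le_normalizer
    (sol_of_odd oH) (ne_bot_of_mem (KH hk) k1)
  have uy : UU Z α y := h.m1.uu_of y2 hy.1 fun e => hV (mem_sup_left e)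
  have h1 : X ⊓ K = ⊥ := eq_bot_iff.2 fun k hk => by_contra fun k1 => by
    obtain ⟨l, hl, e⟩ := exists_l h hy y2 hV NV KH oH sd uy hy
    have h2 := conj_mem_of_mem_normalizer (nX hl) hk.1
    have h3 := norm_V h hy y2 hV NV KH oH sd (XH h2) hk.2 k1
      (mem_cent1.2 (mul_comm_of_comm ab.1 h2 hk.1))
    rw [← e, ← conj_norm, conj_mem_conj_iff] at h3
    exact hV (V_eq h hy y2 hV NV KH oH sd uy hy hk.2 k1 h3 ▸ self_mem_Vu)
  have KX := KH.trans nX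
  have h2 : SemiReg X K := fun k hk k1 => eq_bot_iff.2 fun x hx => by
    have h3 := norm_V h hy y2 hV NV KH oH sd (XH hx.1) hk k1 hx.2
    have h4 := norm_K h hy y2 hV NV KH oH sd (XH hx.1) h3
    exact h1 ▸ ⟨hx.1, mem_K h hy y2 hV NV KH oH sd (XH hx.1) h3 (mem_cent.2 fun l hl =>
      (commEl_eq_one_iff.1 (mem_bot.1 (h1 ▸ (⟨commEl_mem_left hx.1 (KX hl),
        B9.commEl_mem_right h4 hl⟩ : ⁅x, l⁆ ∈ X ⊓ K)))).symm)⟩
  have hH := sup_le XH KH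
  have oX := odd_of_le oH hH
  have sX := sol_of_comm ab.1
  have w1 := B3.wielandt KX h2 sX (M := Ea Z α) (hH.trans (sd.right_le.trans (inf_le_left.trans h.m1.nE)))
    (cop_two h.m1.sqE.two oX) (sol_of_pgroup Nat.prime_two h.m1.sqE.two)
  have e1 : Ea Z α ⊓ 𝐂(K) = ⊥ := eq_bot_iff.2 fun e he => by_contra fun e1 =>
    k1 (h.loc.sing.free k hk e he.1 e1 (mem_cent.1 he.2 k hk))
  rw [e1, le_bot_iff.1 (e1 ▸ inf_le_inf_left _ (cent_anti le_sup_right) :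
    Ea Z α ⊓ 𝐂(X ⊔ K) ≤ ⊥), card_bot, one_pow, one_mul, one_mul] at w1
  have EX : Ea Z α ≤ 𝐂(X) := inf_eq_left.1 (eq_of_le_of_card_le inf_le_left w1.le)
  have XE := le_cent_symm EX
  have w2 := B3.wielandt KX h2 sX (hH.trans sd.norm) (cop_two h.R_two oX)
    (sol_of_pgroup Nat.prime_two h.R_two)
  have e2 : Ru Z α u ⊓ 𝐂(X ⊔ K) = ⊥ := eq_bot_iff.2 fun s hs => by_contra fun s1 => X1 (by
    have h3 := cent_anti le_sup_right hs.2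
    have h4 := h.mem_Y_of_K hk k1 hs.1 (by rw [mem_cent.1 h3 k hk]; simp)
    have h5 := h.inv_Y h4 (mem_bot.1 (e1 ▸ ⟨h.sq_Y h4, mul_mem h3 h3⟩))
    exact eq_bot_iff.2 fun x hx => sd.disj ▸ ⟨Yu_le_Ru (h.mem_Y_of h5 (fun e => s1 (e1 ▸ ⟨e, h3⟩))
      (XE hx) (mem_cent.1 hs.2 x (mem_sup_left hx))), XH hx⟩)
  have h3 : #|Tu Ω u| ≤ #|Ru Z α u ⊓ 𝐂(K)| := card_le_of_le' (le_inf (le_sup_right.trans h.V_le_R)
    (le_cent_symm (h.K_le.trans (h.L_cent.trans (cent_anti inf_le_left)))))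
  have h4 : q ≤ #|Ru Z α u ⊓ 𝐂(X)| :=
    h.loc.cardE ▸ card_le_of_le' (le_inf (le_sup_left.trans h.V_le_R) EX)
  have h5 : 2 ≤ #|Tu Ω u| := (one_lt_card_iff_ne_bot _).2 (ne_bot_of_mem self_mem_Tu h.uu.ne)
  have h6 := card_modEq hp (abelem_pgroup ab) (XH.trans sd.norm)
  have cR := card_R h hy y2 hV
  have cK := h.loc.cardK
  rw [e2, card_bot, one_pow, one_mul, cR] at w2
  obtain ⟨rfl, h7, h8⟩ := arith h.loc.pow (h.loc.nd3 rfl) cK w2 h3 h4 h5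
  rw [cR, h7, h8] at h6
  have p2 : p ≠ 2 := B9.ne_two_of_odd hp (abelem_pgroup ab) (odd_of_le oH XH) X1
  have h9 : p = 127 := by
    rcases (Nat.Prime.dvd_mul hp).1 (show p ∣ 2 ^ 3 * 127 from (Nat.modEq_iff_dvd' (by norm_num)).1
      h6.symm) with d | d
    · exact (p2 ((Nat.prime_dvd_prime_iff_eq hp Nat.prime_two).1 (hp.dvd_of_dvd_pow d))).elim
    · exact (Nat.prime_dvd_prime_iff_eq hp (by norm_num)).1 d
  have c1 := card_conj (H := X ⊔ Ru Z α u) (x := u) fun _ => Iff.rfl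
  have c2 := card_le_of_le' (inf_le_inf_right 𝐂[u] (sup_le XE Ru_le) : (X ⊔ Ru Z α u) ⊓ 𝐂[u] ≤ Yu Z α u)
  have c3 : ({y | ∃ g ∈ X ⊔ Ru Z α u, g * u * g⁻¹ = y} : Set G).ncard ≤
      ((Ru Z α u : Set G) \ Q).ncard := Set.ncard_le_ncard (by
    rintro _ ⟨g, hg, rfl⟩
    have a := sup_le (XH.trans sd.right_le) sd.left_le hg
    have b := h.m1.uu_conj h.uu (show g • α = α from a.1)
    exact ⟨conj_mem_of_mem_normalizer a.2 (h.V_le_R self_mem_Vu), fun e => h.m1.notE b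
      (h.mem_EW e (h.loc.inv _ e (b.uu ▸ one_mem _)))⟩) (Set.toFinite _)
  rw [Set.ncard_sdiff (h.Q_le_Y.trans Yu_le_Ru)] at c3
  change _ ≤ #|Ru Z α u| - #|Q| at c3
  rw [cR, h.card_Q, h7] at c3
  rw [card_sup_of_disjoint (XH.trans sd.norm) (disjoint_iff.2 (le_bot_iff.1 (sd.disj ▸
    le_inf inf_le_right (inf_le_left.trans XH)))), cR, h7] at c1
  rw [h.card_Y, h7] at c2
  have c4 := Nat.le_of_dvd Nat.card_pos (h9 ▸ pgroup_dvd_card hp (abelem_pgroup ab) X1)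
  have := c1.le.trans (Nat.mul_le_mul c3 c2)
  omega

end

theorem no_b' (NV : 𝐂(Ea Z α) ⊓ 𝐍(Vu Z α u) = Ru Z α u) (hy : y ∈ Ru Z α u) (y2 : y * y = 1)
    (hV : y ∉ Vu Z α u) : False :=
  let ⟨_, h1, h2, h3⟩ := exists_H h hy y2 hV
  false h hy y2 hV NV h1 h2 h3

theorem no_b (hy : y ∈ Ru Z α u) (y2 : y * y = 1) (hV : y ∉ Vu Z α u) : False :=
  no_b' h h.NV hy y2 hV

end Cfsg.Agent.As.SZb
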