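import Cfsg.Agent.As.SZa
import Cfsg.Agent.As.SZb
import Cfsg.Agent.As.Cm3

/-! ZD, part 2: the case `Sz(q)`. -/

set_option autoImplicit false

namespace Cfsg.Agent.As.SZa

open Subgroup MulAction Cfsg.Agent.H1 Cfsg.Agent.L Cfsg.Agent.FT

variable {G Ω : Type} [Group G] [Finite G] [MulAction G Ω] {Z : Set G}
variable {α β : Ω} {u t : G} {Q K : Subgroup G} {q : ℕ}

theorem no_a [Be.BeI] [Cnt] [LocE] [c : Ctx Ω Z] (h : Cm Z α β u t Q K q 2)
    (hinv : ∀ y ∈ Ru Z α u, y * y = 1 → y ∈ Vu Z α u) : False := by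
  haveI := finΩ c.toRed
  obtain ⟨γ, h1, h2, h3⟩ := caseA h hinv (fun _ => h.iso_of_inv hinv) h.O_comm (by
    rw [← h.card_pts, add_comm]
    refine (Set.ncard_le_ncard (fun γ hγ => ?_) (Set.toFinite _)).trans (Set.ncard_insert_le α _)
    exact (em (γ = α)).imp_right fun e => ⟨e, hγ⟩)
  exact (h.fixK h3).elim h1 h2

instance instSZ [Be.BeI] [Cnt] [LocE] : SZ where
  no := fun {G Ω} _ _ _ {Z} c {q} m => by
    haveI := c.nontriv
    obtain ⟨α, β, hαβ⟩ := exists_pair_ne Ω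
    obtain ⟨u, u2, uZ, uC, -⟩ := m.ex α β hαβ
    obtain ⟨β', t, Q, K, h⟩ := m.cm (by decide) ⟨u2, uZ, uC⟩
    exact no_a h fun y hy y2 => by_contra fun hV => SZb.no_b' h h.NV hy y2 hV

end Cfsg.Agent.As.SZa
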