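import Cfsg.Agent.As.VE3

/-! ZD, part 2, slice VE: the instance. -/

set_option autoImplicit false
set_option maxHeartbeats 400000

namespace Cfsg.Agent.As.V5

open Subgroup MulAction Cfsg.Agent.H1 Cfsg.Agent.L Cfsg.Agent.FT
open Cfsg.Agent.Be (invs conj_smul_smul sq_of_two inv_of_two two_of_sq ne_one_of_two two_conj)
open Cfsg.Agent.Be.P1 (orb self_mem_orb smul_mem_orb orb_mono not_le_of_ne orb_finite)
open Cfsg.Agent.Sg (Sq)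
open scoped Pointwise commutatorElement

variable {G Ω : Type} [Group G] [MulAction G Ω] {Z : Set G}
variable {N E Q K Q' K' : Subgroup G} {α β β' γ : Ω} {t t' g e f s u v w x y z : G} {q j : ℕ}

local notation "St" => stabilizer G

variable [Finite G] [c : Ctx Ω Z] [Be.BeI] [Cnt] [LocE] [m : M2 Ω Z q j]
include m

theorem U1.tE (h : U1 Z α u) (he : e ∈ Ea Z α) : TT Ω (u * e) ≤ Ea Z α ⊔ TT Ω u := by
  by_cases h1 : e = 1
  · rw [h1, mul_one]; exact le_sup_right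
  obtain ⟨β, t, Q, K, l⟩ := h.lc
  rw [← h.mod, ← h.ker]
  exact le_inf (h.tE0 l he h1) ((h.Te_le he).trans inf_le_left)

theorem U1.V_eq (h : U1 Z α u) (he : e ∈ Ea Z α) :
    Ea Z α ⊔ TT Ω (u * e) = Ea Z α ⊔ TT Ω u := by
  refine le_antisymm (sup_le le_sup_left (h.tE he)) (sup_le le_sup_left ?_)
  simpa [mul_assoc, sqE α e he] using (h.mul he).tE he

theorem U1.mem_V (h : U1 Z α u) : x ∈ Ea Z α ⊔ TT Ω u ↔ ∃ e ∈ Ea Z α, ∃ w ∈ TT Ω u, e * w = x :=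
  H1.mem_sup_of_le_normalizer' (le_norm_of_le_cent (h.T_le.trans inf_le_right))

theorem exists_e (α : Ω) : ∃ e ∈ Ea Z α, e ≠ 1 := exists_mem_ne_one (Ea_ne_bot α)

theorem U1.graph (h : U1 Z α u) (he : e ∈ Ea Z α) (hw : w ∈ TT Ω u) :
    ∃ f ∈ Ea Z α, f * w ∈ TT Ω (u * e) := by
  obtain ⟨f, hf, x, hx, rfl⟩ := (h.mul he).mem_V.1 ((h.V_eq he).ge (mem_sup_right hw))
  exact ⟨f, hf, by rwa [← mul_assoc, sqE α f hf, one_mul]⟩

theorem U1.sqT (h : U1 Z α u) : Sq (TT Ω u) := fun w hw => by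
  obtain ⟨e, he, h1⟩ := exists_e (Z := Z) α
  obtain ⟨f, hf, h2⟩ := h.graph he hw
  refine (h.T_inf he h1).le ⟨mul_mem hw hw, ?_⟩
  have := mul_mem h2 h2
  rwa [mul_assoc, ← mul_assoc w, ← mem_cent.1 (h.T_le hw).2 f hf, mul_assoc, ← mul_assoc,
    sqE α f hf, one_mul] at this

theorem U1.sqV (h : U1 Z α u) : Sq (Ea Z α ⊔ TT Ω u) := fun x hx => by
  obtain ⟨e, he, w, hw, rfl⟩ := h.mem_V.1 hx
  rw [mul_assoc, ← mul_assoc w, ← mem_cent.1 (h.T_le hw).2 e he, mul_assoc, h.sqT w hw, mul_one,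
    sqE α e he]

theorem U1.of_T (h : U1 Z α u) (hv : v ∈ TT Ω u) (h1 : v ≠ 1) : U1 Z α v :=
  ⟨two_of_sq (h.sqT v hv) h1, fun e => h1 (h.E_inf.le ⟨mem_Ea e (mem_Wu.1 hv.1 α h.fix), hv.1⟩),
    h.WE hv.1⟩

theorem U1.cT (h : U1 Z α u) (hv : v ∈ TT Ω u) (h1 : v ≠ 1) : Wu Ω u ⊓ 𝐂[v] = TT Ω u := by
  refine le_antisymm (le_inf inf_le_left ?_) (le_inf inf_le_left (h.sqT.cent1 hv))
  have := (h.of_T hv h1).sqT
  rw [TT, h.W_eq hv.1 h1] at this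
  exact this.cent1 ⟨self_mem_Wu u, mem_cent1_comm.1 hv.2⟩

theorem U1.card_V (h : U1 Z α u) : #|Ea Z α ⊔ TT Ω u| = q * #|TT Ω u| := by
  rw [card_sup_of_disjoint (le_norm_of_le_cent (le_cent_symm (h.T_le.trans inf_le_right)))
    (disjoint_iff.2 (eq_bot_iff.2 (h.E_inf ▸ inf_le_inf_left _ inf_le_left))), m.cardE]

theorem U1.cardT (h : U1 Z α u) : #|TT Ω u| ≤ q := by
  obtain ⟨e, he, h1⟩ := exists_e (Z := Z) α
  have h2 := card_le_of_le' (sup_le (h.tE he) le_sup_right)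
  have h3 := (h.mul he).card_V
  rw [card_sup_of_disjoint (le_norm_of_le_cent (h.T_comm he h1))
    (disjoint_iff.2 ((inf_comm _ _).trans (h.T_inf he h1))), ← h.V_eq he, h3, mul_comm] at h2
  exact Nat.le_of_mul_le_mul_right h2 Nat.card_pos

theorem U1.cV (h : U1 Z α u) : 𝐂[u] ⊓ 𝐂(Ea Z α) ≤ 𝐂(TT Ω u) := fun g hg => mem_cent.2 fun w hw => by
  obtain ⟨e, he, h1⟩ := exists_e (Z := Z) α
  obtain ⟨f, hf, h2⟩ := h.graph he hw
  have h3 : w⁻¹ * (g * w * g⁻¹) = 1 := (h.T_inf he h1).le <| mem_inf.2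
    ⟨mul_mem (inv_mem hw) (conj_mem_of_mem_normalizer (norm_TT hg.1) hw), by
      have := mul_mem (inv_mem h2) (conj_mem_of_mem_normalizer (norm_TT (cent_mul he hg)) h2)
      rwa [← conj_mul, ← mem_cent.1 hg.2 f hf, mul_inv_cancel_right, mul_inv_rev, mul_assoc,
        inv_mul_cancel_left] at this⟩
  rw [inv_mul_eq_one, eq_mul_inv_iff_mul_eq] at h3
  exact h3

theorem U1.cov (h : U1 Z α u) (hv : v ∈ Ea Z α ⊔ TT Ω u) (h1 : v ∉ Ea Z α) :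
    ∃ e ∈ Ea Z α, v ∈ Wu Ω (u * e) := by
  obtain ⟨e', he', w, hw, rfl⟩ := h.mem_V.1 hv
  by_cases e1 : e' = 1
  · exact ⟨1, one_mem _, by simpa [e1] using hw.1⟩
  obtain ⟨β, t, Q, K, l⟩ := h.lc
  obtain ⟨f, hf, h2⟩ := h.graph he' hw
  have f1 : f ≠ 1 := fun e => h1 (by
    rw [e, one_mul] at h2
    rw [mem_bot.1 ((h.T_inf he' e1).le ⟨hw, h2⟩), mul_one]; exact he')
  obtain ⟨k, hk, h3⟩ := l.sing.tr f hf f1 e' he' e1
  have h4 := conj_mem_conj k h2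
  rw [h.conj_K l hk, ← conj_mul, h3, ← mem_cent.1 (KW l hk) w (h.ker ▸ hw.1),
    mul_inv_cancel_right] at h4
  exact ⟨_, conj_mem_of_mem_normalizer (l.sing.norm hk) he', h4.1⟩

theorem U1.Q_le' (h : U1 Z α u) (l : Loc Z 𝐍(Lu Z u) α β t (Ea Z α) Q K q j) (he : e ∈ Ea Z α)
    (l' : Loc Z 𝐍(Lu Z (u * e)) α β' t' (Ea Z α) Q' K' q j) :
    Q ≤ Q' ⊔ Ker 𝐍(Lu Z (u * e)) α := by
  have h' := h.mul he
  have hQ : Q ≤ 𝐂[u * e] ⊓ 𝐂(Ea Z α) := fun x hx => ⟨cent_mul he (h.Q_le l hx), l.QE hx⟩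
  by_cases hj : j = 3
  · obtain ⟨v, vL, v1, v2, v3, v4, p, n, hp, hp2, v5, -⟩ := l.v0 hj
    have v6 : Odd (orderOf v) := v5 ▸ (hp.odd_of_ne_two hp2).pow
    have vC : v ∈ 𝐂[u * e] := cent_mul he ⟨h.Lu_le l vL, v3⟩
    have := finΩ c.toRed
    obtain ⟨δ, hδ, h1⟩ := Be.P1.exists_fix (O := {γ : Ω | (u * e) • γ = γ} \ {α}) hp
      (U := zpowers v) (IsPGroup.of_card (by rw [Nat.card_zpowers, v5])) (Set.toFinite _)
      (fun x hx γ hγ => by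
        have h2 : x ∈ 𝐂[u * e] ⊓ St α := zpowers_le.2 (mem_inf.2 ⟨vC, v1⟩) hx
        refine ⟨?_, fun e => hγ.2 (smul_left_cancel x (e.trans h2.2.symm))⟩
        change (u * e) • x • γ = x • γ
        rw [← mul_smul, ← mem_cent1.1 h2.1, mul_smul, hγ.1]) (by
        rw [Set.ncard_diff_singleton_of_mem (show α ∈ {γ : Ω | (u * e) • γ = γ} from h'.fix),
          show {γ : Ω | (u * e) • γ = γ}.ncard = q ^ j + 1 from h'.fx l', Nat.add_sub_cancel]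
        obtain ⟨a, -, rfl⟩ := l.pow
        exact fun e => hp2 ((Nat.prime_dvd_prime_iff_eq hp Nat.prime_two).1
          (hp.dvd_of_dvd_pow (hp.dvd_of_dvd_pow e))))
    obtain ⟨t'', Q'', K'', -, l''⟩ := m.loc h' (Ne.symm hδ.2) hδ.1
    obtain rfl : Q'' = Q' := by ext x; rw [l''.memQ, l'.memQ]
    refine l''.le_of_v hj v (cent_le_N Ω _ vC) v1 (h1 (mem_zpowers v)) v3 v6 (fun h2 => v4 ?_) Q
      (le_inf (hQ.trans (h'.CB_le l')) l.QE) (pQ l) (normQ l ⟨ZZ_le vL, v1⟩)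
    have h3 := h'.sqT v ⟨h'.ker ▸ h2, vC⟩
    have : orderOf v = 1 := Nat.eq_one_of_dvd_coprimes (Nat.coprime_two_left.2 v6)
      (orderOf_dvd_of_pow_eq_one (by rw [pow_two, h3])) dvd_rfl
    rw [orderOf_eq_one_iff.1 this]
    exact one_mem _
  · intro x hx
    have h1 := h'.CB_le l' (hQ hx)
    obtain ⟨y, hy, h2⟩ := dec' l' hj h1.1 h1.2 (l.QE hx)
    simpa using mul_mem (mem_sup_left hy) (mem_sup_right h2 : _ ∈ Q' ⊔ _)

theorem U1.sqQ (h : U1 Z α u) (l : Loc Z 𝐍(Lu Z u) α β t (Ea Z α) Q K q j) (hx : x ∈ Q) :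
    x * x ∈ Ea Z α := by
  by_contra h1
  have xC := h.Q_le l hx
  obtain ⟨e, he, h2⟩ := h.cov (h.mod ▸ ⟨h.ker ▸ l.sq x hx, mul_mem xC.1 xC.1⟩) h1
  have h' := h.mul he
  obtain ⟨β', t', Q', K', l'⟩ := h'.lc
  obtain ⟨y, hy, w, hw, rfl⟩ := (H1.mem_sup_of_le_normalizer'
    (le_norm_of_le_cent (le_cent_symm (QW l')))).1 (h.Q_le' l he l' hx)
  rw [← h'.ker, mul_assoc, ← mul_assoc w, mem_cent.1 (QW l' hy) w hw, mul_assoc, ← mul_assoc,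
    mul_mem_cancel_right (mul_mem hw hw)] at h2
  have h3 : y * w ∈ Ea Z α ⊔ TT Ω (u * e) :=
    h'.mod ▸ ⟨h'.ker ▸ mul_mem (l'.inv y hy h2) (mem_sup_right hw), cent_mul he xC⟩
  exact h1 (h'.sqV _ h3 ▸ one_mem _)

theorem U1.qw (h : U1 Z α u) (l : Loc Z 𝐍(Lu Z u) α β t (Ea Z α) Q K q j) : Q ⊓ Wu Ω u = ⊥ :=
  eq_bot_iff.2 (h.E_inf ▸ le_inf (h.ker ▸ l.phi.trans
    (der_le_of_sq (le_norm_of_le_cent l.QE) fun _ hx => h.sqQ l hx)) inf_le_right)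

theorem U1.nY (h : U1 Z α u) (l : Loc Z 𝐍(Lu Z u) α β t (Ea Z α) Q K q j) (hs : s • α = α)
    (he : u⁻¹ * (s * u * s⁻¹) ∈ Ea Z α) :
    s ∈ 𝐍(Q ⊔ TT Ω u) ∧ s ∈ 𝐍(Ea Z α ⊔ TT Ω u) := by
  obtain ⟨e, h1⟩ : ∃ e, s * u * s⁻¹ = u * e := ⟨u⁻¹ * (s * u * s⁻¹), by simp⟩
  rw [h1, inv_mul_cancel_left] at he
  have h' := h.mul he
  obtain ⟨β', t', Q', K', l'⟩ := h'.lc
  have hT : s ⋆ TT Ω u = TT Ω (u * e) := by rw [conj_TT, h1]
  refine ⟨?_, conj_eq_self_iff.1 (by rw [conj_sup, conj_Ea, hs, hT, h.V_eq he])⟩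
  have hQ : Q' ≤ s ⋆ Q := fun x hx => by
    obtain ⟨h2, h3, n, h4⟩ := (l'.memQ x).1 hx
    rw [h'.zz, ← h1, ← conj_Lu Ω, mem_conj, ← h.zz] at h2
    refine mem_conj.2 ((l.memQ _).2 ⟨h2, ?_, n, ?_⟩)
    · exact (St α).mul_mem ((St α).mul_mem ((St α).inv_mem hs) h3) hs
    · simpa [h4] using conj_pow (i := 2 ^ n) (a := s⁻¹) (b := x)
  have h2 : Q ⊔ TT Ω u ≤ Q' ⊔ TT Ω (u * e) := by
    refine sup_le ?_ (le_sup_right.trans ((h.V_eq he).ge.trans (sup_le_sup_right (EQ l') _)))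
    rw [TT, ← sup_inf_modular ((h'.Q_le l').trans inf_le_left)
      (Or.inr (le_norm_of_le_cent (h'.ker ▸ QW l'))), ← h'.ker]
    exact le_inf (h.Q_le' l he l') fun x hx => cent_mul he (h.Q_le l hx)
  refine conj_eq_self_iff.1 (eq_of_le_of_card_le ?_ (card_conj _ _).le).symm
  rw [conj_sup, hT]
  exact h2.trans (sup_le_sup_right hQ _)

theorem U1.vs (h : U1 Z α u) (hne : α ≠ β) (h1 : u • β = β) : ∃ t Q K, VS Z α β u t Q K q j := by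
  obtain ⟨t, Q, K, tu, l⟩ := m.loc h hne h1
  exact ⟨t, Q, K, l, tu, h.zz, fun _ => h.orb, h.ker,
    fun w hw w1 => ⟨h.L_eq hw w1, h.W_eq hw w1, fun _ => h.fix_w hw w1⟩, h.sqT,
    fun _ => h.cT, h.cardT, h.cV, h.qw l, fun _ => h.tE, fun _ => h.cov, fun _ => h.cj,
    fun _ => h.nY l⟩

omit m in
instance instVE [Be.BeI] [Cnt] [LocE] : VE where
  ex := fun {G Ω} _ _ _ {Z} c {u α} u2 uZ h h' => by
    have := m0 u2 uZ h h'
    obtain ⟨q, j, m⟩ := m2 (Ω := Ω) (Z := Z)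
    exact ⟨q, j, m.memE, fun α β hne => let ⟨u, h, h1⟩ := m.ex α β hne; ⟨u, h.two, h.nZ, h.cE, h1⟩,
      fun α β u a b d e => ((⟨a, b, d⟩ : U1 Z α u).cls e).cE,
      fun α β u hne a b d e => (⟨a, b, d⟩ : U1 Z α u).vs hne e, m.card⟩

end Cfsg.Agent.As.V5
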