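import Cfsg.Agent.As.M
import Cfsg.Agent.As.Loc4
import Cfsg.Agent.As.SX
import Cfsg.Agent.As.Fld
import Cfsg.Agent.As.Det
import Cfsg.Agent.As.Num
import Cfsg.Agent.As.Q2b
import Cfsg.Agent.As.VE4
import Cfsg.Agent.As.U3
import Cfsg.Agent.As.SZ
import Cfsg.Agent.As.L1a
import Cfsg.Agent.Be.Main

/-! Aschbacher's criterion for strong embedding (Theorem ZD): assembly. -/

set_option autoImplicit false

namespace Cfsg.Agent.As

instance instZD : ZD := zdOfPart2

instance instZA : ZA := zaOfZd

end Cfsg.Agent.As
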