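import Cfsg.Agent.As.A5
import Cfsg.Agent.Sg.Gen

/-! Interface for ZD, part 2 (see notes/zd2.md): the slices and their assembly. -/

set_option autoImplicit false

namespace Cfsg.Agent.As

open Subgroup MulAction Cfsg.Agent.H1 Cfsg.Agent.L Cfsg.Agent.FT
open Cfsg.Agent.Be (invs)
open Cfsg.Agent.Be.P1 (orb)
open Cfsg.Agent.Sg (Sq)
open scoped Pointwise commutatorElement

section Defs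
variable {G Ω : Type} [Group G] [MulAction G Ω]

local notation "St" => stabilizer G

/-- `K` is abelian and regular on the nonidentity elements of the elementary abelian group `E` -/
structure Sing (E K : Subgroup G) : Prop where
  sq : Sq E
  ne : E ≠ ⊥
  norm : K ≤ 𝐍(E)
  comm : K ≤ 𝐂(K)
  tr : ∀ e ∈ E, e ≠ 1 → ∀ e' ∈ E, e' ≠ 1 → ∃ k ∈ K, k * e * k⁻¹ = e'
  free : ∀ k ∈ K, ∀ e ∈ E, e ≠ 1 → k * e = e * k → k = 1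

/-- a subgroup `N` of Bender type, described inside `G`; `L = ZZ Z N`, `W = Ker N α` -/
structure Loc (Z : Set G) (N : Subgroup G) (α β : Ω) (t : G) (E Q K : Subgroup G) (q j : ℕ) :
    Prop where
  bt : BT Z N α
  tZ : t ∈ Z
  tN : t ∈ N
  tα : t • α = β
  ne : α ≠ β
  memE : ∀ x, x ∈ E ↔ x = 1 ∨ (x ∈ Z ∧ x ∈ N ∧ x • α = α)
  cardE : #|E| = q
  pow : ∃ a, 2 ≤ a ∧ q = 2 ^ a
  memK : ∀ k, k ∈ K ↔ k ∈ N ∧ k ∈ invs (core {2}ᶜ (St α ⊓ St β)) t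
  sing : Sing E K
  cyc : IsCyclic K
  cardK : #|K| + 1 = q
  KL : K ≤ ZZ Z N
  nK : N ⊓ (St α ⊓ St β) ≤ 𝐍(K)
  cent : ZZ Z N ≤ 𝐂(Ker N α)
  memQ : ∀ x, x ∈ Q ↔ x ∈ ZZ Z N ∧ x • α = α ∧ ∃ n, x ^ 2 ^ n = 1
  QE : Q ≤ 𝐂(E)
  tr : ∀ γ ∈ orb N α, γ ≠ α → ∃ x ∈ Q, x • β = γ
  free : ∀ x ∈ Q, ∀ γ ∈ orb N α, γ ≠ α → x • γ = γ → x ∈ Ker N α
  jj : j = 1 ∨ j = 2 ∨ j = 3
  card : (orb N α).ncard = q ^ j + 1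
  cardQ : #|Q| = q ^ j * #|Q ⊓ Ker N α|
  sq : ∀ x ∈ Q, x * x ∈ E ⊔ Ker N α
  inv : ∀ x ∈ Q, x * x ∈ Ker N α → x ∈ E ⊔ Ker N α
  phi : Q ⊓ Ker N α ≤ ⁅Q, Q⁆
  fpf : ∀ k ∈ K, k ≠ 1 → ∀ x ∈ Q, ⁅x, k⁆ ∈ E ⊔ Ker N α → x ∈ E ⊔ Ker N α
  three : j ≠ 2 ↔ ∃ s ∈ E, s ≠ 1 ∧ (s * t) ^ 3 = 1
  nd3 : j = 2 → ¬ 3 ∣ q - 1
  nab : j ≠ 1 → ¬ ⁅Q, Q⁆ ≤ Ker N α
  odd : ∀ d ∈ ZZ Z N, d • α = α → d • β = β → d * d ∈ Ker N α → d ∈ Ker N α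
  a1 : ∀ g ∈ N, g • α = α → g • β = β → g ∈ 𝐂(E) → g ∈ 𝐂[t] ∧ g ∈ 𝐂(K)
  a2 : ∀ g ∈ N, g • α = α → g • β = β → g ∈ 𝐂(E) → ∀ x ∈ Q, ⁅x, g⁆ ∈ Ker N α →
    x ∈ E ⊔ Ker N α ∨ g ∈ Ker N α
  a3 : ∀ g ∈ N, g • α = α → g • β = β → g ∈ 𝐂(E) → (∀ x ∈ Q, ⁅x, g⁆ ∈ E ⊔ Ker N α) → g ∈ Ker N α
  a4 : j ≠ 3 → ∀ g ∈ N, g • α = α → g • β = β → g ∈ 𝐂(E) → g ∈ Ker N α
  v0 : j = 3 → ∃ v ∈ ZZ Z N, v • α = α ∧ v • β = β ∧ v ∈ 𝐂(E) ∧ v ∉ Ker N α ∧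
    ∃ p n : ℕ, p.Prime ∧ p ≠ 2 ∧ orderOf v = p ^ n ∧ v ^ p ∈ Ker N α
  pdvd : j = 3 → ∀ a ∈ Z, ∀ b ∈ Z, a ∈ N → b ∈ N → ∀ p : ℕ, p.Prime → p ≠ 2 →
    p ∣ orderOf (a * b) → p ∣ q ^ 2 - 1
  /-- irreducibility of `K⟨v⟩` on `Q / E (Q ∩ W)` -/
  irr : j = 3 → ∀ v ∈ N, v • α = α → v • β = β → v ∈ 𝐂(E) → Odd (orderOf v) → v ∉ Ker N α →
    ∀ X ≤ Q, K ≤ 𝐍(X) → v ∈ 𝐍(X) → X ≤ E ⊔ Ker N α ∨ Q ≤ X ⊔ E ⊔ Ker N α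
  /-- a `2`-subgroup of `C(E)` normalised by such a `v` is inner -/
  le_of_v : j = 3 → ∀ v ∈ N, v • α = α → v • β = β → v ∈ 𝐂(E) → Odd (orderOf v) → v ∉ Ker N α →
    ∀ X ≤ N ⊓ St α ⊓ 𝐂(E), IsPGroup 2 X → v ∈ 𝐍(X) → X ≤ Q ⊔ Ker N α
  /-- `2`-subgroups of `C(E)` fixing `α, β` induce a group of order at most `2` -/
  phi2 : ∀ X ≤ N ⊓ (St α ⊓ St β) ⊓ 𝐂(E), IsPGroup 2 X → #|X| ≤ 2 * #|X ⊓ Ker N α|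
  /-- `K` is transitive on the nonidentity elements of a section of order `q` -/
  trq : ∀ X Y : Subgroup G, Q ⊓ Ker N α ≤ X → X ≤ Y → Y ≤ Q → K ≤ 𝐍(X) → K ≤ 𝐍(Y) →
    (∃ i, #|Y| = q ^ i * #|X|) ∧ (#|Y| = q * #|X| → ∀ y ∈ Y, y ∉ X → ∀ z ∈ Y, z ∉ X →
      ∃ k ∈ K, k * y * k⁻¹ * z⁻¹ ∈ X)

/-- `⟨Z_α⟩` -/
def Ea (Z : Set G) (α : Ω) : Subgroup G := closure (II Z α)

/-- `⟨Z ∩ C(u)⟩` -/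
def Lu (Z : Set G) (u : G) : Subgroup G := ZZ Z 𝐂[u]

/-- the pointwise stabiliser of the fixed points of `u` -/
def Wu (Ω : Type) [MulAction G Ω] (u : G) : Subgroup G := fixingSubgroup G {γ : Ω | u • γ = γ}

theorem mem_Wu {u g : G} : g ∈ Wu Ω u ↔ ∀ γ : Ω, u • γ = γ → g • γ = γ := mem_fixingSubgroup_iff G

/-- the structure around an involution `u ∈ C(E) ∖ E`, `E = Ea Z α`; `T = Wu Ω u ⊓ 𝐂[u]`,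
`V = E ⊔ T`, `Y = Q ⊔ T` -/
structure VS (Z : Set G) (α β : Ω) (u t : G) (Q K : Subgroup G) (q j : ℕ) : Prop where
  loc : Loc Z 𝐍(Lu Z u) α β t (Ea Z α) Q K q j
  tu : t ∈ 𝐂[u]
  zz : ZZ Z 𝐍(Lu Z u) = Lu Z u
  orb : ∀ γ, γ ∈ orb 𝐍(Lu Z u) α ↔ u • γ = γ
  ker : Ker 𝐍(Lu Z u) α = Wu Ω u
  ti : ∀ w ∈ Wu Ω u, w ≠ 1 → Lu Z w = Lu Z u ∧ Wu Ω w = Wu Ω u ∧ ∀ γ : Ω, w • γ = γ → u • γ = γ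
  sq : Sq (Wu Ω u ⊓ 𝐂[u])
  cT : ∀ v ∈ Wu Ω u ⊓ 𝐂[u], v ≠ 1 → Wu Ω u ⊓ 𝐂[v] = Wu Ω u ⊓ 𝐂[u]
  cardT : #|Wu Ω u ⊓ 𝐂[u]| ≤ q
  cV : 𝐂[u] ⊓ 𝐂(Ea Z α) ≤ 𝐂(Wu Ω u ⊓ 𝐂[u])
  qw : Q ⊓ Wu Ω u = ⊥
  tE : ∀ e ∈ Ea Z α, Wu Ω (u * e) ⊓ 𝐂[u * e] ≤ Ea Z α ⊔ Wu Ω u ⊓ 𝐂[u]
  cov : ∀ v ∈ Ea Z α ⊔ Wu Ω u ⊓ 𝐂[u], v ∉ Ea Z α → ∃ e ∈ Ea Z α, v ∈ Wu Ω (u * e)
  cj : ∀ e ∈ Ea Z α, ∃ s : G, s • α = α ∧ s * u * s⁻¹ = u * e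
  nY : ∀ s : G, s • α = α → u⁻¹ * (s * u * s⁻¹) ∈ Ea Z α →
    s ∈ 𝐍(Q ⊔ Wu Ω u ⊓ 𝐂[u]) ∧ s ∈ 𝐍(Ea Z α ⊔ Wu Ω u ⊓ 𝐂[u])

/-- the case `m = 1` -/
structure M1 (Ω : Type) [MulAction G Ω] (Z : Set G) (q j : ℕ) : Prop where
  memE : ∀ (α : Ω) (x : G), x ∈ Ea Z α ↔ x = 1 ∨ (x ∈ Z ∧ x • α = α)
  ex : ∀ α β : Ω, α ≠ β → ∃ u : G, orderOf u = 2 ∧ u ∉ Z ∧ u ∈ 𝐂(Ea Z α) ∧ u • β = β
  cls : ∀ (α β : Ω) (u : G), orderOf u = 2 → u ∉ Z → u ∈ 𝐂(Ea Z α) → u • β = β → u ∈ 𝐂(Ea Z β)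
  vs : ∀ (α β : Ω) (u : G), α ≠ β → orderOf u = 2 → u ∉ Z → u ∈ 𝐂(Ea Z α) → u • β = β →
    ∃ t Q K, VS Z α β u t Q K q j
  card : Nat.card Ω = 1 + q ^ j * (1 + (q ^ j + 1) * (q - 1))

/-- the number of fixed points -/
noncomputable def fx (Ω : Type) [MulAction G Ω] (u : G) : ℕ := {γ : Ω | u • γ = γ}.ncard

end Defs

/-- slice: three facts on simple rank one groups -/
class SysX : Prop where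
  v0 : ∀ {G : Type} [Group G] [Finite G] [IsSimpleGroup G] (S : Sz.Sys G), #|S.Q| = S.q ^ 3 →
    ∃ v ∈ S.V, v ≠ 1 ∧ v ∈ 𝐂(S.Q0)
  nab : ∀ {G : Type} [Group G] [Finite G] [IsSimpleGroup G] (S : Sz.Sys G), #|S.Q| = S.q ^ 2 →
    ¬ S.Q ≤ 𝐂(S.Q)
  pdvd : ∀ {G : Type} [Group G] [Finite G] [IsSimpleGroup G] (S : Sz.Sys G), #|S.Q| = S.q ^ 3 →
    ∀ a b : G, a * a = 1 → b * b = 1 → ∀ p : ℕ, p.Prime → p ≠ 2 → p ∣ orderOf (a * b) →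
      p ∣ S.q ^ 2 - 1

/-- slice: Singer cycles -/
class Fld : Prop where
  cyc : ∀ {G : Type} [Group G] [Finite G] {E K : Subgroup G}, Sing E K → IsCyclic K
  gal : ∀ {G : Type} [Group G] [Finite G] {E K P : Subgroup G} {e : G}, Sing E K → e ∈ E → e ≠ 1 →
    P ≤ 𝐍(E) ⊓ 𝐍(K) ⊓ 𝐂[e] → ∃ g ∈ P, ∀ x ∈ P, ∃ n : ℕ, x * (g ^ n)⁻¹ ∈ 𝐂(E)
  h90 : ∀ {G : Type} [Group G] [Finite G] {E K : Subgroup G} {g : G} {l : ℕ}, Sing E K → l.Prime →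
    g ∈ 𝐍(E) ⊓ 𝐍(K) → g ^ l ∈ 𝐂(E) → E ⊓ 𝐂[g] = ⊥ → ∃ k ∈ K, k⁻¹ * g ∈ 𝐂(E)
  fix : ∀ {G : Type} [Group G] [Finite G] {E K : Subgroup G} {e g : G} {l : ℕ}, Sing E K → e ∈ E →
    e ≠ 1 → l.Prime → g ∈ 𝐍(E) ⊓ 𝐍(K) ⊓ 𝐂[e] → g ^ l ∈ 𝐂(E) → g ∉ 𝐂(E) →
      #|E| = #|E ⊓ 𝐂[g]| ^ l ∧ #|K ⊓ 𝐂[g]| + 1 = #|E ⊓ 𝐂[g]|

/-- slice: the Brauer-Wielandt formula -/
class BW : Prop where
  bw : ∀ {G : Type} [Group G] [Finite G] {X : Subgroup G} {a b : G}, Odd #|X| → a ∈ 𝐍(X) →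
    b ∈ 𝐍(X) → a * a = 1 → b * b = 1 → a * b = b * a →
    #|X| * #|X ⊓ 𝐂[a] ⊓ 𝐂[b]| ^ 2 = #|X ⊓ 𝐂[a]| * #|X ⊓ 𝐂[b]| * #|X ⊓ 𝐂[a * b]|

/-- slice: the determinant on a homocyclic group of exponent `4` and odd rank -/
class Det : Prop where
  det : ∀ {G : Type} [Group G] [Finite G] {Y E M : Subgroup G} {a : ℕ}, Y ≤ 𝐂(Y) →
    (∀ y, y ∈ E ↔ y ∈ Y ∧ y * y = 1) → (∀ y ∈ Y, y * y ∈ E) → #|E| = 2 ^ a → #|Y| = 4 ^ a → Odd a →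
    M ≤ 𝐍(Y) → ∃ M₀ : Subgroup G, M₀ ≤ M ∧ ⁅M, M⁆ ≤ M₀ ∧ M ⊓ 𝐂(Y) ≤ M₀ ∧
      ∀ u ∈ M, (∀ y ∈ Y, u * y * u⁻¹ = y⁻¹) → u ∉ M₀

/-- slice: existence of the local data -/
class LocE : Prop where
  ex : ∀ {G Ω : Type} [Group G] [Finite G] [MulAction G Ω] {Z : Set G} [Ctx Ω Z] {N : Subgroup G}
    {α β : Ω} {t : G}, BT Z N α → t ∈ Z → t ∈ N → t • α = β → α ≠ β →
    ∃ E Q K q j, Loc Z N α β t E Q K q j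

/-- slice: involutions outside `Z`, counting -/
class Cnt : Prop where
  fix1 : ∀ {G Ω : Type} [Group G] [Finite G] [MulAction G Ω] {Z : Set G} [Ctx Ω Z]
    {X : Subgroup G}, IsPGroup 2 X → ∃ α : Ω, X ≤ stabilizer G α
  fix2 : ∀ {G Ω : Type} [Group G] [Finite G] [MulAction G Ω] {Z : Set G} [Ctx Ω Z] {u : G} {α : Ω},
    orderOf u = 2 → u ∉ Z → u • α = α → ∃ β, β ≠ α ∧ u • β = β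
  swap : ∀ {G Ω : Type} [Group G] [Finite G] [MulAction G Ω] {Z : Set G} [Ctx Ω Z] {u : G}
    {α β : Ω}, u * u = 1 → u • α = α → u • β = β → α ≠ β → ∃ t ∈ Z, t ∈ 𝐂[u] ∧ t • α = β
  cnt : ∀ {G Ω : Type} [Group G] [Finite G] [MulAction G Ω] {Z : Set G} [Ctx Ω Z] {u e : G} {α : Ω},
    orderOf u = 2 → u ∉ Z → u • α = α → e ∈ II Z α ∩ 𝐂[u] →
    (II Z α ∩ 𝐂[u * e]).ncard = (II Z α ∩ 𝐂[u]).ncard ∧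
    ∃ m, (II Z α).ncard = m * (II Z α ∩ 𝐂[u]).ncard ∧
      m * Nat.card Ω + fx Ω u * (II Z α ∩ 𝐂[u]).ncard =
        m * fx Ω u + fx Ω u * fx Ω (u * e) * (II Z α ∩ 𝐂[u]).ncard ∧
      ∀ p : ℕ, p.Prime → p ∣ m → ∃ a ∈ Z, ∃ b ∈ Z, a ∈ 𝐂[u] ∧ b ∈ 𝐂[u] ∧ p ∣ orderOf (a * b)
  fixK : ∀ {G Ω : Type} [Group G] [Finite G] [MulAction G Ω] {Z : Set G} [Ctx Ω Z] {t : G}
    {α β γ : Ω} {p : ℕ} {P : Subgroup G}, p.Prime → p ∣ (II Z α).ncard → t ∈ Z → t • α = β →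
    α ≠ β → IsSylowIn p P (stabilizer G α ⊓ stabilizer G β) → t ∈ 𝐍(P) →
    (∀ k ∈ invs P t, k • γ = γ) → γ = α ∨ γ = β
  modp : ∀ {G Ω : Type} [Group G] [Finite G] [MulAction G Ω] {Z : Set G} [Ctx Ω Z] {α : Ω} {p : ℕ},
    p.Prime → p ∣ (II Z α).ncard → Nat.card Ω ≡ 2 [MOD p]

/-- slice: the trichotomy -/
class Num : Prop where
  tri : ∀ {G Ω : Type} [Group G] [Finite G] [MulAction G Ω] {Z : Set G} [Ctx Ω Z],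
    (∀ (u : G) (α : Ω), orderOf u = 2 → u ∉ Z → u • α = α → (II Z α ∩ 𝐂[u]).ncard = 1) ∨
    (∃ a, Nat.card Ω = 2 ^ a + 1 ∧ ∀ α : Ω, (II Z α).ncard + 1 = 2 ^ a) ∨
    ∃ (u : G) (α : Ω), orderOf u = 2 ∧ u ∉ Z ∧ u • α = α ∧ II Z α ⊆ 𝐂[u]

/-- slice: all `q_u = 2` -/
class Q2 : Prop where
  no : ∀ {G Ω : Type} [Group G] [Finite G] [MulAction G Ω] {Z : Set G} [Ctx Ω Z],
    (∀ (u : G) (α : Ω), orderOf u = 2 → u ∉ Z → u • α = α → (II Z α ∩ 𝐂[u]).ncard = 1) →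
    ∀ u : G, orderOf u = 2 → u ∈ Z

/-- slice: `Z_α ∪ 1` is regular on the other points -/
class Reg : Prop where
  no : ∀ {G Ω : Type} [Group G] [Finite G] [MulAction G Ω] {Z : Set G} [Ctx Ω Z] {a : ℕ},
    Nat.card Ω = 2 ^ a + 1 → (∀ α : Ω, (II Z α).ncard + 1 = 2 ^ a) → ∀ u : G, orderOf u = 2 → u ∈ Z

/-- slice: the structure in the case `m = 1` -/
class VE : Prop where
  ex : ∀ {G Ω : Type} [Group G] [Finite G] [MulAction G Ω] {Z : Set G} [Ctx Ω Z] {u : G} {α : Ω},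
    orderOf u = 2 → u ∉ Z → u • α = α → II Z α ⊆ 𝐂[u] → ∃ q j, M1 Ω Z q j

/-- slice: type `L₂(q)` -/
class L1 : Prop where
  no : ∀ {G Ω : Type} [Group G] [Finite G] [MulAction G Ω] {Z : Set G} [Ctx Ω Z] {q : ℕ},
    ¬ M1 Ω Z q 1

/-- slice: type `Sz(q)` -/
class SZ : Prop where
  no : ∀ {G Ω : Type} [Group G] [Finite G] [MulAction G Ω] {Z : Set G} [Ctx Ω Z] {q : ℕ},
    ¬ M1 Ω Z q 2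

/-- slice: type `U₃(q)` -/
class U3 : Prop where
  no : ∀ {G Ω : Type} [Group G] [Finite G] [MulAction G Ω] {Z : Set G} [Ctx Ω Z] {q : ℕ},
    ¬ M1 Ω Z q 3

instance instPart2 [Num] [Q2] [Reg] [VE] [L1] [SZ] [U3] : Part2 where
  fix := fun {G Ω} _ _ _ {Z} c {u α β} u2 h1 h2 => by
    refine fix_unique (Z := Z) ?_ h1 h2
    rcases Num.tri (Ω := Ω) (Z := Z) with h | ⟨a, h, h'⟩ | ⟨w, γ, w2, wZ, h, h'⟩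
    · exact Q2.no h u u2
    · exact Reg.no h h' u u2
    obtain ⟨q, j, m⟩ := VE.ex w2 wZ h h'
    have := c.nontriv
    obtain ⟨δ, hδ⟩ := exists_ne γ
    obtain ⟨v, v2, vZ, h3, h4⟩ := m.ex γ δ hδ.symm
    obtain ⟨t, Q, K, s⟩ := m.vs γ δ v hδ.symm v2 vZ h3 h4
    rcases s.loc.jj with rfl | rfl | rfl
    exacts [(L1.no m).elim, (SZ.no m).elim, (U3.no m).elim]

end Cfsg.Agent.As
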