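import Cfsg.Agent.As.Rg
import Cfsg.Agent.As.Y
import Cfsg.Agent.GW.Bar

/-! ZD, part 2: the slice `Q2` (notes/zd2.md), numerical part. -/

set_option autoImplicit false
set_option maxHeartbeats 400000

namespace Cfsg.Agent.As.Q2

open Subgroup MulAction Cfsg.Agent.H1 Cfsg.Agent.L Cfsg.Agent.FT Cfsg.Agent.FT.B1
open Cfsg.Agent.Be (invs odd_orderOf_of_mem conj_smul_smul odd_core sq_of_two inv_of_two
  ne_one_of_two two_of_sq two_conj)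
open Cfsg.Agent.Be.P1 (orb swap_norm pgroup_zpowers' ncard_orb)
open scoped Pointwise commutatorElement

variable {G Ω : Type} [Group G] [Finite G] [MulAction G Ω] {Z : Set G}
variable {a b t u w z : G} {α β γ : Ω} {P : Subgroup G} {p : ℕ}

local notation "St" => stabilizer G

variable (Ω Z) in
/-- all `q_u` are `2` -/
def HQ : Prop :=
  ∀ (u : G) (α : Ω), orderOf u = 2 → u ∉ Z → u • α = α → (II Z α ∩ 𝐂[u]).ncard = 1

theorem gen4 {X H : Subgroup G} (a2 : orderOf a = 2) (b2 : orderOf b = 2) (hne : a ≠ b)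
    (hc : a * b = b * a) (o : Odd #|X|) (ha : a ∈ 𝐍(X)) (hb : b ∈ 𝐍(X)) (h1 : X ⊓ 𝐂[a] ≤ H)
    (h2 : X ⊓ 𝐂[b] ≤ H) (h3 : X ⊓ 𝐂[a * b] ≤ H) : X ≤ H :=
  GW.gen_four ⟨ne_one_of_two a2, sq_of_two a2⟩ ⟨ne_one_of_two b2, sq_of_two b2⟩ hne hc o ha hb h1 h2 h3

theorem two_mul' (a2 : orderOf a = 2) (b2 : orderOf b = 2) (hne : a ≠ b) (hc : a * b = b * a) :
    orderOf (a * b) = 2 :=
  two_of_sq (by rw [mul_assoc, ← mul_assoc b, ← hc, mul_assoc, sq_of_two b2, mul_one, sq_of_two a2])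
    fun e => hne (by rw [eq_inv_of_mul_eq_one_left e, inv_of_two b2])

variable [c : Ctx Ω Z]

omit [Finite G] in
theorem notZ (h1 : u • α = α) (h2 : u • β = β) (hne : α ≠ β) : u ∉ Z :=
  fun h => hne (fix_unique h h1 h2)

variable (hq : HQ Ω Z)
include hq

omit c in
theorem uniq (u2 : orderOf u = 2) (hu : u ∉ Z) (h : u • α = α) (ha : a ∈ II Z α) (hb : b ∈ II Z α)
    (h1 : a ∈ 𝐂[u]) (h2 : b ∈ 𝐂[u]) : a = b :=
  (Set.ncard_le_one (Set.toFinite _)).1 (hq u α u2 hu h).le a ⟨ha, h1⟩ b ⟨hb, h2⟩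

theorem cent_le (u2 : orderOf u = 2) (hu : u ∉ Z) (h : u • α = α) (hz : z ∈ II Z α)
    (h1 : z ∈ 𝐂[u]) : 𝐂[u] ⊓ St α ≤ 𝐂[z] := fun _ hx => mem_cent1.2 (mul_inv_eq_iff_eq_mul.1
  (uniq hq u2 hu h (Rg.conj_II hx.2 hz) hz (mul_mem (mul_mem hx.1 h1) (inv_mem hx.1)) h1))

theorem no_four (hne : α ≠ β) (u2 : orderOf u = 2) (w2 : orderOf w = 2) (hu : u ∈ St α ⊓ St β)
    (hw : w ∈ St α ⊓ St β) (hc : u * w = w * u) : u = w := by
  by_contra h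
  have hp : IsPGroup 2 (zpowers u ⊔ zpowers w : Subgroup G) :=
    pgroup_sup (pgroup_zpowers' u2) (pgroup_zpowers' w2)
      (.inl (le_norm_zpowers_of_cent (zpowers_le.2 (mem_cent1.2 hc))))
  obtain ⟨s, hs, s1, s2⟩ := exists_cent c.toRed hp (sup_le (zpowers_le.2 hu.1) (zpowers_le.2 hw.1))
  have hO := core_normal {2}ᶜ (St α ⊓ St β)
  have key : ∀ v ∈ St α ⊓ St β, orderOf v = 2 → v ∈ zpowers u ⊔ zpowers w →
      core {2}ᶜ (St α ⊓ St β) ⊓ 𝐂[v] ≤ 𝐂[s] := fun v hv v2 hv' x hx =>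
    cent_le hq v2 (notZ hv.1 hv.2 hne) hv.1 ⟨hs, s1⟩ (mem_cent1.2 (mem_cent.1 s2 v hv').symm)
      ⟨hx.2, (hO.le hx.1).1⟩
  have m1 : u ∈ zpowers u ⊔ zpowers w := mem_sup_left (mem_zpowers u)
  have m2 : w ∈ zpowers u ⊔ zpowers w := mem_sup_right (mem_zpowers w)
  have h1 := gen4 u2 w2 h hc (odd_core _) (hO.norm hu) (hO.norm hw) (key u hu u2 m1) (key w hw w2 m2)
    (key _ (mul_mem hu hw) (two_mul' u2 w2 h hc) (mul_mem m1 m2))
  obtain ⟨t, ht, t1, -⟩ := exists_swap_top c.toRed hne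
  obtain ⟨b, hb, e⟩ := Set.exists_ne_of_one_lt_ncard (one_lt_ncard_II (Z := Z) α) s
  obtain ⟨k, hk, rfl, -⟩ := exists_invs_conj ht t1 hne hs s1 hb.1 hb.2
  exact e (by rw [mem_cent1.1 (h1 hk.1), mul_inv_cancel_right])

theorem eq_of_mem (hne : α ≠ β) (hP : IsPGroup 2 P) (hl : P ≤ St α ⊓ St β) (u2 : orderOf u = 2)
    (w2 : orderOf w = 2) (hu : u ∈ P) (hw : w ∈ P) : u = w := by
  obtain ⟨z, hz, z2⟩ := exists_mem_orderOf_eq Nat.prime_two (pgroup_dvd_card Nat.prime_two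
    (hP.to_le inf_le_left) (inf_cent_ne_bot_of_pgroup Nat.prime_two hP hP le_normalizer
      (ne_bot_of_mem hu (ne_one_of_two u2))))
  rw [no_four hq hne u2 z2 (hl hu) (hl hz.1) (mem_cent.1 hz.2 u hu),
    no_four hq hne w2 z2 (hl hw) (hl hz.1) (mem_cent.1 hz.2 w hw)]

theorem conjD (hne : α ≠ β) (u2 : orderOf u = 2) (w2 : orderOf w = 2) (hu : u ∈ St α ⊓ St β)
    (hw : w ∈ St α ⊓ St β) : ∃ d ∈ St α ⊓ St β, d * u * d⁻¹ = w := by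
  haveI := Fact.mk Nat.prime_two
  obtain ⟨P, hP, l⟩ := exists_isSylowIn_ge (pgroup_zpowers' w2) (zpowers_le.2 hw)
  obtain ⟨d, hd, e⟩ := hP.exists_conj_mem (pgroup_zpowers' u2) (zpowers_le.2 hu)
  exact ⟨d, hd, eq_of_mem hq hne hP.isPGroup hP.le (two_conj u2 d) w2 (e u (mem_zpowers u))
    (l (mem_zpowers w))⟩

/-- all swaps of `γ, u γ` commute with `u` -/
theorem swap_comm (u2 : orderOf u = 2) (hu : u ∉ Z) (hγ : u • γ ≠ γ) (ht : t ∈ Z)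
    (h1 : t • γ = u • γ) : t ∈ 𝐂[u] := by
  have uu := sq_of_two u2
  have tt := zsq (Ω := Ω) ht
  have h2 : t • u • γ = γ := h1 ▸ zsmul ht γ
  have uγ : u • u • γ = γ := by rw [smul_smul, uu, one_smul]
  have ht' : u * t * u ∈ Z := by simpa [inv_of_two u2] using c.conj t ht u
  have ho := odd_swap ht ht' hγ.symm h1 (by rw [mul_smul, mul_smul, h2])
  obtain ⟨k, hk, c1, c2, vv⟩ := Y.exists_mid uu tt ho
  have kD : k ∈ St γ ⊓ St (u • γ) := zpowers_le.2 (show t * (u * t * u) ∈ St γ ⊓ St (u • γ) from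
    ⟨show _ • γ = γ by rw [mul_smul, mul_smul, mul_smul, h2, h2],
      show _ • u • γ = u • γ by rw [mul_smul, mul_smul, mul_smul, uγ, h1, uγ, h1]⟩) hk
  have ok : Odd (orderOf k) := ho.of_dvd_nat (orderOf_dvd_of_mem_zpowers hk)
  have ik : t * k * t = k⁻¹ := eq_inv_of_mul_eq_one_right (by simpa [mul_assoc] using vv)
  have w1 : (u * (k * t)) • γ = γ := by
    rw [mul_smul, mul_smul, h1, show k • u • γ = u • γ from kD.2, uγ]
  have w2 : (u * (k * t)) • u • γ = u • γ := by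
    rw [mul_smul, mul_smul, h2, show k • γ = γ from kD.1]
  have vZ : k * t ∈ Z := by
    simpa [zinv (Ω := Ω) ht, mul_assoc, ← mul_assoc t t, tt] using
      c.conj _ (mul_inv_mem (Ω := Ω) ht ik ok) t
  have o2 := two_mul' u2 (c.two _ vZ) (fun e => hu (e ▸ vZ)) c1.eq.symm
  obtain ⟨s, hs⟩ := Set.ncard_eq_one.1 (hq _ γ o2 (notZ w1 w2 hγ.symm) w1)
  have hs' : s ∈ II Z γ ∩ 𝐂[u * (k * t)] := hs ▸ rfl
  have kc : k ∈ 𝐂[u * (k * t)] := by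
    have := mul_mem (mem_cent1.2 (c1.mul_right (Commute.refl _)).eq : k * t ∈ 𝐂[u * (k * t)])
      (mem_cent1.2 c2.eq)
    rwa [mul_assoc, tt, mul_one] at this
  have k1 := eq_one_of_inv ht ik ok hs'.1.1 hs'.1.2
    (mem_cent1.1 (cent_le hq o2 (notZ w1 w2 hγ.symm) w1 hs'.1 hs'.2 ⟨kc, kD.1⟩)) (h1 ▸ hγ)
  rw [k1, one_mul] at c1
  exact mem_cent1.2 c1.eq

variable [Be.BeI]

/-- `C(u)` is doubly transitive on the fixed points of `u` -/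
theorem tr2u (u2 : orderOf u = 2) (h0 : u • α = α) (h1 : u • β = β) (h2 : u • γ = γ) (n1 : β ≠ α)
    (n2 : γ ≠ α) : ∃ g ∈ 𝐂[u] ⊓ St α, g • β = γ := by
  obtain ⟨g, g1, rfl⟩ := tr2 c n1 n2
  obtain ⟨d, hd, e⟩ := conjD hq n2.symm (two_conj u2 g) u2
    ⟨by simpa [g1] using conj_smul_smul h0 g, conj_smul_smul h1 g⟩ ⟨h0, h2⟩
  refine ⟨d * g, ⟨mem_cent1.2 (mul_inv_eq_iff_eq_mul.1 (Eq.trans (by group) e)), ?_⟩, ?_⟩
  · exact mul_mem hd.1 g1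
  · rw [mul_smul]; exact hd.2

omit hq c [Be.BeI] [Finite G] in
theorem fx_conj (g u : G) : fx Ω (g * u * g⁻¹) = fx Ω u := by
  refine (Set.ncard_congr (fun γ _ => g • γ) (fun γ h => conj_smul_smul h g)
    (fun a b _ _ e => by simpa using e) fun γ h => ⟨g⁻¹ • γ, ?_, by simp⟩).symm
  show u • g⁻¹ • γ = g⁻¹ • γ
  simpa [mul_assoc] using conj_smul_smul (show (g * u * g⁻¹) • γ = γ from h) g⁻¹

variable [Cnt]

theorem fx_eq (u2 : orderOf u = 2) (hu : u ∉ Z) (w2 : orderOf w = 2) (hw : w ∉ Z) (h1 : u • α = α)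
    (h2 : w • α = α) : fx Ω w = fx Ω u := by
  obtain ⟨β, n1, e1⟩ := Cnt.fix2 u2 hu h1
  obtain ⟨γ, n2, e2⟩ := Cnt.fix2 w2 hw h2
  obtain ⟨g, g1, rfl⟩ := tr2 c n1 n2
  obtain ⟨d, -, e⟩ := conjD hq n2.symm (two_conj u2 g) w2
    ⟨by simpa [g1] using conj_smul_smul h1 g, conj_smul_smul e1 g⟩ ⟨h2, e2⟩
  rw [← e, fx_conj, fx_conj]

omit [Be.BeI] [Cnt] in
theorem iso (u2 : orderOf u = 2) (hu : u ∉ Z) (h : u • α = α) (hz : z ∈ II Z α) (h1 : z ∈ 𝐂[u]) :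
    Iso 𝐂[u] z := iso_of_not_four hz.1 hz.2 h1 fun ⟨_, ha, _, hb, a1, b1, hne, _⟩ =>
  hne (uniq hq u2 hu h ⟨a1, ha.2⟩ ⟨b1, hb.2⟩ ha.1 hb.1)

omit [Be.BeI] in
theorem exists_invs (u2 : orderOf u = 2) (hu : u ∉ Z) (h : u • α = α) (hz : z ∈ II Z α)
    (h1 : z ∈ 𝐂[u]) (hγ : u • γ = γ) : ∃ k ∈ invs (core {2}ᶜ 𝐂[u]) z, k • α = γ := by
  by_cases e : α = γ
  · exact ⟨1, ⟨one_mem _, by simp [zsq (Ω := Ω) hz.1]⟩, by rw [one_smul, e]⟩
  obtain ⟨t, -, t1, t2⟩ := Cnt.swap (Z := Z) (sq_of_two u2) h hγ e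
  obtain ⟨k, hk, -, -, h2⟩ := (iso hq u2 hu h hz h1).dec t1
  refine ⟨k, hk, ?_⟩
  rw [← t2, eq_comm, ← inv_smul_eq_iff, smul_smul]
  exact cent1_le_stab hz.1 hz.2 h2.2

omit [Be.BeI] [Cnt] in
theorem invs_inj' (u2 : orderOf u = 2) (hu : u ∉ Z) (h : u • α = α) (hz : z ∈ II Z α)
    (h1 : z ∈ 𝐂[u]) {k k' : G} (hk : k ∈ invs (core {2}ᶜ 𝐂[u]) z)
    (hk' : k' ∈ invs (core {2}ᶜ 𝐂[u]) z) (e : k • α = k' • α) : k = k' :=
  Be.invs_eq_of_cent (odd_core _) (zsq (Ω := Ω) hz.1) hk hk' (cent_le hq u2 hu h hz h1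
    ⟨mul_mem (Subgroup.inv_mem _ (core_le _ _ hk'.1)) (core_le _ _ hk.1),
      show (k'⁻¹ * k) • α = α by rw [mul_smul, e, inv_smul_smul]⟩)

omit [Be.BeI] [Cnt] c hq [Finite G] in
theorem fix_smul {g : G} (hg : g ∈ 𝐂[u]) (h : u • α = α) : u • g • α = g • α := by
  rw [smul_smul, ← mem_cent1.1 hg, mul_smul, h]

/-- the number of fixed points is a prime power -/
theorem fx_pow (u2 : orderOf u = 2) (hu : u ∉ Z) (h : u • α = α) :
    ∃ p d : ℕ, p.Prime ∧ p ≠ 2 ∧ fx Ω u = p ^ (d + 1) := by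
  obtain ⟨z, hz⟩ := Set.ncard_eq_one.1 (hq u α u2 hu h)
  obtain ⟨hz, h1⟩ : z ∈ II Z α ∩ 𝐂[u] := hz ▸ rfl
  have zz := zsq (Ω := Ω) hz.1
  have i := iso hq u2 hu h hz h1
  have e : (invs (core {2}ᶜ 𝐂[u]) z).ncard = fx Ω u :=
    Set.ncard_congr (fun k _ => k • α) (fun k hk => fix_smul (core_le _ _ hk.1) h)
      (fun k k' hk hk' e => invs_inj' hq u2 hu h hz h1 hk hk' e) fun γ hγ =>
        let ⟨k, h2, h3⟩ := exists_invs hq u2 hu h hz h1 hγ; ⟨k, h2, h3⟩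
  have mv : ∀ k ∈ invs (core {2}ᶜ 𝐂[u]) z, k ≠ 1 → k • α ≠ α := fun k hk k1 e =>
    k1 (invs_inj' hq u2 hu h hz h1 hk ⟨one_mem _, by simp [zz]⟩ (by rw [e, one_smul]))
  have same : ∀ k ∈ invs (core {2}ᶜ 𝐂[u]) z, k ≠ 1 → ∀ k' ∈ invs (core {2}ᶜ 𝐂[u]) z, k' ≠ 1 →
      orderOf k' = orderOf k := fun k hk k1 k' hk' k1' => by
    obtain ⟨g, hg, e⟩ := tr2u hq u2 h (fix_smul (core_le _ _ hk.1) h)
      (fix_smul (core_le _ _ hk'.1) h) (mv k hk k1) (mv k' hk' k1')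
    have gz := mem_cent1.1 (cent_le hq u2 hu h hz h1 hg)
    rw [← invs_inj' hq u2 hu h hz h1 (k := g * k * g⁻¹) ⟨(core_normal _ _).conj_mem hg.1 hk.1, by
      have gz' : g⁻¹ * z = z * g⁻¹ := (Commute.inv_left gz).eq
      calc z * (g * k * g⁻¹) * z = z * g * k * (g⁻¹ * z) := by group
        _ = g * (z * k * z) * g⁻¹ := by rw [← gz, gz']; group
        _ = _ := by rw [hk.2]; group⟩ hk'
      (by rw [mul_smul, mul_smul, show g⁻¹ • α = α from (St α).inv_mem hg.2, e]), orderOf_conj']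
  obtain ⟨β, n1, e1⟩ := Cnt.fix2 u2 hu h
  obtain ⟨k, hk, rfl⟩ := exists_invs hq u2 hu h hz h1 e1
  have k1 : k ≠ 1 := fun e => n1 (by rw [e, one_smul])
  obtain ⟨p, m, hp, hm⟩ := Be.P1.exists_prime_pow k1
  have hk' : k ^ m ∈ invs (core {2}ᶜ 𝐂[u]) z := ⟨pow_mem hk.1 m, Be.P1.pow_inverted zz hk.2 m⟩
  have k2 : k ^ m ≠ 1 := fun e => hp.one_lt.ne (by rw [← hm, e, orderOf_one])
  have od : Odd (fx Ω u) := (odd_core 𝐂[u]).of_dvd_nat (by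
    rw [Be.card_invs (odd_core _) zz i.normO, e]; exact dvd_mul_right _ _)
  have h2 : ∀ {l : ℕ}, l.Prime → l ∣ fx Ω u → l = p := fun {l} hl hd => by
    have l2 : l ≠ 2 := fun e => Nat.not_even_iff_odd.2 od (even_iff_two_dvd.2 (e ▸ hd))
    obtain ⟨P, hP, -, h3⟩ := i.exists_sylow hl l2 bot_le IsPGroup.of_bot (by rw [norm_bot]; trivial)
    have h4 := i.ncard_sylow hl l2 hP h3
    rw [e] at h4
    obtain ⟨x, hx, x1⟩ := Set.exists_ne_of_one_lt_ncard (s := invs P z) (h4 ▸ Nat.one_lt_pow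
      (hl.factorization_pos_of_dvd od.pos.ne' hd).ne' hl.one_lt) 1
    have h5 := same _ hk' k2 x ⟨i.mem_core (hP.le hx.1) (odd_orderOf_of_mem
      (Be.PL.odd_pgroup hl l2 hP.isPGroup) hx.1) hx.2, hx.2⟩ x1
    obtain ⟨j, hj⟩ := pgroup_card hl hP.isPGroup
    have := orderOf_dvd_natCard P hx.1
    rw [h5, hm, hj] at this
    exact ((Nat.prime_dvd_prime_iff_eq hp hl).1 (hp.dvd_of_dvd_pow this)).symm
  have h3 := Nat.eq_prime_pow_of_unique_prime_dvd od.pos.ne' h2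
  generalize (fx Ω u).primeFactorsList.length = d at h3
  refine ⟨p, d - 1, hp, fun e => ?_, ?_⟩
  · have := odd_orderOf_of_mem (odd_core _) hk'.1
    rw [hm, e] at this
    exact absurd this (by decide)
  · rcases d with _ | d
    · haveI := finΩ c.toRed
      have : 1 < fx Ω u := (Set.one_lt_ncard (Set.toFinite _)).2 ⟨_, e1, α, h, n1⟩
      rw [pow_zero] at h3
      omega
    · exact h3

theorem dvd_fx (u2 : orderOf u = 2) (hu : u ∉ Z) (hp : p.Prime) (hd : p ∣ (II Z α).ncard) :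
    p ∣ fx Ω u := by
  haveI := finΩ c.toRed
  by_contra hn
  obtain ⟨γ, hγ⟩ : ∃ γ : Ω, u • γ ≠ γ := not_forall.1 fun e => ne_one_of_two u2 (c.faith u e)
  have p2 : p ≠ 2 := fun e =>
    Nat.not_even_iff_odd.2 (odd_ncard_II (Z := Z) α) (even_iff_two_dvd.2 (e ▸ hd))
  obtain ⟨t, ht, t1, -⟩ := exists_swap_top c.toRed hγ.symm
  obtain ⟨P, hP, -, h3⟩ := (iso_stab2 ht t1 hγ.symm).exists_sylow hp p2 bot_le IsPGroup.of_bot
    (by rw [norm_bot]; trivial)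
  have tu := swap_comm hq u2 hu hγ ht t1
  have h4 : closure (invs P t) ≤ P ⊓ 𝐂[u] := (closure_le _).2 fun k hk => ⟨hk.1, by
    have := swap_comm hq u2 hu hγ (mul_inv_mem (Ω := Ω) ht hk.2 (odd_orderOf_of_mem
      (Be.PL.odd_pgroup hp p2 hP.isPGroup) hk.1)) (by rw [mul_smul, show k • γ = γ from (hP.le hk.1).1, t1])
    exact (mul_mem_cancel_left tu).1 this⟩
  obtain ⟨δ, h5, h6⟩ := Be.P1.exists_fix (O := {δ : Ω | u • δ = δ}) hp
    (hP.isPGroup.to_le (h4.trans inf_le_left)) (Set.toFinite _)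
    (fun g hg x hx => fix_smul (h4 hg).2 hx) hn
  rcases Cnt.fixK hp (ncard_II (Z := Z) α γ ▸ hd) ht t1 hγ.symm hP h3
    (fun k hk => h6 (subset_closure hk)) with rfl | rfl
  · exact hγ h5
  · exact hγ ((smul_left_cancel_iff u).1 h5)

omit hq c [Be.BeI] [Cnt] [Finite G] [Group G] [MulAction G Ω] in
theorem arith {p d r n : ℕ} (hp : p.Prime) (p2 : p ≠ 2) (h1 : 1 < r)
    (hr : ∀ {l : ℕ}, l.Prime → l ∣ r → l ∣ p ^ (d + 1))
    (e : r * n + p ^ (d + 1) = r * p ^ (d + 1) + p ^ (d + 1) * p ^ (d + 1))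
    (hm : ∀ {l : ℕ}, l.Prime → l ∣ r → n ≡ 2 [MOD l]) : n + 1 = 2 * p ^ (d + 1) := by
  have h2 := Nat.eq_prime_pow_of_unique_prime_dvd (by omega : r ≠ 0) fun {l} hl hd =>
    (Nat.prime_dvd_prime_iff_eq hl hp).1 (hl.dvd_of_dvd_pow (hr hl hd))
  generalize r.primeFactorsList.length = i at h2
  obtain ⟨g, hg⟩ : ∃ g, p ^ (d + 1) = g + 1 := ⟨_, (Nat.succ_pred_eq_of_pos (pow_pos hp.pos _)).symm⟩
  have pf : p ∣ g + 1 := hg ▸ dvd_pow_self p d.succ_ne_zero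
  have cop : r.Coprime g := h2 ▸ Nat.Coprime.pow_left _ (hp.coprime_iff_not_dvd.2 fun h =>
    hp.one_lt.ne' (Nat.dvd_one.1 ((Nat.dvd_add_right h).1 pf)))
  have h3 : r ∣ (g + 1) * g := by
    rw [hg] at e
    refine (Nat.dvd_add_right (dvd_mul_right r (g + 1))).1 ⟨n, ?_⟩
    nlinarith
  obtain ⟨k, hk⟩ := cop.dvd_of_dvd_mul_right h3
  have h4 : n = g + 1 + k * g := Nat.eq_of_mul_eq_mul_left (by omega : 0 < r) (by
    rw [hg] at e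
    have : (g + 1) * g = r * k * g := by rw [hk]
    nlinarith)
  have pr : p ∣ r := h2 ▸ dvd_pow_self p (by rintro rfl; rw [pow_zero] at h2; omega)
  obtain ⟨j, -, hj⟩ := (Nat.dvd_prime_pow hp).1 (show k ∣ p ^ (d + 1) from ⟨r, by rw [hg, hk, mul_comm]⟩)
  rcases j with _ | j
  · rw [hg, h4, hj]; ring
  · have h5 : p ∣ n := h4 ▸ dvd_add pf ((hj ▸ dvd_pow_self p j.succ_ne_zero).mul_right g)
    exact absurd ((Nat.prime_dvd_prime_iff_eq hp Nat.prime_two).1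
      (((hm hp pr).dvd_iff dvd_rfl).1 h5)) p2

theorem num (u2 : orderOf u = 2) (hu : u ∉ Z) (h : u • α = α) : Nat.card Ω + 1 = 2 * fx Ω u := by
  obtain ⟨z, hz⟩ := Set.ncard_eq_one.1 (hq u α u2 hu h)
  have hz' : z ∈ II Z α ∩ 𝐂[u] := hz ▸ rfl
  obtain ⟨-, m, e1, e2, -⟩ := Cnt.cnt u2 hu h hz'
  have hc := mem_cent1.1 hz'.2
  have o2 := two_mul' u2 (c.two z hz'.1.1) (fun e => hu (e ▸ hz'.1.1)) hc.symm
  have nZ : u * z ∉ Z := fun e => hu (by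
    have := (clo c).mul _ e z hz'.1.1 (fun e => ne_one_of_two u2 (by simpa using e))
      ((Commute.symm hc).mul_left (Commute.refl z))
    rwa [mul_assoc, zsq (Ω := Ω) hz'.1.1, mul_one] at this)
  rw [fx_eq hq u2 hu o2 nZ h (by rw [mul_smul, hz'.1.2, h]), hq u α u2 hu h] at e2
  rw [hq u α u2 hu h, mul_one] at e1
  obtain ⟨p, d, hp, p2, e⟩ := fx_pow hq u2 hu h
  rw [e] at e2 ⊢
  exact arith hp p2 (e1 ▸ one_lt_ncard_II α) (fun hl hd => e ▸ dvd_fx hq u2 hu hl (e1 ▸ hd))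
    (by simpa using e2) fun hl hd => Cnt.modp hl (e1 ▸ hd)

end Cfsg.Agent.As.Q2
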