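import Cfsg.Agent.As.P

/-! ZD, part 2, slice VE: consequences of the local data `Loc`. -/

set_option autoImplicit false

namespace Cfsg.Agent.As.V5

open Subgroup MulAction Cfsg.Agent.H1 Cfsg.Agent.L Cfsg.Agent.FT
open Cfsg.Agent.Be (invs conj_smul_smul)
open Cfsg.Agent.Be.P1 (orb self_mem_orb smul_mem_orb)
open Cfsg.Agent.Sg (Sq)
open scoped Pointwise commutatorElement

variable {G Ω : Type} [Group G] [MulAction G Ω] {Z : Set G}
variable {N E Q K A : Subgroup G} {α β : Ω} {t g k v x y : G} {q j : ℕ}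

local notation "St" => stabilizer G

theorem der_le_of_sq {Q X : Subgroup G} (hc : Q ≤ 𝐍(X)) (h : ∀ x ∈ Q, x * x ∈ X) : ⁅Q, Q⁆ ≤ X :=
  commutator_le.2 fun a ha b hb => by
    have e : ⁅a, b⁆ = a * b * (a * b) * (b⁻¹ * (a⁻¹ * a⁻¹) * b) * (b⁻¹ * b⁻¹) := by
      rw [commutatorElement_def]; group
    rw [e]
    exact X.mul_mem (X.mul_mem (h _ (Q.mul_mem ha hb))
      (conj_mem_of_mem_normalizer' (hc hb) (h _ (Q.inv_mem ha)))) (h _ (Q.inv_mem hb))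

section Loc
variable (h : Loc Z N α β t E Q K q j)
include h

theorem four_le : 4 ≤ q := by
  obtain ⟨a, ha, rfl⟩ := h.pow
  exact Nat.pow_le_pow_right (n := 2) two_pos ha

theorem one_le_j : 1 ≤ j := by rcases h.jj with e | e | e <;> omega

theorem QL : Q ≤ ZZ Z N := fun x hx => ((h.memQ x).1 hx).1

theorem QN : Q ≤ N := (QL h).trans ZZ_le

theorem Qα : Q ≤ St α := fun x hx => ((h.memQ x).1 hx).2.1

theorem pQ : IsPGroup 2 Q := fun x => by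
  obtain ⟨n, hn⟩ := ((h.memQ x).1 x.2).2.2
  exact ⟨n, Subtype.ext (by simpa using hn)⟩

theorem EQ : E ≤ Q := fun x hx => by
  refine (h.memQ x).2 ⟨?_, ?_, 1, by rw [pow_one, pow_two, h.sing.sq x hx]⟩
  · rcases (h.memE x).1 hx with rfl | h1
    exacts [one_mem _, mem_ZZ h1.1 h1.2.1]
  · rcases (h.memE x).1 hx with rfl | h1
    exacts [one_smul _ _, h1.2.2]

theorem KN : K ≤ N := fun k hk => ((h.memK k).1 hk).1

theorem Kα : K ≤ St α := fun k hk => (FT.core_le _ _ ((h.memK k).1 hk).2.1).1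

theorem Kβ : K ≤ St β := fun k hk => (FT.core_le _ _ ((h.memK k).1 hk).2.1).2

theorem βorb : β ∈ orb N α := ⟨t, h.tN, h.tα⟩

theorem Wβ : Ker N α ≤ St β := fun _ hx => (mem_Ker.1 hx).2 β (βorb h)

theorem QW : Q ≤ 𝐂(Ker N α) := (QL h).trans h.cent

theorem KW : K ≤ 𝐂(Ker N α) := h.KL.trans h.cent

theorem QEW : Q ≤ 𝐂(E ⊔ Ker N α) := by rw [cent_sup]; exact le_inf h.QE (QW h)

theorem exists_k : ∃ k ∈ K, k ≠ 1 := exists_mem_ne_one fun e => by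
  have h1 := h.cardK
  have h2 := four_le h
  rw [e, card_bot] at h1
  omega

theorem der_le : ⁅Q, Q⁆ ≤ E ⊔ Ker N α := der_le_of_sq (le_norm_of_le_cent (QEW h)) h.sq

theorem inf_EW : (E ⊔ Ker N α) ⊓ Q = E ⊔ Q ⊓ Ker N α := by
  rw [sup_inf_modular (EQ h) (Or.inr (le_norm_of_le_cent ((EQ h).trans (QW h)))), inf_comm]

variable [Finite G] [c : Hyp Ω Z]

theorem E_inf_W : E ⊓ Ker N α = ⊥ := eq_bot_iff.2 fun x hx => by
  rcases (h.memE x).1 hx.1 with rfl | h1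
  · exact one_mem _
  · exact (h.ne (fix_unique h1.1 h1.2.2 (Wβ h hx.2))).elim

theorem normQ : N ⊓ St α ≤ 𝐍(Q) := le_norm_iff.2 fun g hg x hx => by
  obtain ⟨h1, h2, n, hn⟩ := (h.memQ x).1 hx
  refine (h.memQ _).2 ⟨(ZZ_normal Ω).conj_mem hg.1 h1, ?_, n, by rw [conj_pow, hn]; simp⟩
  exact (St α).mul_mem ((St α).mul_mem hg.2 h2) ((St α).inv_mem hg.2)

theorem normE : N ⊓ St α ≤ 𝐍(E) := le_norm_iff.2 fun g hg x hx => by
  rcases (h.memE x).1 hx with rfl | ⟨h1, h2, h3⟩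
  · simpa using E.one_mem
  · exact (h.memE _).2 (Or.inr ⟨c.conj _ h1 _, N.mul_mem (N.mul_mem hg.1 h2) (N.inv_mem hg.1),
      (St α).mul_mem ((St α).mul_mem hg.2 h3) ((St α).inv_mem hg.2)⟩)

theorem normEW : N ⊓ St α ≤ 𝐍(E ⊔ Ker N α) :=
  le_normalizer_sup (normE h) (inf_le_left.trans Ker_normal.norm)

theorem KQ : K ≤ 𝐍(Q) := (le_inf (KN h) (Kα h)).trans (normQ h)

theorem cardX : #|E ⊔ Q ⊓ Ker N α| = q * #|Q ⊓ Ker N α| := by
  rw [card_sup_of_disjoint (le_norm_of_le_cent (((EQ h).trans (QW h)).trans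
    (cent_anti inf_le_right))) (disjoint_iff.2 (eq_bot_iff.2 (E_inf_W h ▸
      inf_le_inf_left E inf_le_right))), h.cardE]

omit [Finite G] c in
theorem dec (hg : g ∈ N) (h1 : g • α = α) : ∃ y ∈ Q, (y⁻¹ * g) • β = β := by
  obtain ⟨y, hy, e⟩ := h.tr (g • β) (smul_mem_orb hg (βorb h)) fun e =>
    h.ne (smul_left_cancel g (h1.trans e.symm))
  exact ⟨y, hy, by rw [mul_smul, ← e, inv_smul_smul]⟩

omit [Finite G] c in
/-- `C_N(E)_α ≤ QW` for `j ≠ 3` -/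
theorem dec' (hj : j ≠ 3) (hg : g ∈ N) (h1 : g • α = α) (h2 : g ∈ 𝐂(E)) :
    ∃ y ∈ Q, y⁻¹ * g ∈ Ker N α := by
  obtain ⟨y, hy, e⟩ := dec h hg h1
  exact ⟨y, hy, h.a4 hj _ (N.mul_mem (N.inv_mem (QN h hy)) hg)
    ((St α).mul_mem ((St α).inv_mem (Qα h hy)) h1) e (mul_mem (inv_mem (h.QE hy)) h2)⟩

theorem le1 (hj : j = 1) : Q ≤ E ⊔ Ker N α := by
  have : E ⊔ Q ⊓ Ker N α = Q := eq_of_le_of_card_le (sup_le (EQ h) inf_le_left)
    (by rw [cardX h, h.cardQ, hj, pow_one])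
  rw [← this, ← inf_EW h]
  exact inf_le_left

theorem cent2 (hj : j = 2) (hy : y ∈ Q) (hc : ∀ k ∈ K, k * y * k⁻¹ ∈ 𝐂[y]) : y ∈ E ⊔ Ker N α := by
  by_contra hn
  have hX : E ⊔ Q ⊓ Ker N α ≤ E ⊔ Ker N α := sup_le_sup_left inf_le_right E
  have hXc : E ⊔ Q ⊓ Ker N α ≤ 𝐂(Q) := hX.trans (le_cent_symm (QEW h))
  have tr := (h.trq (E ⊔ Q ⊓ Ker N α) Q le_sup_right (sup_le (EQ h) inf_le_left) le_rfl
    (le_normalizer_sup h.sing.norm (le_normalizer_inf (KQ h) (le_norm_of_le_cent (KW h)))) (KQ h)).2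
    (by rw [cardX h, h.cardQ, hj]; ring) y hy fun e => hn (hX e)
  have gen : ∀ {C : Subgroup G}, E ⊔ Q ⊓ Ker N α ≤ C → (∀ k ∈ K, k * y * k⁻¹ ∈ C) → Q ≤ C :=
    fun {C} h1 h2 z hz => by
      by_cases e : z ∈ E ⊔ Q ⊓ Ker N α
      · exact h1 e
      obtain ⟨k, hk, h3⟩ := tr z hz e
      simpa [mul_assoc] using C.mul_mem (C.inv_mem (h1 h3)) (h2 k hk)
  have h1 : y ∈ 𝐂(Q) := le_cent1_iff.1 (gen (hXc.trans (cent_le_cent1 hy)) hc)
  have h2 : Q ≤ 𝐂(Q) := gen hXc fun k hk => conj_mem_of_mem_normalizer (le_norm_cent (KQ h) hk) h1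
  exact h.nab (by omega) (comm_eq_bot_iff.2 h2 ▸ bot_le)

/-- the trace of `y` lies in `EW` -/
theorem mem_of_conj {C : Subgroup G} (hy : y ∈ Q) (hC : E ⊔ Q ⊓ Ker N α ≤ C)
    (hc : ∀ k ∈ K, k ≠ 1 → k * y * k⁻¹ ∈ C) : y ∈ C := by
  obtain ⟨k, hk, k1⟩ := exists_k h
  have key : ∀ i, 1 ≤ i → i ≤ orderOf k → y⁻¹ * ((y * k) ^ i * (k ^ i)⁻¹) ∈ C ⊓ Q := by
    intro i h1
    induction i, h1 using Nat.le_induction with
    | base => intro _; simpa using (C ⊓ Q).one_mem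
    | succ i h1 ih =>
      intro h2
      have e : y⁻¹ * ((y * k) ^ (i + 1) * (k ^ (i + 1))⁻¹) =
          y⁻¹ * ((y * k) ^ i * (k ^ i)⁻¹) * (k ^ i * y * (k ^ i)⁻¹) := by
        rw [pow_succ, pow_succ]; group
      rw [e]
      exact mul_mem (ih (by omega)) ⟨hc _ (K.pow_mem hk i) (pow_ne_one_of_lt_orderOf (by omega)
        (by omega)), conj_mem_of_mem_normalizer (KQ h (K.pow_mem hk i)) hy⟩
  have h1 := key (orderOf k) (orderOf_pos k) le_rfl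
  rw [pow_orderOf_eq_one, inv_one, mul_one] at h1
  set z := (y * k) ^ orderOf k with hz
  have zQ : z ∈ Q := by simpa using Q.mul_mem hy h1.2
  have e : k * z⁻¹ * k⁻¹ = y⁻¹ * z⁻¹ * y := by
    have : Commute (y * k) z⁻¹ := ((Commute.refl _).pow_right _).inv_right
    calc k * z⁻¹ * k⁻¹ = y⁻¹ * (y * k * z⁻¹) * k⁻¹ := by group
      _ = y⁻¹ * z⁻¹ * y := by rw [this.eq]; group
  have h2 : z ∈ E ⊔ Ker N α := h.fpf k hk k1 z zQ (by
    have : ⁅z, k⁆ = ⁅z, y⁻¹⁆ := by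
      rw [commutatorElement_def, commutatorElement_def, mul_assoc z, mul_assoc z, e]; group
    rw [this]
    exact der_le h (commutator_mem_commutator zQ (Q.inv_mem hy)))
  have h3 : z ∈ C := hC (inf_EW h ▸ ⟨h2, zQ⟩)
  simpa using C.mul_mem h3 (C.inv_mem h1.1)

theorem cent3 (hj : j = 3) (hv : v ∈ N) (h1 : v • α = α) (h2 : v • β = β) (h3 : v ∈ 𝐂(E))
    (h4 : Odd (orderOf v)) (h5 : v ∉ Ker N α) (hA : A ≤ Q) (hn : v ∈ 𝐍(A))
    (hc : ∀ k ∈ K, k ≠ 1 → k ⋆ A ≤ 𝐂(A)) : A ≤ E ⊔ Ker N α := by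
  by_contra hA'
  have hvK := (h.a1 v hv h1 h2 h3).2
  have hXc : E ⊔ Ker N α ≤ 𝐂(Q) := le_cent_symm (QEW h)
  have hQ : Q ≤ (⨆ k : K, (k : G) ⋆ A) ⊔ E ⊔ Ker N α := by
    refine (h.irr hj v hv h1 h2 h3 h4 h5 _ (iSup_le fun k => conj_le_of_mem_norm (KQ h k.2) hA)
      (le_norm_of_conj fun k hk => conj_le_iff.2 (iSup_le fun k' => conj_le_iff.1 ?_))
      (mem_norm_of_conj_le (conj_le_iff.2 (iSup_le fun k => conj_le_iff.1 ?_)))).resolve_left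
      fun e => hA' (le_trans ?_ e)
    · rw [← mul_conj]
      exact le_iSup (fun k : K => (k : G) ⋆ A) ⟨k * k', K.mul_mem hk k'.2⟩
    · rw [← mul_conj, ← mem_cent.1 hvK k k.2, mul_conj, conj_of_mem_norm hn]
      exact le_iSup (fun k : K => (k : G) ⋆ A) k
    · simpa using le_iSup (fun k : K => (k : G) ⋆ A) 1
  have hAA : A ≤ 𝐂(A) := fun y hy => mem_of_conj h (hA hy)
    (((sup_le_sup_left inf_le_right E).trans hXc).trans (cent_anti hA)) fun k hk k1 =>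
      hc k hk k1 (conj_mem_conj k hy)
  have hAQ : A ≤ 𝐂(Q) := le_cent_symm (hQ.trans (by
    rw [sup_assoc]
    refine sup_le (iSup_le fun k => ?_) (hXc.trans (cent_anti hA))
    by_cases e : (k : G) = 1
    · rw [e, one_conj]; exact hAA
    · exact hc k k.2 e))
  have h6 : Q ≤ 𝐂(Q) := hQ.trans (by
    rw [sup_assoc]
    exact sup_le (iSup_le fun k => conj_le_of_mem_norm (le_norm_cent (KQ h) k.2) hAQ) hXc)
  exact h.nab (by omega) (comm_eq_bot_iff.2 h6 ▸ bot_le)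

/-- an element `yw` whose commutator with `v` lies in `EW` lies in `EW` -/
theorem mem_of_v (hv : v ∈ ZZ Z N) (h1 : v • α = α) (h2 : v • β = β) (h3 : v ∈ 𝐂(E))
    (h4 : Odd (orderOf v)) (h5 : v ∉ Ker N α) (hy : y ∈ Q) (hc : ⁅y, v⁆ ∈ E ⊔ Ker N α) :
    y ∈ E ⊔ Ker N α := by
  refine (h.a2 v (ZZ_le hv) h1 h2 h3 y hy ?_).resolve_right h5
  have cQ : ⁅y, v⁆ ∈ Q := by
    rw [commutatorElement_def, mul_assoc, mul_assoc]
    exact Q.mul_mem hy (by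
      simpa [mul_assoc] using conj_mem_of_mem_normalizer (normQ h ⟨ZZ_le hv, h1⟩) (Q.inv_mem hy))
  have hv' : v ∈ 𝐂(E ⊔ Ker N α) := by rw [cent_sup]; exact ⟨h3, h.cent hv⟩
  have cm : Commute ⁅y, v⁆ v := mem_cent.1 hv' _ hc
  have e : ⁅y, v⁆ ^ orderOf v = 1 := by
    have : (⁅y, v⁆ * v) ^ orderOf v = 1 := by
      rw [commutatorElement_def, inv_mul_cancel_right, conj_pow, pow_orderOf_eq_one]; simp
    rwa [cm.mul_pow, pow_orderOf_eq_one, mul_one] at this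
  obtain ⟨n, hn⟩ := ((h.memQ _).1 cQ).2.2
  have : orderOf ⁅y, v⁆ = 1 := Nat.eq_one_of_dvd_coprimes
    (Nat.Coprime.pow_left n (Nat.coprime_two_left.2 h4)) (orderOf_dvd_of_pow_eq_one hn)
    (orderOf_dvd_of_pow_eq_one e)
  rw [orderOf_eq_one_iff.1 this]
  exact one_mem _

end Loc

end Cfsg.Agent.As.V5
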