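import Cfsg.Agent.As.VE1

/-! ZD, part 2, slice VE: the involutions centralising `Z_α`, the constants `q`, `j`. -/

set_option autoImplicit false

namespace Cfsg.Agent.As.V5

open Subgroup MulAction Cfsg.Agent.H1 Cfsg.Agent.L Cfsg.Agent.FT
open Cfsg.Agent.Be (invs conj_smul_smul sq_of_two inv_of_two two_of_sq ne_one_of_two two_conj)
open Cfsg.Agent.Be.P1 (orb self_mem_orb smul_mem_orb orb_mono not_le_of_ne orb_finite)
open Cfsg.Agent.Sg (Sq)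
open scoped Pointwise commutatorElement

variable {G Ω : Type} [Group G] [MulAction G Ω] {Z : Set G}
variable {N E Q K : Subgroup G} {α β γ : Ω} {t g e s u w x z : G} {q j : ℕ}

local notation "St" => stabilizer G

variable (Z) in
/-- an involution of `C(E_α) ∖ E_α` -/
structure U1 (α : Ω) (u : G) : Prop where
  two : orderOf u = 2
  nZ : u ∉ Z
  cE : u ∈ 𝐂(Ea Z α)

variable (Ω Z) in
/-- `Z_α ∪ 1` is a group centralised by an involution fixing a second point -/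
class M0 : Prop where
  memE : ∀ (α : Ω) (x : G), x ∈ Ea Z α ↔ x = 1 ∨ (x ∈ Z ∧ x • α = α)
  ex : ∀ α β : Ω, α ≠ β → ∃ u : G, U1 Z α u ∧ u • β = β

theorem mem_Ea (hz : z ∈ Z) (h : z • α = α) : z ∈ Ea Z α := subset_closure ⟨hz, h⟩

theorem Ea_le_st : Ea Z α ≤ St α := (closure_le _).2 fun _ h => h.2

theorem conj_Ea_le [c : Hyp Ω Z] (g : G) (α : Ω) : g ⋆ Ea Z α ≤ Ea Z (g • α) :=
  conj_le_iff.2 ((closure_le _).2 fun x hx => mem_conj.2 (by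
    simpa using mem_Ea (c.conj x hx.1 g) (conj_smul_smul hx.2 g)))

theorem conj_Ea [c : Hyp Ω Z] (g : G) (α : Ω) : g ⋆ Ea Z α = Ea Z (g • α) :=
  le_antisymm (conj_Ea_le g α) (le_conj_iff.2 (by simpa using conj_Ea_le (Z := Z) g⁻¹ (g • α)))

theorem norm_Ea [Hyp Ω Z] (h : g • α = α) : g ∈ 𝐍(Ea Z α) :=
  conj_eq_self_iff.1 (by rw [conj_Ea, h])

theorem U1.conj [Hyp Ω Z] (h : U1 Z α u) (g : G) : U1 Z (g • α) (g * u * g⁻¹) :=
  ⟨two_conj h.two g, fun e => h.nZ (by simpa [mul_assoc] using zconj (Ω := Ω) e g⁻¹), by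
    rw [← conj_Ea, ← conj_cent]; exact conj_mem_conj g h.cE⟩

theorem U1.le (h : U1 Z α u) : Ea Z α ≤ 𝐂[u] := le_cent1_iff.2 h.cE

theorem conj_ZZ_le [c : Hyp Ω Z] (g : G) (N : Subgroup G) : g ⋆ ZZ Z N ≤ ZZ Z (g ⋆ N) :=
  conj_le_iff.2 ((closure_le _).2 fun x hx => mem_conj.2 (by
    simpa using mem_ZZ (c.conj x hx.1 g) (conj_mem_conj g hx.2)))

theorem conj_Lu (Ω : Type) [MulAction G Ω] [c : Hyp Ω Z] (g u : G) :
    g ⋆ Lu Z u = Lu Z (g * u * g⁻¹) := by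
  rw [Lu, Lu, ← conj_cent1]
  exact le_antisymm (conj_ZZ_le (Ω := Ω) g _)
    (le_conj_iff.2 (by simpa using conj_ZZ_le (Ω := Ω) (Z := Z) g⁻¹ (g ⋆ 𝐂[u])))

theorem conj_Wu (g u : G) : g ⋆ Wu Ω u = Wu Ω (g * u * g⁻¹) := by
  ext x
  simp only [mem_conj, mem_Wu]
  refine ⟨fun h γ e => ?_, fun h γ e => ?_⟩
  · have := h (g⁻¹ • γ) (by simpa [mul_assoc] using conj_smul_smul e g⁻¹)
    simpa [mul_assoc] using conj_smul_smul this g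
  · simpa using conj_smul_smul (h (g • γ) (conj_smul_smul e g)) g⁻¹

theorem self_mem_Wu (u : G) : u ∈ Wu Ω u := mem_Wu.2 fun _ h => h

theorem norm_Wu (h : g ∈ 𝐂[u]) : g ∈ 𝐍(Wu Ω u) :=
  conj_eq_self_iff.1 (by rw [conj_Wu, mem_cent1.1 h, mul_inv_cancel_right])

theorem fx_conj (g u : G) : fx Ω (g * u * g⁻¹) = fx Ω u := by
  have : {γ : Ω | (g * u * g⁻¹) • γ = γ} = (fun γ => g • γ) '' {γ : Ω | u • γ = γ} := by
    ext γ
    refine ⟨fun h => ⟨g⁻¹ • γ, by simpa [mul_assoc] using conj_smul_smul h g⁻¹, by simp⟩, ?_⟩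
    rintro ⟨δ, h, rfl⟩
    exact conj_smul_smul h g
  rw [fx, this, Set.ncard_image_of_injective _ (MulAction.injective g), fx]

theorem orb_cent_le (h : w • α = α) (hγ : γ ∈ orb 𝐂[w] α) : w • γ = γ := by
  obtain ⟨g, hg, rfl⟩ := hγ
  rw [← mul_smul, ← mem_cent1.1 hg, mul_smul, h]

variable [Finite G] [c : Ctx Ω Z]

theorem U1.fix (h : U1 Z α u) : u • α = α := by
  obtain ⟨a, ha, h1⟩ := exists_II c.toRed α
  exact cent1_le_stab ha h1 (mem_cent1_comm.1 (h.le (mem_Ea ha h1)))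

omit c in
theorem cent1_ne_top (c : Ctx Ω Z) (h : w • α = α) (h1 : w ≠ 1) : 𝐂[w] ≠ ⊤ := fun e =>
  norm_ne_top c.toRed (X := zpowers w) (by simpa using h1) (zpowers_le.2 h)
    (top_le_iff.1 (le_norm_zpowers_of_cent e.ge))

theorem bt_of (h0 : N ≠ ⊤) (h : Ea Z α ≤ N) (h1 : ¬ N ≤ St α) : BT Z N α := by
  obtain ⟨a, ha, b, hb, a2, b2, h2⟩ := four_stab c.toRed α
  exact ⟨h0, ⟨a, ⟨h (mem_Ea a2 ha), ha⟩, b, ⟨h (mem_Ea b2 hb), hb⟩, a2, b2, h2⟩, h1⟩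

theorem Ea_ne_bot (α : Ω) : Ea Z α ≠ ⊥ := by
  obtain ⟨a, ha, h1⟩ := exists_II c.toRed α
  exact ne_bot_of_mem (mem_Ea ha h1) (ne_one_of_two (c.two a ha))

theorem card_Ea (α β : Ω) : #|Ea Z α| = #|Ea Z β| := by
  obtain ⟨g, rfl⟩ := exists_smul c.toRed α β
  rw [← conj_Ea, card_conj]

variable [Be.BeI]

omit c in
theorem norm_ne (c : Ctx Ω Z) (h0 : N ≠ ⊥) (h1 : N ≠ ⊤) : 𝐍(N) ≠ ⊤ := fun e =>
  haveI := simple c
  ((normalizer_eq_top_iff.1 e).eq_bot_or_eq_top).elim h0 h1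

variable [Cnt] [LocE]

theorem m0 (u2 : orderOf u = 2) (uZ : u ∉ Z) (h : u • α = α) (h' : II Z α ⊆ 𝐂[u]) : M0 Ω Z := by
  obtain ⟨β, hβ, h1⟩ := Cnt.fix2 u2 uZ h
  obtain ⟨t, tZ, tu, h2⟩ := Cnt.swap (Z := Z) (sq_of_two u2) h h1 hβ.symm
  have hE : Ea Z α ≤ 𝐂[u] := (closure_le _).2 h'
  obtain ⟨E, Q, K, q, j, l⟩ := LocE.ex (bt_of (cent1_ne_top c h (ne_one_of_two u2)) hE
    (not_le_of_ne tu (h2 ▸ hβ))) tZ tu h2 hβ.symm
  have h3 : Ea Z α ≤ E := (closure_le _).2 fun x hx => (l.memE x).2 (Or.inr ⟨hx.1, h' hx, hx.2⟩)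
  refine ⟨fun γ x => ⟨fun hx => ?_, ?_⟩, fun γ δ hne => ?_⟩
  · obtain ⟨g, rfl⟩ := exists_smul c.toRed α γ
    rw [← conj_Ea] at hx
    obtain ⟨y, hy, rfl⟩ := mem_conj'.1 hx
    rcases (l.memE y).1 (h3 hy) with rfl | h4
    exacts [Or.inl (by simp), Or.inr ⟨c.conj y h4.1 g, conj_smul_smul h4.2.2 g⟩]
  · rintro (rfl | hx)
    exacts [one_mem _, mem_Ea hx.1 hx.2]
  · obtain ⟨g, rfl⟩ := exists_smul c.toRed α γ
    obtain ⟨k, h4, h5⟩ := tr2 c (α := g • α) (β := g • β) (γ := δ)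
      (fun e => hβ (smul_left_cancel g e)) hne.symm
    refine ⟨k * g * u * (k * g)⁻¹, ?_, by rw [← h5, ← mul_smul k g]; exact conj_smul_smul h1 _⟩
    have := (⟨u2, uZ, le_cent1_iff.1 hE⟩ : U1 Z α u).conj (k * g)
    rwa [mul_smul, h4] at this

omit [Be.BeI] [LocE] in
theorem U1.cls (h : U1 Z α u) (h1 : u • β = β) : U1 Z β u := by
  by_cases e : α = β
  · exact e ▸ h
  obtain ⟨t, -, tu, h2⟩ := Cnt.swap (Z := Z) (sq_of_two h.two) h.fix h1 e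
  have := h.conj t
  rwa [h2, mem_cent1.1 tu, mul_inv_cancel_right] at this

omit [Be.BeI] [LocE] in
theorem U1.mem_Lu (h : U1 Z α u) (hz : z ∈ Z) (h1 : z • γ = γ) (h2 : u • γ = γ) : z ∈ Lu Z u :=
  mem_ZZ hz ((h.cls h2).le (mem_Ea hz h1))

omit [Be.BeI] [LocE] in
theorem U1.orb_le (h : U1 Z α u) (hγ : γ ∈ orb 𝐍(Lu Z u) α) : u • γ = γ := by
  obtain ⟨g, hg, rfl⟩ := hγ
  obtain ⟨a, ha, h1⟩ := exists_II c.toRed α
  exact cent1_le_stab (c.conj a ha g) (conj_smul_smul h1 g) (mem_cent1_comm.1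
    (ZZ_le (conj_mem_of_mem_normalizer hg (h.mem_Lu ha h1 h.fix))))

omit [Be.BeI] [Cnt] [LocE] in
theorem cent_le_N (Ω : Type) [MulAction G Ω] [Hyp Ω Z] (u : G) : 𝐂[u] ≤ 𝐍(Lu Z u) :=
  (ZZ_normal Ω).norm

omit [Be.BeI] [LocE] in
theorem U1.orb_L (h : U1 Z α u) (hγ : u • γ = γ) : γ ∈ orb (Lu Z u) α := by
  by_cases e : α = γ
  · exact e ▸ self_mem_orb _ _
  obtain ⟨t, tZ, tu, h2⟩ := Cnt.swap (Z := Z) (sq_of_two h.two) h.fix hγ e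
  exact ⟨t, mem_ZZ tZ tu, h2⟩

omit [Be.BeI] [LocE] in
theorem U1.orb (h : U1 Z α u) : γ ∈ orb 𝐍(Lu Z u) α ↔ u • γ = γ :=
  ⟨h.orb_le, fun e => orb_mono le_normalizer (h.orb_L e)⟩

omit [Be.BeI] [LocE] in
theorem U1.W_le (h : U1 Z α u) : Wu Ω u ≤ 𝐍(Lu Z u) := le_norm_closure fun w hw z hz => by
  obtain ⟨γ, h1⟩ := exists_fix Ω hz.1
  have h2 : u • γ = γ := cent1_le_stab hz.1 h1 (mem_cent1_comm.1 hz.2)
  exact h.mem_Lu (c.conj z hz.1 w) (by simpa [mem_Wu.1 hw γ h2] using conj_smul_smul h1 w) h2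

omit [Be.BeI] [LocE] in
theorem U1.ker (h : U1 Z α u) : Ker 𝐍(Lu Z u) α = Wu Ω u := by
  ext x
  rw [mem_Ker, mem_Wu]
  exact ⟨fun e γ h1 => e.2 γ (h.orb.2 h1), fun e => ⟨h.W_le (mem_Wu.2 e), fun γ h1 => e γ (h.orb.1 h1)⟩⟩

omit [LocE] in
theorem U1.bt (h : U1 Z α u) : BT Z 𝐍(Lu Z u) α := by
  obtain ⟨β, hβ, h1⟩ := Cnt.fix2 h.two h.nZ h.fix
  have hE : Ea Z α ≤ Lu Z u := (closure_le _).2 fun x hx => h.mem_Lu hx.1 hx.2 h.fix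
  obtain ⟨g, hg, e⟩ := h.orb.2 h1
  exact bt_of (norm_ne c (ne_bot_of_le (Ea_ne_bot α) hE) fun e =>
    cent1_ne_top c h.fix (ne_one_of_two h.two) (top_le_iff.1 (e.ge.trans ZZ_le)))
    (hE.trans le_normalizer) (not_le_of_ne hg (e ▸ hβ))

omit [LocE] in
theorem U1.zz (h : U1 Z α u) : ZZ Z 𝐍(Lu Z u) = Lu Z u := by
  refine le_antisymm ((closure_le _).2 fun z hz => ?_) ((closure_le _).2 fun z hz =>
    mem_ZZ hz.1 (cent_le_N Ω u hz.2))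
  obtain ⟨γ, h1⟩ := exists_fix Ω hz.1
  exact h.mem_Lu hz.1 h1 (h.orb.1 (h.bt.mem_orb hz.1 hz.2 h1))

variable [m : M0 Ω Z]

omit [Be.BeI] [Cnt] in
theorem loc_of (b : BT Z N α) (hE : Ea Z α ≤ N) (tZ : t ∈ Z) (tN : t ∈ N) (h : t • α = β)
    (hne : α ≠ β) : ∃ Q K j, Loc Z N α β t (Ea Z α) Q K #|Ea Z α| j := by
  obtain ⟨E, Q, K, q, j, l⟩ := LocE.ex b tZ tN h hne
  obtain rfl : E = Ea Z α := by
    ext x
    rw [l.memE, m.memE]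
    exact or_congr_right ⟨fun h => ⟨h.1, h.2.2⟩, fun h => ⟨h.1, hE (mem_Ea h.1 h.2), h.2⟩⟩
  obtain rfl := l.cardE
  exact ⟨Q, K, j, l⟩

theorem U1.loc (h : U1 Z α u) (hne : α ≠ β) (h1 : u • β = β) :
    ∃ t Q K j, t ∈ 𝐂[u] ∧ Loc Z 𝐍(Lu Z u) α β t (Ea Z α) Q K #|Ea Z α| j := by
  obtain ⟨t, tZ, tu, h2⟩ := Cnt.swap (Z := Z) (sq_of_two h.two) h.fix h1 hne
  obtain ⟨Q, K, j, l⟩ := loc_of h.bt (h.le.trans (cent_le_N Ω u)) tZ (cent_le_N Ω u tu) h2 hne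
  exact ⟨t, Q, K, j, tu, l⟩

theorem U1.loc' (h : U1 Z α u) :
    ∃ β t Q K j, Loc Z 𝐍(Lu Z u) α β t (Ea Z α) Q K #|Ea Z α| j := by
  obtain ⟨β, hβ, h1⟩ := Cnt.fix2 h.two h.nZ h.fix
  obtain ⟨t, Q, K, j, -, l⟩ := h.loc hβ.symm h1
  exact ⟨β, t, Q, K, j, l⟩

theorem sqE (α : Ω) : Sq (Ea Z α) := fun x hx => by
  rcases (m.memE α x).1 hx with rfl | h
  exacts [mul_one _, zsq (Ω := Ω) h.1]

theorem U1.mul (h : U1 Z α u) (he : e ∈ Ea Z α) : U1 Z α (u * e) := by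
  have h1 : u * e ∉ Ea Z α := fun h1 => by
    rcases (m.memE α u).1 (by simpa using mul_mem h1 (inv_mem he)) with h2 | h2
    exacts [ne_one_of_two h.two h2, h.nZ h2.1]
  refine ⟨two_of_sq ?_ fun h2 => h1 (h2 ▸ one_mem _), fun h2 => h1 (mem_Ea h2 ?_),
    mul_mem h.cE ((sqE α).cent he)⟩
  · rw [mul_assoc, ← mul_assoc e, mem_cent.1 h.cE e he, mul_assoc, sqE α e he, mul_one,
      sq_of_two h.two]
  · rw [mul_smul, Ea_le_st he, h.fix]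

theorem U1.cj (h : U1 Z α u) (he : e ∈ Ea Z α) : ∃ s : G, s • α = α ∧ s * u * s⁻¹ = u * e := by
  by_cases e1 : e = 1
  · exact ⟨1, one_smul _ _, by simp [e1]⟩
  obtain ⟨β, t, Q, K, j, l⟩ := h.loc'
  obtain ⟨k, hk, k1⟩ := exists_k l
  have hf : k * e * k⁻¹ ∈ Ea Z α := conj_mem_of_mem_normalizer (l.sing.norm hk) he
  have f1 : k * e * k⁻¹ ≠ 1 := by simpa using e1
  have f2 : k * e * k⁻¹ * e ≠ 1 := fun h1 => k1 (l.sing.free k hk e he e1 (by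
    rw [← mul_inv_eq_iff_eq_mul, eq_inv_of_mul_eq_one_left h1, (sqE α).inv he]))
  generalize k * e * k⁻¹ = f at hf f1 f2
  have h' := h.mul hf
  obtain ⟨β', t', Q', K', j', l'⟩ := h'.loc'
  obtain ⟨s, hs, h1⟩ := l'.sing.tr f hf f1 (f * e) (mul_mem hf he) f2
  have h2 : s * (u * f) = u * f * s := mem_cent1.1 (ZZ_le (h'.zz ▸ l'.KL hs))
  refine ⟨s, Kα l' hs, ?_⟩
  calc s * u * s⁻¹ = s * (u * f) * s⁻¹ * (s * f * s⁻¹) := by
        rw [conj_mul, mul_assoc u, sqE α f hf, mul_one]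
    _ = u * e := by rw [h1, h2, mul_inv_cancel_right, mul_assoc, ← mul_assoc f, sqE α f hf, one_mul]

omit [LocE] m in
theorem U1.fx (h : U1 Z α u) (l : Loc Z 𝐍(Lu Z u) α β t E Q K q j) : fx Ω u = q ^ j + 1 := by
  rw [← l.card, As.fx]
  congr 1
  ext γ
  exact h.orb.symm

theorem U1.card (h : U1 Z α u) (l : Loc Z 𝐍(Lu Z u) α β t (Ea Z α) Q K q j) :
    Nat.card Ω = 1 + q ^ j * (1 + (q ^ j + 1) * (q - 1)) := by
  obtain ⟨e, he, h1⟩ := exists_II c.toRed α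
  have hI : II Z α ∩ 𝐂[u] = II Z α := Set.inter_eq_left.2 fun x hx => h.le (mem_Ea hx.1 hx.2)
  obtain ⟨-, n, h2, h3, -⟩ := Cnt.cnt h.two h.nZ h.fix (e := e) (hI.symm ▸ ⟨he, h1⟩)
  obtain ⟨s, -, hs⟩ := h.cj (mem_Ea he h1)
  have h4 : (II Z α).ncard + 1 = q := by
    rw [← l.cardE, ← Set.ncard_insert_of_notMem (a := 1) (fun e => ne_one_of_two (c.two 1 e.1) rfl),
      ← Nat.card_coe_set_eq]
    exact Nat.card_congr (Equiv.setCongr (Set.ext fun x => (m.memE α x).symm))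
  have h5 := four_le l
  rw [hI] at h2 h3
  obtain rfl : n = 1 := by
    have : n * (II Z α).ncard = 1 * (II Z α).ncard := by omega
    exact Nat.eq_of_mul_eq_mul_right (by omega) this
  rw [← hs, fx_conj, h.fx l] at h3
  rw [show q - 1 = (II Z α).ncard by omega]
  nlinarith

variable (Ω Z) in
/-- the constants `q`, `j` -/
class M2 (q j : outParam ℕ) : Prop extends M0 Ω Z where
  card : Nat.card Ω = 1 + q ^ j * (1 + (q ^ j + 1) * (q - 1))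
  cardE : ∀ α : Ω, #|Ea Z α| = q
  loc : ∀ {α β : Ω} {u : G}, U1 Z α u → α ≠ β → u • β = β →
    ∃ t Q K, t ∈ 𝐂[u] ∧ Loc Z 𝐍(Lu Z u) α β t (Ea Z α) Q K q j

theorem m2 : ∃ q j, M2 Ω Z q j := by
  have := c.nontriv
  obtain ⟨α, β, hne⟩ := exists_pair_ne Ω
  obtain ⟨u, h, h1⟩ := m.ex α β hne
  obtain ⟨t, Q, K, j, -, l⟩ := h.loc hne h1
  refine ⟨_, j, @M2.mk _ _ _ _ _ _ _ m (h.card l) (fun γ => card_Ea γ α) fun {γ δ w} h2 h3 h4 => ?_⟩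
  obtain ⟨t', Q', K', j', h5, l'⟩ := h2.loc h3 h4
  have e := (h.card l).symm.trans (h2.card l')
  rw [card_Ea γ α] at l' e
  have h6 := four_le l
  generalize #|Ea Z α| = q at *
  have mono : StrictMono fun f : ℕ => 1 + f * (1 + (f + 1) * (q - 1)) :=
    strictMono_nat_of_lt_succ fun f => by nlinarith
  obtain rfl := Nat.pow_right_injective (by omega : 2 ≤ q) (mono.injective e)
  exact ⟨t', Q', K', h5, l'⟩

end Cfsg.Agent.As.V5
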