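import Cfsg.Agent.As.VE2

/-! ZD, part 2, slice VE: the structure of `V = ET`. -/

set_option autoImplicit false
set_option maxHeartbeats 400000

namespace Cfsg.Agent.As.V5

open Subgroup MulAction Cfsg.Agent.H1 Cfsg.Agent.L Cfsg.Agent.FT
open Cfsg.Agent.Be (invs conj_smul_smul sq_of_two inv_of_two two_of_sq ne_one_of_two two_conj)
open Cfsg.Agent.Be.P1 (orb self_mem_orb smul_mem_orb orb_mono not_le_of_ne orb_finite)
open Cfsg.Agent.Sg (Sq)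
open scoped Pointwise commutatorElement

variable {G Ω : Type} [Group G] [MulAction G Ω] {Z : Set G}
variable {N E Q K Q' K' : Subgroup G} {α β β' γ : Ω} {t t' g e f s u v w x y z : G} {q j : ℕ}

local notation "St" => stabilizer G

/-- `T = C_W(u)` -/
abbrev TT (Ω : Type) [MulAction G Ω] (u : G) : Subgroup G := Wu Ω u ⊓ 𝐂[u]

theorem norm_TT [Finite G] (h : g ∈ 𝐂[u]) : g ∈ 𝐍(TT Ω u) :=
  inf_normalizer_le_normalizer_inf ⟨norm_Wu h, le_normalizer h⟩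

theorem conj_TT (g u : G) : g ⋆ TT Ω u = TT Ω (g * u * g⁻¹) := by
  rw [conj_inf, conj_Wu, conj_cent1]

theorem cent_mul (he : e ∈ E) (h : g ∈ 𝐂[u] ⊓ 𝐂(E)) : g ∈ 𝐂[u * e] :=
  mem_cent1.2 (by rw [← mul_assoc, mem_cent1.1 h.1, mul_assoc, ← mem_cent.1 h.2 e he, mul_assoc])

variable [Finite G] [c : Ctx Ω Z] [Be.BeI] [Cnt] [LocE] [m : M2 Ω Z q j]

include m in
theorem U1.lc (h : U1 Z α u) : ∃ β t Q K, Loc Z 𝐍(Lu Z u) α β t (Ea Z α) Q K q j := by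
  obtain ⟨β, hβ, h1⟩ := Cnt.fix2 h.two h.nZ h.fix
  obtain ⟨t, Q, K, -, l⟩ := m.loc h hβ.symm h1
  exact ⟨β, t, Q, K, l⟩

include m in
theorem U1.cent (h : U1 Z α u) : Lu Z u ≤ 𝐂(Wu Ω u) := by
  obtain ⟨β, t, Q, K, l⟩ := h.lc
  simpa only [h.zz, h.ker] using l.cent

include m in
theorem U1.E_le (h : U1 Z α u) : Ea Z α ≤ Lu Z u :=
  (closure_le _).2 fun _ hx => h.mem_Lu hx.1 hx.2 h.fix

include m in
theorem U1.WE (h : U1 Z α u) : Wu Ω u ≤ 𝐂(Ea Z α) := le_cent_symm (h.E_le.trans h.cent)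

include m in
theorem U1.orb_w (h : U1 Z α u) (hw : w ∈ Wu Ω u) (h1 : w ≠ 1) :
    BT Z 𝐂[w] α ∧ Be.P1.orb 𝐂[w] α = {γ | u • γ = γ} := by
  obtain ⟨β, t, Q, K, l⟩ := h.lc
  have hL : Lu Z u ≤ 𝐂[w] := h.cent.trans (cent_le_cent1 hw)
  have wα := mem_Wu.1 hw α h.fix
  have tL : t ∈ 𝐂[w] := hL (h.zz ▸ mem_ZZ l.tZ l.tN)
  have b := bt_of (cent1_ne_top c wα h1) (h.E_le.trans hL) (not_le_of_ne tL (l.tα ▸ l.ne.symm))
  obtain ⟨Q', K', j', l'⟩ := loc_of b (h.E_le.trans hL) l.tZ tL l.tα l.ne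
  rw [m.cardE] at l'
  have sub : {γ | u • γ = γ} ⊆ Be.P1.orb 𝐂[w] α := fun γ hγ => orb_mono hL (h.orb_L hγ)
  have h2 := Set.ncard_le_ncard sub (orb_finite _ _)
  have h3 : {γ : Ω | u • γ = γ}.ncard = q ^ j + 1 := h.fx l
  have h4 := four_le l
  refine ⟨b, (Set.eq_of_subset_of_ncard_le sub ?_ (orb_finite _ _)).symm⟩
  rw [h3, l'.card] at h2 ⊢
  have h5 : j ≤ j' := (Nat.pow_le_pow_iff_right (by omega)).1 (by omega : q ^ j ≤ q ^ j')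
  have h6 := l.three.trans l'.three.symm
  by_cases e : j' = j
  · rw [e]
  obtain ⟨rfl, rfl⟩ : j = 1 ∧ j' = 3 := by have := l.jj; have := l'.jj; omega
  have := finΩ c.toRed
  have h7 : Be.P1.orb 𝐂[w] α = Set.univ := Set.eq_of_subset_of_ncard_le (Set.subset_univ _) (by
    rw [Set.ncard_univ, m.card, l'.card]
    obtain ⟨r, rfl⟩ : ∃ r, q = r + 1 := ⟨q - 1, by omega⟩
    rw [Nat.add_sub_cancel]; apply le_of_eq; ring)
  exact (h1 (c.faith w fun γ => orb_cent_le wα (h7 ▸ Set.mem_univ γ))).elim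

include m in
theorem U1.fix_w (h : U1 Z α u) (hw : w ∈ Wu Ω u) (h1 : w ≠ 1) (hγ : w • γ = γ) : u • γ = γ := by
  by_cases e : α = γ
  · exact e ▸ h.fix
  have wα := mem_Wu.1 hw α h.fix
  obtain ⟨u', h2, h3⟩ := m.ex α γ e
  obtain ⟨a, ha, aα⟩ := exists_II c.toRed α
  obtain ⟨b, hb, bγ⟩ := exists_II c.toRed γ
  obtain ⟨t, tZ, -, tα, -, tN⟩ := exists_conj_swap ha hb aα bγ e
  obtain ⟨L, hL⟩ : ∃ L, L = Ea Z α ⊔ Ea Z γ := ⟨_, rfl⟩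
  have l1 : Ea Z α ≤ L := hL ▸ le_sup_left
  have l2 : Ea Z γ ≤ L := hL ▸ le_sup_right
  have hE : Ea Z α ≤ 𝐍(L) := l1.trans le_normalizer
  have tN' : t ∈ 𝐍(L) := le_normalizer (tN L (l1 (mem_Ea ha aα)) (l2 (mem_Ea hb bγ)))
  have l3 : L ≠ ⊤ := fun e => cent1_ne_top c h2.fix (ne_one_of_two h2.two)
    (top_le_iff.1 (e.ge.trans (hL.le.trans (sup_le h2.le (h2.cls h3).le))))
  have b : BT Z 𝐍(L) α := bt_of (norm_ne c (ne_bot_of_le (Ea_ne_bot α) l1) l3) hE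
    (not_le_of_ne tN' (by rw [tα]; exact Ne.symm e))
  obtain ⟨Q', K', j', l⟩ := loc_of b hE tZ tN' tα e
  have wN : w ∈ 𝐍(L) := hL ▸ le_normalizer_sup (zpowers_le.2 (norm_Ea wα))
    (zpowers_le.2 (norm_Ea hγ)) (mem_zpowers w)
  have h4 := (l.a1 w wN wα hγ (h.WE hw)).1
  have h5 : γ ∈ Be.P1.orb 𝐂[w] α := ⟨t, mem_cent1_comm.1 h4, tα⟩
  rwa [(h.orb_w hw h1).2] at h5

include m in
theorem U1.W_eq (h : U1 Z α u) (hw : w ∈ Wu Ω u) (h1 : w ≠ 1) : Wu Ω w = Wu Ω u := by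
  ext x
  rw [mem_Wu, mem_Wu]
  exact ⟨fun e γ hγ => e γ (mem_Wu.1 hw γ hγ), fun e γ hγ => e γ (h.fix_w hw h1 hγ)⟩

include m in
theorem U1.L_eq (h : U1 Z α u) (hw : w ∈ Wu Ω u) (h1 : w ≠ 1) : Lu Z w = Lu Z u := by
  refine le_antisymm ((closure_le _).2 fun z hz => ?_) ((closure_le _).2 fun z hz =>
    mem_ZZ hz.1 (cent_le_cent1 hw (h.cent (mem_ZZ hz.1 hz.2))))
  obtain ⟨γ, h2⟩ := exists_fix Ω hz.1
  obtain ⟨b, h3⟩ := h.orb_w hw h1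
  exact h.mem_Lu hz.1 h2 (h3.le (b.mem_orb hz.1 hz.2 h2))

include m in
theorem U1.E_inf (h : U1 Z α u) : Ea Z α ⊓ Wu Ω u = ⊥ := by
  obtain ⟨β, t, Q, K, l⟩ := h.lc
  rw [← h.ker, E_inf_W l]

include m in
theorem U1.W_inf (h : U1 Z α u) (he : e ∈ Ea Z α) (h1 : e ≠ 1) : Wu Ω u ⊓ Wu Ω (u * e) = ⊥ :=
  eq_bot_iff.2 fun w hw => by
    by_contra h2
    have h3 : u * e ∈ Wu Ω u := by
      rw [← h.W_eq hw.1 h2, (h.mul he).W_eq hw.2 h2]; exact self_mem_Wu _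
    exact h1 (h.E_inf.le ⟨he, (mul_mem_cancel_left (self_mem_Wu u)).1 h3⟩)

include m in
theorem U1.T_le (h : U1 Z α u) : TT Ω u ≤ 𝐂[u] ⊓ 𝐂(Ea Z α) :=
  le_inf inf_le_right (inf_le_left.trans h.WE)

include m in
theorem U1.Te_le (h : U1 Z α u) (he : e ∈ Ea Z α) : TT Ω (u * e) ≤ 𝐂[u] ⊓ 𝐂(Ea Z α) := fun x hx => by
  have h1 := (h.mul he).T_le hx
  exact ⟨by simpa [mul_assoc, sqE α e he] using cent_mul he h1, h1.2⟩

include m in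
theorem U1.T_inf (h : U1 Z α u) (he : e ∈ Ea Z α) (h1 : e ≠ 1) : TT Ω u ⊓ TT Ω (u * e) = ⊥ :=
  eq_bot_iff.2 (h.W_inf he h1 ▸ inf_le_inf inf_le_left inf_le_left)

include m in
theorem U1.T_comm (h : U1 Z α u) (he : e ∈ Ea Z α) (h1 : e ≠ 1) : TT Ω (u * e) ≤ 𝐂(TT Ω u) :=
  le_cent_symm (le_cent_of_disjoint (fun _ hx => norm_TT (h.Te_le he hx).1)
    (fun _ hx => norm_TT (cent_mul he (h.T_le hx))) (h.T_inf he h1))

include m in
theorem U1.T_comm' (h : U1 Z α u) (he : e ∈ Ea Z α) (hf : f ∈ Ea Z α) (h1 : f ≠ e) :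
    TT Ω (u * f) ≤ 𝐂(TT Ω (u * e)) := by
  have := (h.mul he).T_comm (mul_mem he hf) fun h2 =>
    h1 (by rw [eq_inv_of_mul_eq_one_right h2, (sqE α).inv he])
  rwa [mul_assoc, ← mul_assoc e, sqE α e he, one_mul] at this

include m in
theorem U1.mod (h : U1 Z α u) : (Ea Z α ⊔ Wu Ω u) ⊓ 𝐂[u] = Ea Z α ⊔ TT Ω u :=
  sup_inf_modular h.le (Or.inl (le_norm_of_le_cent h.WE))

section Loc
variable (h : U1 Z α u) (l : Loc Z 𝐍(Lu Z u) α β t (Ea Z α) Q K q j)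
include h l

omit [LocE] m in
theorem U1.Lu_le : ZZ Z 𝐍(Lu Z u) ≤ 𝐂[u] := h.zz.le.trans ZZ_le

omit [LocE] m in
theorem U1.Q_le : Q ≤ 𝐂[u] ⊓ 𝐂(Ea Z α) := le_inf ((QL l).trans (h.Lu_le l)) l.QE

omit [Be.BeI] [LocE] m in
theorem U1.CB_le : 𝐂[u] ⊓ 𝐂(Ea Z α) ≤ 𝐍(Lu Z u) ⊓ St α := by
  obtain ⟨a, ha, h1⟩ := exists_II c.toRed α
  exact inf_le_inf (cent_le_N Ω u) ((cent_le_cent1 (mem_Ea ha h1)).trans (cent1_le_stab ha h1))

omit [LocE] m in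
theorem U1.conj_K (hk : g ∈ K) (e : G) : g ⋆ TT Ω (u * e) = TT Ω (u * (g * e * g⁻¹)) := by
  rw [conj_TT, ← conj_mul, mem_cent1.1 (h.Lu_le l (l.KL hk)), mul_inv_cancel_right]

include m in
theorem U1.conj_cent (he : e ∈ Ea Z α) (h1 : e ≠ 1) (hk : g ∈ K) (h2 : g ≠ 1) :
    g ⋆ TT Ω (u * e) ≤ 𝐂(TT Ω (u * e)) := by
  rw [h.conj_K l hk]
  exact h.T_comm' he (conj_mem_of_mem_normalizer (l.sing.norm hk) he) fun h3 =>
    h2 (l.sing.free g hk e he h1 (mul_inv_eq_iff_eq_mul.1 h3))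

include m in
theorem U1.tE0 (he : e ∈ Ea Z α) (h1 : e ≠ 1) : TT Ω (u * e) ≤ Ea Z α ⊔ Ker 𝐍(Lu Z u) α := by
  intro x hx
  have xC := h.Te_le he hx
  have xN := h.CB_le l xC
  suffices ∃ y ∈ Ea Z α ⊔ Ker 𝐍(Lu Z u) α, y⁻¹ * x ∈ Ker 𝐍(Lu Z u) α by
    obtain ⟨y, h2, h3⟩ := this
    simpa using mul_mem h2 (mem_sup_right h3)
  by_cases hj : j = 3
  · obtain ⟨v, vL, v1, v2, v3, v4, p, n, hp, hp2, v5, -⟩ := l.v0 hj
    have v6 : Odd (orderOf v) := v5 ▸ (hp.odd_of_ne_two hp2).pow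
    have vT : v ∈ 𝐍(TT Ω (u * e)) := norm_TT (cent_mul he ⟨h.Lu_le l vL, v3⟩)
    have A := cent3 l hj (ZZ_le vL) v1 v2 v3 v6 v4 (A := TT Ω (u * e) ⊓ Q) inf_le_right
      (inf_normalizer_le_normalizer_inf ⟨vT, normQ l ⟨ZZ_le vL, v1⟩⟩) fun k hk k1 =>
        (conj_mono k inf_le_left).trans ((h.conj_cent l he h1 hk k1).trans (cent_anti inf_le_left))
    obtain ⟨y, hy, h2⟩ := dec l xN.1 xN.2
    have yN := mul_mem (inv_mem (le_inf (QN l) (Qα l) hy)) xN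
    have h3 := l.a3 _ yN.1 yN.2 h2 (mul_mem (inv_mem (l.QE hy)) xC.2) fun z hz => by
      have e : ⁅z, y⁻¹ * x⁆ = ⁅z, y⁻¹⁆ * (y⁻¹ * ⁅z, x⁆ * y) := by
        simp only [commutatorElement_def]; group
      rw [e]
      refine mul_mem (der_le l (commutator_mem_commutator hz (inv_mem hy)))
        (conj_mem_of_mem_normalizer' (le_norm_of_le_cent (QEW l) hy) (A ?_))
      rw [inf_comm]
      exact comm_le_inf ((h.Te_le he).trans ((h.CB_le l).trans (normQ l)))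
        (fun a ha => norm_TT (cent_mul he (h.Q_le l ha))) (commutator_mem_commutator hz hx)
    refine ⟨y, mem_of_v l vL v1 v2 v3 v6 v4 hy (A ⟨?_, ?_⟩), h3⟩
    · have e : ⁅y, v⁆ = x * (v * x⁻¹ * v⁻¹) := by
        have := mem_cent.1 (l.cent vL) _ (inv_mem h3)
        calc ⁅y, v⁆ = x * ((y⁻¹ * x)⁻¹ * v) * y⁻¹ * v⁻¹ := by rw [commutatorElement_def]; group
          _ = _ := by rw [this]; group
      rw [e]
      exact mul_mem hx (conj_mem_of_mem_normalizer vT (inv_mem hx))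
    · rw [commutatorElement_def, mul_assoc, mul_assoc]
      exact Q.mul_mem hy (by
        simpa [mul_assoc] using conj_mem_of_mem_normalizer (normQ l ⟨ZZ_le vL, v1⟩) (Q.inv_mem hy))
  obtain ⟨y, hy, h2⟩ := dec' l hj xN.1 xN.2 xC.2
  refine ⟨y, ?_, h2⟩
  rcases l.jj with hj | hj | hj'
  · exact le1 l hj hy
  swap
  · exact (hj hj').elim
  refine cent2 l hj hy fun k hk => ?_
  by_cases k1 : k = 1
  · simpa [k1] using self_mem_cent1 y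
  have h3 := mem_cent.1 (h.conj_cent l he h1 hk k1 (conj_mem_conj k hx)) x hx
  obtain ⟨w, rfl⟩ : ∃ w, x = y * w := ⟨y⁻¹ * x, by simp⟩
  rw [inv_mul_cancel_left] at h2
  have h4 := mem_cent.1 (KW l hk) w h2
  have h5 := mem_cent.1 (QW l hy) w h2
  have h6 := mem_cent.1 (QW l (conj_mem_of_mem_normalizer (KQ l hk) hy)) w h2
  rw [← conj_mul, ← h4, mul_inv_cancel_right] at h3
  generalize k * y * k⁻¹ = y' at h3 h6
  refine mem_cent1.2 (mul_right_cancel (b := w * w) ?_)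
  calc y' * y * (w * w) = y' * w * (y * w) := by rw [mul_assoc y', mul_assoc y', ← mul_assoc w, h5, mul_assoc]
    _ = y * y' * (w * w) := by rw [← h3, mul_assoc y, mul_assoc y, ← mul_assoc w, h6, mul_assoc]

end Loc

end Cfsg.Agent.As.V5
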